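import Mathlib
import Cfsg.Agent.LargeExtra.Local
import Cfsg.Agent.Lib.PermDec
import Cfsg.Agent.LargeExtra.TwoCentral
import Cfsg.Agent.Lib.Refl
import Cfsg.Agent.LargeExtra.Perp
import Cfsg.Agent.LargeExtra.KillNine.PairConj
import Cfsg.Agent.FastGrp
import Cfsg.Agent.Prune
set_option linter.all false

section
prune_inst 0x7fbcfffbaef8a9dfffff7fffa6dfcffc39911fffe6dff94bffe9fdff4bdf036f0fe1fb878de410fc9ef6e21690ba7853fbffdfffe26bf87ffffd5ff45ffbee5ff7ffbd0c51dfb8b41ffc6ffffbf27fae7f3fffffffffffffffffffffffffffffffbfffffffff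

-- part: TypeD4Three/StarEdge
section
prune_inst 0x10000510046200000000058201001c46ae000192006b00014000004004c00f0160058721b4601210001286540038004002000010406000000a00880041180080040212020040a000210000008804000000000000000000000000000000000000000000000
set_option linter.all false
open scoped Cfsg.Agent.FastGrp

-- part: TypeD4Three/StarModel
section
/-!
# The plane `W = 𝔽₂²` and some finite facts (S1763, case [P], piece (*); helper948)
-/

set_option autoImplicit false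

namespace Cfsg.Agent.TypeD4Three.StarModel

/-- the plane `𝔽₂²` -/
abbrev W := ZMod 2 × ZMod 2

/-- the symplectic form of `W` -/
def om (x y : W) : ZMod 2 := x.1 * y.2 + x.2 * y.1

theorem om_self (x : W) : om x x = 0 := by revert x; decide

theorem om_zero_left (x : W) : om 0 x = 0 := by revert x; decide

theorem om_zero_right (x : W) : om x 0 = 0 := by revert x; decide

theorem om_nondeg (x : W) (h : ∀ y, om x y = 0) : x = 0 := by
  revert x; decide

/-- The normal four-group of `Sym(4)`, elementwise. -/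
def isV (p : Equiv.Perm (Fin 4)) : Prop := p * p = 1 ∧ (p = 1 ∨ ∀ k, p k ≠ k)

instance (p : Equiv.Perm (Fin 4)) : Decidable (isV p) := by unfold isV; infer_instance

theorem isV_one : isV 1 := by decide

theorem isV_mul (p q : Equiv.Perm (Fin 4)) (hp : isV p) (hq : isV q) : isV (p * q) := by
  revert p q; (delta Cfsg.Agent.TypeD4Three.StarModel.isV; set_option synthInstance.maxSize 2000 in open scoped Cfsg.Agent.Lib.PermDec in decide +kernel)

theorem isV_inv (p : Equiv.Perm (Fin 4)) (hp : isV p) : isV p⁻¹ := by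
  revert p; decide +kernel

theorem isV_conj (p q : Equiv.Perm (Fin 4)) (hp : isV p) : isV (q * p * q⁻¹) := by
  revert p q; (delta Cfsg.Agent.TypeD4Three.StarModel.isV; set_option synthInstance.maxSize 2000 in open scoped Cfsg.Agent.Lib.PermDec in decide +kernel)

/-- Two commuting involutions outside the four-group have their product in it. -/
theorem isV_mul_of_not (p q : Equiv.Perm (Fin 4)) (hp : p * p = 1) (hq : q * q = 1)
    (hpq : p * q = q * p) (hp' : ¬ isV p) (hq' : ¬ isV q) : isV (p * q) := by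
  revert p q; (delta Cfsg.Agent.TypeD4Three.StarModel.isV; set_option synthInstance.maxSize 2000 in open scoped Cfsg.Agent.Lib.PermDec in decide +kernel)

/-- `Sym(4)` contains no elementary abelian group of order 8. -/
theorem elem_ab_aux : ∀ p q : Equiv.Perm (Fin 4), (p * p = 1 ∧ q * q = 1 ∧ p * q = q * p ∧
    p ≠ 1 ∧ q ≠ 1 ∧ p ≠ q) → ∀ r : Equiv.Perm (Fin 4), (r * r = 1 ∧ p * r = r * p ∧ q * r = r * q) →
      (r = 1 ∨ r = p ∨ r = q ∨ r = p * q) := by
  (set_option synthInstance.maxSize 2000 in open scoped Cfsg.Agent.Lib.PermDec in decide +kernel)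

theorem elem_ab (p q : Equiv.Perm (Fin 4)) (hp : p * p = 1) (hq : q * q = 1) (hpq : p * q = q * p)
    (hp1 : p ≠ 1) (hq1 : q ≠ 1) (hne : p ≠ q) (r : Equiv.Perm (Fin 4)) (hr : r * r = 1)
    (h1 : p * r = r * p) (h2 : q * r = r * q) : r = 1 ∨ r = p ∨ r = q ∨ r = p * q :=
  elem_ab_aux p q ⟨hp, hq, hpq, hp1, hq1, hne⟩ r ⟨hr, h1, h2⟩

section lin

variable (g : Equiv.Perm W) (hg : ∀ x y, g (x + y) = g x + g y)

theorem om_map : ∀ (g : Equiv.Perm W), (∀ x y, g (x + y) = g x + g y) → ∀ x y,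
    om (g x) (g y) = om x y := by decide +kernel

theorem map_zero' (g : Equiv.Perm W) (hg : ∀ x y, g (x + y) = g x + g y) : g 0 = 0 := by
  have := hg 0 0
  rw [add_zero] at this
  exact left_eq_add.1 this

/-- An even automorphism of `W` of order at most 2 is trivial. -/
theorem even_invol : ∀ (g : Equiv.Perm W), (∀ x y, g (x + y) = g x + g y) →
    (∀ x, g (g x) = x) → Equiv.Perm.sign g = 1 → ∀ x, g x = x := by decide +kernel

/-- The odd involutions. -/
theorem odd_invol : ∀ (g : Equiv.Perm W), ((∀ x y, g (x + y) = g x + g y) ∧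
    (∀ x, g (g x) = x) ∧ Equiv.Perm.sign g = -1) →
    ∃ i : W, (i ≠ 0 ∧ g i = i ∧ ∀ x, g x = x → x = 0 ∨ x = i) ∧
      ∃ v : W, v + g v = i ∧ om v (g v) = 1 := by
  decide +kernel

end lin

end Cfsg.Agent.TypeD4Three.StarModel
end

-- part: TypeD4Three/StarFrame
section
/-!
# S1763, case [P]: coordinates of `V = Q / ⟨z⟩` and the subgroup `C1` of `C_G(z)` (helper948)

`Frame lz`: `V = V₀ ⊥ V₁ ⊥ V₂ ⊥ V₃`, each `V_k` identified with `W = 𝔽₂²`, `C_G(z)` permutes the `V_k`.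
`C1` consists of the elements inducing an element of the four-group on the four planes with constant sign.
`rho4 : C_G(z) →* Sym(4)` has kernel inside `C1`.
-/

set_option autoImplicit false

namespace Cfsg.Agent.TypeD4Three.StarFrame

open Cfsg.Agent.Co2Type.Quad Cfsg.Agent.LargeExtra.Base Cfsg.Agent.LargeExtra.Local
open Cfsg.Agent.TypeD4Three.StarModel

variable {G : Type*} [Group G] {Q : Subgroup G} {z : G}

/-- Coordinates for `V = Q / ⟨z⟩`. -/
structure Frame (lz : Large Q z) where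
  φ : lz.V ≃+ (Fin 4 → W)
  hb : ∀ v w, lz.b v w = ∑ k, om (φ v k) (φ w k)
  π : ↥(Subgroup.centralizer ({z} : Set G)) → Equiv.Perm (Fin 4)
  g : ↥(Subgroup.centralizer ({z} : Set G)) → Fin 4 → Equiv.Perm W
  gadd : ∀ c k x y, g c k (x + y) = g c k x + g c k y
  hact : ∀ c v k, φ (lz.act c v) (π c k) = g c k (φ v k)
  even : ∀ c, ∏ k, Equiv.Perm.sign (g c k) = 1

theorem p_inv (p : Equiv.Perm (Fin 4)) (k : Fin 4) : p (p⁻¹ k) = k := Equiv.apply_symm_apply p k

theorem inv_p (p : Equiv.Perm (Fin 4)) (k : Fin 4) : p⁻¹ (p k) = k := Equiv.symm_apply_apply p k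

namespace Frame

variable {lz : Large Q z} (F : Frame lz)

/-- the vector `x` in the plane `k` -/
noncomputable def sg (k : Fin 4) (x : W) : lz.V := F.φ.symm (Pi.single k x)

theorem φ_sg (k : Fin 4) (x : W) : F.φ (F.sg k x) = Pi.single k x := F.φ.apply_symm_apply _

theorem sg_same (k : Fin 4) (x : W) : F.φ (F.sg k x) k = x := by rw [φ_sg, Pi.single_eq_same]

theorem sg_ne {k j : Fin 4} (h : j ≠ k) (x : W) : F.φ (F.sg k x) j = 0 := by
  rw [φ_sg, Pi.single_eq_of_ne h]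

theorem g_zero (c : ↥(Subgroup.centralizer ({z} : Set G))) (k : Fin 4) : F.g c k 0 = 0 :=
  map_zero' _ (F.gadd c k)

theorem act_sg (c : ↥(Subgroup.centralizer ({z} : Set G))) (k : Fin 4) (x : W) :
    lz.act c (F.sg k x) = F.sg (F.π c k) (F.g c k x) := by
  apply F.φ.injective
  funext j
  obtain ⟨i, rfl⟩ := (F.π c).surjective j
  rw [F.hact]
  by_cases h : i = k
  · subst h; rw [sg_same, sg_same]
  · rw [F.sg_ne h, F.sg_ne (fun h' => h ((F.π c).injective h')), F.g_zero]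

theorem sg_inj {k j : Fin 4} {x y : W} (hx : x ≠ 0) (h : F.sg k x = F.sg j y) : k = j ∧ x = y := by
  have h1 : (Pi.single k x : Fin 4 → W) = Pi.single j y := by
    rw [← F.φ_sg, ← F.φ_sg, h]
  have h2 : k = j := by
    by_contra hk
    have := congrFun h1 k
    rw [Pi.single_eq_same, Pi.single_eq_of_ne hk] at this
    exact hx this
  subst h2
  refine ⟨rfl, ?_⟩
  have := congrFun h1 k
  rwa [Pi.single_eq_same, Pi.single_eq_same] at this

theorem g_ne {c : ↥(Subgroup.centralizer ({z} : Set G))} {k : Fin 4} {x : W} (hx : x ≠ 0) :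
    F.g c k x ≠ 0 := by
  intro h
  apply hx
  apply (F.g c k).injective
  rw [h, F.g_zero]

theorem pg_mul (c d : ↥(Subgroup.centralizer ({z} : Set G))) (k : Fin 4) {x : W} (hx : x ≠ 0) :
    F.π (c * d) k = F.π c (F.π d k) ∧ F.g (c * d) k x = F.g c (F.π d k) (F.g d k x) := by
  have h1 : lz.act (c * d) (F.sg k x) = lz.act c (lz.act d (F.sg k x)) := by
    rw [map_mul]; rfl
  rw [F.act_sg, F.act_sg, F.act_sg] at h1
  exact F.sg_inj (F.g_ne hx) h1

theorem π_mul (c d : ↥(Subgroup.centralizer ({z} : Set G))) : F.π (c * d) = F.π c * F.π d := by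
  ext k
  rw [(F.pg_mul c d k (x := (1, 0)) (by decide)).1]
  rfl

theorem g_mul (c d : ↥(Subgroup.centralizer ({z} : Set G))) (k : Fin 4) :
    F.g (c * d) k = F.g c (F.π d k) * F.g d k := by
  ext1 x
  by_cases hx : x = 0
  · subst hx; rw [Equiv.Perm.mul_apply, F.g_zero, F.g_zero, F.g_zero]
  · exact (F.pg_mul c d k hx).2

theorem g_eq_one_of_act {c : ↥(Subgroup.centralizer ({z} : Set G))} (h : lz.act c = 1) :
    F.π c = 1 ∧ ∀ k, F.g c k = 1 := by
  have key : ∀ k (x : W), x ≠ 0 → F.π c k = k ∧ F.g c k x = x := by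
    intro k x hx
    have h1 := F.act_sg c k x
    rw [h] at h1
    have h2 := F.sg_inj hx h1
    exact ⟨h2.1.symm, h2.2.symm⟩
  refine ⟨?_, ?_⟩
  · ext k
    rw [(key k (1, 0) (by decide)).1]; rfl
  · intro k
    ext1 x
    by_cases hx : x = 0
    · subst hx; rw [F.g_zero]; rfl
    · exact (key k x hx).2

theorem π_one : F.π 1 = 1 := (F.g_eq_one_of_act (map_one _)).1

theorem g_one (k : Fin 4) : F.g 1 k = 1 := (F.g_eq_one_of_act (map_one _)).2 k

theorem π_inv (c : ↥(Subgroup.centralizer ({z} : Set G))) : F.π c⁻¹ = (F.π c)⁻¹ := by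
  rw [eq_inv_iff_mul_eq_one, ← π_mul, inv_mul_cancel, π_one]

/-- The sign of `c` on the plane `k`. -/
def sgn (c : ↥(Subgroup.centralizer ({z} : Set G))) (k : Fin 4) : ℤˣ := Equiv.Perm.sign (F.g c k)

theorem sgn_mul (c d : ↥(Subgroup.centralizer ({z} : Set G))) (k : Fin 4) :
    F.sgn (c * d) k = F.sgn c (F.π d k) * F.sgn d k := by
  rw [sgn, g_mul, Equiv.Perm.sign_mul]; rfl

theorem sgn_one (k : Fin 4) : F.sgn 1 k = 1 := by
  rw [sgn, g_one, Equiv.Perm.sign_one]

theorem sgn_inv (c : ↥(Subgroup.centralizer ({z} : Set G))) (k : Fin 4) :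
    F.sgn c⁻¹ k = F.sgn c ((F.π c)⁻¹ k) := by
  have h := F.sgn_mul c⁻¹ c ((F.π c)⁻¹ k)
  rw [inv_mul_cancel, sgn_one, p_inv] at h
  have h2 : F.sgn c⁻¹ k * F.sgn c ((F.π c)⁻¹ k) = 1 := h.symm
  rw [mul_eq_one_iff_eq_inv, Int.units_inv_eq_self] at h2
  exact h2

theorem sgn_prod (c : ↥(Subgroup.centralizer ({z} : Set G))) : ∏ k, F.sgn c k = 1 := F.even c

/-- the condition defining `C1` -/
def In1 (c : ↥(Subgroup.centralizer ({z} : Set G))) : Prop :=
  isV (F.π c) ∧ ∀ k l, F.sgn c k = F.sgn c l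

theorem in1_one : F.In1 1 := ⟨by rw [π_one]; exact isV_one, fun k l => by rw [sgn_one, sgn_one]⟩

theorem in1_mul {c d : ↥(Subgroup.centralizer ({z} : Set G))} (hc : F.In1 c) (hd : F.In1 d) :
    F.In1 (c * d) := by
  refine ⟨by rw [π_mul]; exact isV_mul _ _ hc.1 hd.1, fun k l => ?_⟩
  rw [sgn_mul, sgn_mul, hc.2 (F.π d k) (F.π d l), hd.2 k l]

theorem in1_inv {c : ↥(Subgroup.centralizer ({z} : Set G))} (hc : F.In1 c) : F.In1 c⁻¹ := by
  refine ⟨by rw [π_inv]; exact isV_inv _ hc.1, fun k l => ?_⟩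
  rw [sgn_inv, sgn_inv]
  exact hc.2 _ _

theorem in1_conj {c : ↥(Subgroup.centralizer ({z} : Set G))} (hc : F.In1 c)
    (d : ↥(Subgroup.centralizer ({z} : Set G))) : F.In1 (d * c * d⁻¹) := by
  refine ⟨by rw [π_mul, π_mul, π_inv]; exact isV_conj _ _ hc.1, fun k l => ?_⟩
  have key : ∀ k, F.sgn (d * c * d⁻¹) k =
      F.sgn d (F.π c ((F.π d)⁻¹ k)) * F.sgn c ((F.π d)⁻¹ k) * F.sgn d ((F.π d)⁻¹ k) := by
    intro k
    rw [sgn_mul, sgn_mul, sgn_inv, π_inv]
  -- the product of the signs of `d` over an orbit of `π c`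
  have h4 : ∀ (p : Equiv.Perm (Fin 4)), isV p → ∀ (e : Fin 4 → ℤˣ), ∏ k, e k = 1 →
      ∀ k l, e (p k) * e k = e (p l) * e l := by
    decide +kernel
  have h5 := h4 _ hc.1 (F.sgn d) (F.sgn_prod d) ((F.π d)⁻¹ k) ((F.π d)⁻¹ l)
  rw [key, key, hc.2 ((F.π d)⁻¹ k) ((F.π d)⁻¹ l)]
  calc F.sgn d (F.π c ((F.π d)⁻¹ k)) * F.sgn c ((F.π d)⁻¹ l) * F.sgn d ((F.π d)⁻¹ k)
      = (F.sgn d (F.π c ((F.π d)⁻¹ k)) * F.sgn d ((F.π d)⁻¹ k)) * F.sgn c ((F.π d)⁻¹ l) := by
        rw [mul_assoc, mul_comm (F.sgn c _), ← mul_assoc]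
    _ = _ := by rw [h5, mul_assoc, mul_comm (F.sgn d ((F.π d)⁻¹ l)), ← mul_assoc]

/-- the subgroup `C1` of `C_G(z)` -/
def C1 : Subgroup G where
  carrier := {u | ∃ h : u ∈ Subgroup.centralizer ({z} : Set G), F.In1 ⟨u, h⟩}
  one_mem' := ⟨one_mem _, F.in1_one⟩
  mul_mem' := by
    rintro a b ⟨ha, ha'⟩ ⟨hb, hb'⟩
    exact ⟨mul_mem ha hb, F.in1_mul ha' hb'⟩
  inv_mem' := by
    rintro a ⟨ha, ha'⟩
    exact ⟨inv_mem ha, F.in1_inv ha'⟩

theorem mem_C1 {u : G} : u ∈ F.C1 ↔ ∃ h : u ∈ Subgroup.centralizer ({z} : Set G), F.In1 ⟨u, h⟩ := Iff.rfl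

theorem C1_comm {u : G} (hu : u ∈ F.C1) : u * z = z * u := by
  obtain ⟨h, -⟩ := hu
  exact Subgroup.mem_centralizer_singleton_iff.1 h

theorem C1_conj {u c : G} (hu : u ∈ F.C1) (hc : c * z = z * c) : c * u * c⁻¹ ∈ F.C1 := by
  obtain ⟨h, h'⟩ := hu
  exact ⟨_, F.in1_conj h' ⟨c, Subgroup.mem_centralizer_singleton_iff.2 hc⟩⟩

theorem Q_le_C1 : Q ≤ F.C1 := by
  intro x hx
  have hc : x ∈ Subgroup.centralizer ({z} : Set G) :=
    Subgroup.mem_centralizer_singleton_iff.2 (lz.comm_z x hx)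
  have h1 := F.g_eq_one_of_act (c := ⟨x, hc⟩) (lz.act_mem ⟨x, hc⟩ hx)
  refine ⟨hc, by rw [h1.1]; exact isV_one, fun k l => ?_⟩
  rw [sgn, sgn, h1.2, h1.2]

/-! ### the action on the four even orientations -/

/-- even orientations normalised at `0` -/
abbrev X : Type := {o : Fin 4 → ℤˣ // o 0 = 1 ∧ ∏ k, o k = 1}

theorem card_X : Fintype.card X = 4 := by decide +kernel

/-- the action -/
def smulX (c : ↥(Subgroup.centralizer ({z} : Set G))) (o : X) : X :=
  ⟨fun k => (F.sgn c ((F.π c)⁻¹ 0) * o.1 ((F.π c)⁻¹ 0)) * (F.sgn c ((F.π c)⁻¹ k) * o.1 ((F.π c)⁻¹ k)), by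
    constructor
    · exact Int.units_mul_self _
    · have h1 : ∏ k, (F.sgn c ((F.π c)⁻¹ k) * o.1 ((F.π c)⁻¹ k)) = 1 := by
        rw [Equiv.prod_comp (F.π c)⁻¹ (fun k => F.sgn c k * o.1 k), Finset.prod_mul_distrib,
          F.sgn_prod, o.2.2, one_mul]
      rw [Finset.prod_mul_distrib, h1, mul_one, Finset.prod_const, Finset.card_univ, Fintype.card_fin]
      have : ∀ u : ℤˣ, u ^ 4 = 1 := by decide
      exact this _⟩

theorem smulX_coe (c : ↥(Subgroup.centralizer ({z} : Set G))) (o : X) (k : Fin 4) :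
    (F.smulX c o).1 k =
      (F.sgn c ((F.π c)⁻¹ 0) * o.1 ((F.π c)⁻¹ 0)) * (F.sgn c ((F.π c)⁻¹ k) * o.1 ((F.π c)⁻¹ k)) := rfl

theorem smulX_one (o : X) : F.smulX 1 o = o := by
  apply Subtype.ext
  funext k
  rw [smulX_coe, π_one, inv_one, sgn_one, sgn_one]
  show 1 * o.1 0 * (1 * o.1 k) = o.1 k
  rw [o.2.1, one_mul, one_mul, one_mul]

theorem smulX_mul (c d : ↥(Subgroup.centralizer ({z} : Set G))) (o : X) :
    F.smulX (c * d) o = F.smulX c (F.smulX d o) := by
  apply Subtype.ext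
  funext k
  rw [smulX_coe, smulX_coe, smulX_coe, smulX_coe, π_mul, mul_inv_rev, sgn_mul, sgn_mul]
  simp only [Equiv.Perm.mul_apply, p_inv]
  generalize F.sgn c ((F.π c)⁻¹ 0) = a1
  generalize F.sgn d ((F.π d)⁻¹ ((F.π c)⁻¹ 0)) = a2
  generalize o.1 ((F.π d)⁻¹ ((F.π c)⁻¹ 0)) = a3
  generalize F.sgn c ((F.π c)⁻¹ k) = b1
  generalize F.sgn d ((F.π d)⁻¹ ((F.π c)⁻¹ k)) = b2
  generalize o.1 ((F.π d)⁻¹ ((F.π c)⁻¹ k)) = b3
  generalize F.sgn d ((F.π d)⁻¹ 0) * o.1 ((F.π d)⁻¹ 0) = s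
  have hs : s * s = 1 := Int.units_mul_self s
  calc a1 * a2 * a3 * (b1 * b2 * b3) = a1 * (a2 * a3) * (b1 * (b2 * b3)) * (s * s) := by
        rw [hs, mul_one, mul_assoc a1, mul_assoc b1]
    _ = a1 * (s * (a2 * a3)) * (b1 * (s * (b2 * b3))) := by
        simp only [mul_assoc, mul_comm, mul_left_comm]

/-- the homomorphism `C_G(z) → Sym(X)` -/
def rhoX : ↥(Subgroup.centralizer ({z} : Set G)) →* Equiv.Perm X where
  toFun c :=
    { toFun := F.smulX c
      invFun := F.smulX c⁻¹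
      left_inv := fun o => by rw [← smulX_mul, inv_mul_cancel, smulX_one]
      right_inv := fun o => by rw [← smulX_mul, mul_inv_cancel, smulX_one] }
  map_one' := by ext1 o; exact F.smulX_one o
  map_mul' c d := by ext1 o; exact F.smulX_mul c d o

theorem in1_of_rhoX {c : ↥(Subgroup.centralizer ({z} : Set G))} (h : F.rhoX c = 1) : F.In1 c := by
  have h0 : ∀ o, F.smulX c o = o := fun o => congrFun (congrArg DFunLike.coe h) o
  have h1 := h0 ⟨fun _ => 1, rfl, by simp⟩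
  have h2 : ∀ k, F.sgn c ((F.π c)⁻¹ 0) * F.sgn c ((F.π c)⁻¹ k) = 1 := by
    intro k
    have := congrFun (congrArg Subtype.val h1) k
    rw [smulX_coe, mul_one, mul_one] at this
    exact this
  have h3 : ∀ k, F.sgn c k = F.sgn c ((F.π c)⁻¹ 0) := by
    intro k
    have := h2 (F.π c k)
    rw [inv_p, mul_comm, mul_eq_one_iff_eq_inv, Int.units_inv_eq_self] at this
    exact this
  have h4 : ∀ p : Equiv.Perm (Fin 4), (∀ o : Fin 4 → ℤˣ, o 0 = 1 → ∏ k, o k = 1 →
      ∀ k, o (p 0) * o (p k) = o k) → isV p⁻¹ := by decide +kernel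
  refine ⟨?_, fun k l => by rw [h3 k, h3 l]⟩
  have h5 := h4 (F.π c)⁻¹ (fun o ho ho' k => by
    have := congrFun (congrArg Subtype.val (h0 ⟨o, ho, ho'⟩)) k
    rw [smulX_coe, h3 ((F.π c)⁻¹ k)] at this
    refine Eq.trans ?_ this
    show _ = F.sgn c ((F.π c)⁻¹ 0) * o ((F.π c)⁻¹ 0) * (F.sgn c ((F.π c)⁻¹ 0) * o ((F.π c)⁻¹ k))
    have hs : F.sgn c ((F.π c)⁻¹ 0) * F.sgn c ((F.π c)⁻¹ 0) = 1 := Int.units_mul_self _
    calc o ((F.π c)⁻¹ 0) * o ((F.π c)⁻¹ k)
        = (F.sgn c ((F.π c)⁻¹ 0) * F.sgn c ((F.π c)⁻¹ 0)) * (o ((F.π c)⁻¹ 0) * o ((F.π c)⁻¹ k)) := by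
          rw [hs, one_mul]
      _ = _ := by simp only [mul_assoc, mul_comm, mul_left_comm])
  rwa [inv_inv] at h5

/-- the homomorphism `C_G(z) → Sym(4)` with kernel in `C1` -/
noncomputable def rho4 : ↥(Subgroup.centralizer ({z} : Set G)) →* Equiv.Perm (Fin 4) :=
  (Equiv.permCongrHom (Fintype.equivFinOfCardEq card_X)).toMonoidHom.comp F.rhoX

theorem in1_of_rho4 {c : ↥(Subgroup.centralizer ({z} : Set G))} (h : F.rho4 c = 1) : F.In1 c := by
  apply F.in1_of_rhoX
  apply (Equiv.permCongrHom (Fintype.equivFinOfCardEq card_X)).injective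
  rw [map_one]
  exact h

end Frame

end Cfsg.Agent.TypeD4Three.StarFrame
end

-- part: TypeD4Three/StarEdge
section
/-!
# S1763, case [P]: inner elements, edges, symmetry (first part of (*); helper948)
-/

set_option autoImplicit false

namespace Cfsg.Agent.TypeD4Three.StarEdge

open Cfsg.Agent.Co2Type.Quad Cfsg.Agent.LargeExtra.Base Cfsg.Agent.LargeExtra.Local
open Cfsg.Agent.TypeD4Three.StarModel Cfsg.Agent.TypeD4Three.StarFrame

variable {G : Type*} [Group G] {Q : Subgroup G} {z : G} {lz : Large Q z}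

/-- The facts about `C1` used in (*). -/
structure Hyp (F : Frame lz) : Prop where
  conj_of_wt4 : ∀ x : Q, (∀ k, F.φ (lz.pr x) k ≠ 0) → IsConj z (x : G)
  edge : ∀ {A : Subgroup G} {a : G}, Pair Q z A a → ∀ {u : G}, u * z = z * u → u * a = a * u →
    (u ∈ F.C1 ↔ ∃ x ∈ A, ∃ y ∈ Q, x * z = z * x ∧ y * a = a * y ∧ u = x * y)
  invol : ∀ {w : G}, w ∈ F.C1 → w * w = 1 → w ∉ Q → ∃ (A : Subgroup G) (a : G), Pair Q z A a ∧ w ∈ A

/-- `u` is inner at the conjugate `s` of `z` -/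
def In (F : Frame lz) (s u : G) : Prop := ∃ g, g * z * g⁻¹ = s ∧ g⁻¹ * u * g ∈ F.C1

variable {F : Frame lz}

theorem in_iff {g s u : G} (hg : g * z * g⁻¹ = s) : In F s u ↔ g⁻¹ * u * g ∈ F.C1 := by
  constructor
  · rintro ⟨g', hg', h⟩
    have hc : (g⁻¹ * g') * z = z * (g⁻¹ * g') := by
      have h1 : g' * z * g'⁻¹ = g * z * g⁻¹ := hg'.trans hg.symm
      calc g⁻¹ * g' * z = g⁻¹ * (g' * z * g'⁻¹) * g' := by group
        _ = g⁻¹ * (g * z * g⁻¹) * g' := by rw [h1]
        _ = z * (g⁻¹ * g') := by group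
    have h2 := F.C1_conj h hc
    have e : g⁻¹ * g' * (g'⁻¹ * u * g') * (g⁻¹ * g')⁻¹ = g⁻¹ * u * g := by group
    rwa [e] at h2
  · intro h
    exact ⟨g, hg, h⟩

theorem in_z {u : G} : In F z u ↔ u ∈ F.C1 := by
  have h : (1 : G) * z * 1⁻¹ = z := by group
  rw [in_iff h]
  have e : (1 : G)⁻¹ * u * 1 = u := by group
  rw [e]

theorem in_conj (k : G) {s u : G} (h : In F s u) : In F (k * s * k⁻¹) (k * u * k⁻¹) := by
  obtain ⟨g, hg, hu⟩ := h
  refine ⟨k * g, ?_, ?_⟩
  · rw [← hg]; group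
  · have e : (k * g)⁻¹ * (k * u * k⁻¹) * (k * g) = g⁻¹ * u * g := by group
    rwa [e]

theorem in_mul {s u v : G} (h : In F s u) (h' : In F s v) : In F s (u * v) := by
  obtain ⟨g, hg, hu⟩ := h
  rw [in_iff hg] at h'
  refine ⟨g, hg, ?_⟩
  have e : g⁻¹ * (u * v) * g = (g⁻¹ * u * g) * (g⁻¹ * v * g) := by group
  rw [e]
  exact mul_mem hu h'

theorem in_inv {s u : G} (h : In F s u) : In F s u⁻¹ := by
  obtain ⟨g, hg, hu⟩ := h
  refine ⟨g, hg, ?_⟩
  have e : g⁻¹ * u⁻¹ * g = (g⁻¹ * u * g)⁻¹ := by group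
  rw [e]
  exact inv_mem hu

theorem in_conj_mem {s u c : G} (h : In F s u) (hc : c * s = s * c) : In F s (c * u * c⁻¹) := by
  have h1 := in_conj c h
  have e : c * s * c⁻¹ = s := by rw [hc]; group
  rwa [e] at h1

/-- the edge lemma at `z` -/
theorem edge_in (H : Hyp F) {A : Subgroup G} {a : G} (p : Pair Q z A a) {u : G}
    (h1 : u * z = z * u) (h2 : u * a = a * u) : In F z u ↔ In F a u := by
  obtain ⟨g, g1, g2, g3, g4⟩ := p.isConj
  have e1 : g⁻¹ * z * g = a := by rw [← g2]; group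
  have e2 : g⁻¹ * a * g = z := by rw [← g1]; group
  have hA : ∀ x ∈ A, g⁻¹ * x * g ∈ Q := by
    intro x hx
    rw [g3] at hx
    obtain ⟨y, hy, rfl⟩ := hx
    have : g⁻¹ * (MulAut.conj g).toMonoidHom y * g = y := by
      show g⁻¹ * (g * y * g⁻¹) * g = y
      group
    rwa [this]
  have hQ : ∀ x ∈ Q, g⁻¹ * x * g ∈ A := by
    intro x hx
    rw [g4] at hx
    obtain ⟨y, hy, rfl⟩ := hx
    have : g⁻¹ * (MulAut.conj g).toMonoidHom y * g = y := by
      show g⁻¹ * (g * y * g⁻¹) * g = y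
      group
    rwa [this]
  have hA' : ∀ x ∈ A, g * x * g⁻¹ ∈ Q := by
    intro x hx
    rw [g4]
    exact ⟨x, hx, rfl⟩
  have hQ' : ∀ x ∈ Q, g * x * g⁻¹ ∈ A := by
    intro x hx
    rw [g3]
    exact ⟨x, hx, rfl⟩
  have hcz : (g⁻¹ * u * g) * z = z * (g⁻¹ * u * g) := by
    calc g⁻¹ * u * g * z = g⁻¹ * u * (g * z * g⁻¹) * g := by group
      _ = g⁻¹ * (u * a) * g := by rw [g1]; group
      _ = g⁻¹ * (a * u) * g := by rw [h2]
      _ = (g⁻¹ * a * g) * (g⁻¹ * u * g) := by group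
      _ = z * (g⁻¹ * u * g) := by rw [e2]
  have hca : (g⁻¹ * u * g) * a = a * (g⁻¹ * u * g) := by
    calc g⁻¹ * u * g * a = g⁻¹ * u * (g * a * g⁻¹) * g := by group
      _ = g⁻¹ * (u * z) * g := by rw [g2]; group
      _ = g⁻¹ * (z * u) * g := by rw [h1]
      _ = (g⁻¹ * z * g) * (g⁻¹ * u * g) := by group
      _ = a * (g⁻¹ * u * g) := by rw [e1]
  rw [in_z, in_iff g1, H.edge p h1 h2, H.edge p hcz hca]
  -- the exchange `x' y' = y' (y'⁻¹ x' y')`
  have ex : ∀ {x' y' w : G}, x' ∈ Q → y' ∈ A → x' * a = a * x' → y' * z = z * y' → w = x' * y' →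
      ∃ x ∈ A, ∃ y ∈ Q, x * z = z * x ∧ y * a = a * y ∧ w = x * y := by
    intro x' y' w hx hy hxa hyz hw
    have hyz' : y'⁻¹ * z = z * y'⁻¹ := by
      calc y'⁻¹ * z = y'⁻¹ * (z * y') * y'⁻¹ := by group
        _ = y'⁻¹ * (y' * z) * y'⁻¹ := by rw [hyz]
        _ = z * y'⁻¹ := by group
    have hya : y' * a = a * y' := p.la.comm_z y' hy
    have hm := p.lz.conj_mem y'⁻¹ hyz' x' hx
    rw [inv_inv] at hm
    refine ⟨y', hy, y'⁻¹ * x' * y', hm, hyz, ?_, by rw [hw]; group⟩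
    calc y'⁻¹ * x' * y' * a = y'⁻¹ * x' * (y' * a) := by group
      _ = y'⁻¹ * (x' * a) * y' := by rw [hya]; group
      _ = y'⁻¹ * (a * x') * y' := by rw [hxa]
      _ = y'⁻¹ * (a * y') * (y'⁻¹ * x' * y') := by group
      _ = y'⁻¹ * (y' * a) * (y'⁻¹ * x' * y') := by rw [hya]
      _ = a * (y'⁻¹ * x' * y') := by group
  constructor
  · rintro ⟨x, hx, y, hy, hxz, hya, hu⟩
    refine ex (hA x hx) (hQ y hy) ?_ ?_ (w := g⁻¹ * u * g) (by rw [hu]; group)
    · calc g⁻¹ * x * g * a = g⁻¹ * x * g * (g⁻¹ * z * g) := by rw [e1]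
        _ = g⁻¹ * (x * z) * g := by group
        _ = g⁻¹ * (z * x) * g := by rw [hxz]
        _ = (g⁻¹ * z * g) * (g⁻¹ * x * g) := by group
        _ = a * (g⁻¹ * x * g) := by rw [e1]
    · calc g⁻¹ * y * g * z = g⁻¹ * y * g * (g⁻¹ * a * g) := by rw [e2]
        _ = g⁻¹ * (y * a) * g := by group
        _ = g⁻¹ * (a * y) * g := by rw [hya]
        _ = (g⁻¹ * a * g) * (g⁻¹ * y * g) := by group
        _ = z * (g⁻¹ * y * g) := by rw [e2]
  · rintro ⟨x, hx, y, hy, hxz, hya, hu⟩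
    refine ex (hA' x hx) (hQ' y hy) ?_ ?_ (w := u) ?_
    · calc g * x * g⁻¹ * a = g * x * g⁻¹ * (g * z * g⁻¹) := by rw [g1]
        _ = g * (x * z) * g⁻¹ := by group
        _ = g * (z * x) * g⁻¹ := by rw [hxz]
        _ = (g * z * g⁻¹) * (g * x * g⁻¹) := by group
        _ = a * (g * x * g⁻¹) := by rw [g1]
    · calc g * y * g⁻¹ * z = g * y * g⁻¹ * (g * a * g⁻¹) := by rw [g2]
        _ = g * (y * a) * g⁻¹ := by group
        _ = g * (a * y) * g⁻¹ := by rw [hya]
        _ = (g * a * g⁻¹) * (g * y * g⁻¹) := by group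
        _ = z * (g * y * g⁻¹) := by rw [g2]
    · calc u = g * (g⁻¹ * u * g) * g⁻¹ := by group
        _ = g * (x * y) * g⁻¹ := by rw [hu]
        _ = g * x * g⁻¹ * (g * y * g⁻¹) := by group

/-- the general edge lemma -/
theorem edge_in' (H : Hyp F) {A : Subgroup G} {a k : G} (p : Pair Q z A a) {u : G}
    (h1 : u * (k * z * k⁻¹) = k * z * k⁻¹ * u) (h2 : u * (k * a * k⁻¹) = k * a * k⁻¹ * u) :
    In F (k * z * k⁻¹) u ↔ In F (k * a * k⁻¹) u := by
  have h1' : (k⁻¹ * u * k) * z = z * (k⁻¹ * u * k) := by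
    calc k⁻¹ * u * k * z = k⁻¹ * (u * (k * z * k⁻¹)) * k := by group
      _ = k⁻¹ * (k * z * k⁻¹ * u) * k := by rw [h1]
      _ = z * (k⁻¹ * u * k) := by group
  have h2' : (k⁻¹ * u * k) * a = a * (k⁻¹ * u * k) := by
    calc k⁻¹ * u * k * a = k⁻¹ * (u * (k * a * k⁻¹)) * k := by group
      _ = k⁻¹ * (k * a * k⁻¹ * u) * k := by rw [h2]
      _ = a * (k⁻¹ * u * k) := by group
  have h3 := edge_in H p h1' h2'
  have key : ∀ s, In F (k * s * k⁻¹) u ↔ In F s (k⁻¹ * u * k) := by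
    intro s
    constructor
    · intro h
      have := in_conj k⁻¹ h
      have e1 : k⁻¹ * (k * s * k⁻¹) * k⁻¹⁻¹ = s := by group
      have e2 : k⁻¹ * u * k⁻¹⁻¹ = k⁻¹ * u * k := by group
      rwa [e1, e2] at this
    · intro h
      have := in_conj k h
      have e2 : k * (k⁻¹ * u * k) * k⁻¹ = u := by group
      rwa [e2] at this
  rw [key, key, h3]

/-- a conjugate of `z` inside `Q` -/
theorem exists_pair {a : G} (lz : Large Q z) (ha : IsConj z a) (haQ : a ∈ Q) (hne : a ≠ z) :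
    ∃ A, Pair Q z A a := by
  obtain ⟨g, hg⟩ := isConj_iff.1 ha
  refine ⟨Q.map (MulAut.conj g).toMonoidHom, ?_⟩
  have := pair_of_conj lz (g := g) (by rw [hg]; exact haQ) (by rw [hg]; exact hne)
  rwa [hg] at this

theorem sq_of_isConj (lz : Large Q z) {a : G} (ha : IsConj z a) : a * a = 1 := by
  obtain ⟨g, hg⟩ := isConj_iff.1 ha
  rw [← hg]
  calc g * z * g⁻¹ * (g * z * g⁻¹) = g * (z * z) * g⁻¹ := by group
    _ = 1 := by rw [lz.z_sq]; group

/-- (P2) -/
theorem in_of_mem (H : Hyp F) {s : G} (hs : IsConj z s) (h : s ∈ F.C1) : In F s z := by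
  have hzz : In F z z := in_z.2 (F.Q_le_C1 lz.z_mem)
  have hsz : s * z = z * s := F.C1_comm h
  by_cases h1 : s = z
  · rw [h1]; exact hzz
  by_cases h2 : s ∈ Q
  · obtain ⟨A, p⟩ := exists_pair lz hs h2 h1
    exact (edge_in H p rfl hsz.symm).1 hzz
  · obtain ⟨A, a, p, hA⟩ := H.invol h (sq_of_isConj lz hs) h2
    have h3 : In F a z := (edge_in H p rfl p.comm_za.symm).1 hzz
    -- the edge `a - s`
    obtain ⟨k, k1, k2, k3, k4⟩ := p.isConj
    have hs' : k⁻¹ * s * k ∈ Q := by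
      rw [k3] at hA
      obtain ⟨y, hy, rfl⟩ := hA
      have : k⁻¹ * (MulAut.conj k).toMonoidHom y * k = y := by
        show k⁻¹ * (k * y * k⁻¹) * k = y
        group
      rwa [this]
    have hc : IsConj z (k⁻¹ * s * k) := by
      obtain ⟨g, hg⟩ := isConj_iff.1 hs
      refine isConj_iff.2 ⟨k⁻¹ * g, ?_⟩
      rw [← hg]; group
    have hne : k⁻¹ * s * k ≠ z := by
      intro h'
      apply h2
      have : s = a := by
        rw [← k1, ← h']; group
      rw [this]; exact p.a_mem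
    obtain ⟨B, q⟩ := exists_pair lz hc hs' hne
    have e : k * (k⁻¹ * s * k) * k⁻¹ = s := by group
    have h4 := edge_in' H (k := k) q (u := z) (by rw [k1]; exact p.comm_za.symm)
      (by rw [e]; exact hsz.symm)
    rw [k1, e] at h4
    exact h4.1 h3

/-- the relation "inner" is symmetric on commuting conjugates of `z` -/
theorem in_symm (H : Hyp F) {s t : G} (hs : IsConj z s) (h : In F t s) : In F s t := by
  obtain ⟨g, hg, hu⟩ := h
  have h1 : IsConj z (g⁻¹ * s * g) := by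
    obtain ⟨k, hk⟩ := isConj_iff.1 hs
    refine isConj_iff.2 ⟨g⁻¹ * k, ?_⟩
    rw [← hk]; group
  have h2 := in_conj g (in_of_mem H h1 hu)
  have e : g * (g⁻¹ * s * g) * g⁻¹ = s := by group
  rwa [e, hg] at h2

/-- (P3) -/
theorem not_in_z (H : Hyp F) {t : G} (htC : t ∉ F.C1) : ¬ In F t z := by
  intro h
  exact htC (in_z.1 (in_symm H (IsConj.refl z) h))

theorem not_in_wt4 (H : Hyp F) {t : G} (htz : t * z = z * t) (htC : t ∉ F.C1) {c : Q}
    (hc : (c : G) * t = t * c) (hw : ∀ k, F.φ (lz.pr c) k ≠ 0) : ¬ In F t c := by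
  intro h
  have h1 := H.conj_of_wt4 c hw
  have h2 := in_symm H h1 h
  have hne : (c : G) ≠ z := by
    intro h'
    apply hw 0
    rw [lz.pr_eq_zero.2 (Or.inr h'), map_zero]
    rfl
  obtain ⟨A, p⟩ := exists_pair lz h1 c.2 hne
  exact htC (in_z.1 ((edge_in H p htz hc.symm).2 h2))

end Cfsg.Agent.TypeD4Three.StarEdge
end

private theorem dce_b874e5bccac8 : _root_.True := by
  try have : _root_.True := by simp only [_root_.Cfsg.Agent.TypeD4Three.StarFrame.Frame.sgn.eq_1]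
  exact _root_.True.intro
end

-- part: TypeD4Three/LocIface
section
prune_inst 0x20004410606200000000051202001c668e000192006b00004020020007c90f0060058721b6201610801286440038004002000110404000000a000a0041180080000212020040a000200000008804000000000000000000000000000000000000000000000
set_option linter.all false
open scoped Cfsg.Agent.FastGrp

-- part: TypeD4Three/Star
section
/-!
# S1763, case [P]: piece (*): `Z ∩ C ⊆ C1` (helper948)

`star`: under `Hyp F`, each conjugate of `z` commuting with `z` lies in `C1`.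
-/

set_option autoImplicit false

namespace Cfsg.Agent.TypeD4Three.Star

open Cfsg.Agent.Co2Type.Quad Cfsg.Agent.LargeExtra.Base Cfsg.Agent.LargeExtra.Local
open Cfsg.Agent.TypeD4Three.StarModel Cfsg.Agent.TypeD4Three.StarFrame Cfsg.Agent.TypeD4Three.StarEdge

variable {G : Type*} [Group G] {Q : Subgroup G} {z : G} {lz : Large Q z}

/-- an element commuting with `z`, as an element of the centralizer -/
def cen {z t : G} (h : t * z = z * t) : ↥(Subgroup.centralizer ({z} : Set G)) :=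
  ⟨t, Subgroup.mem_centralizer_singleton_iff.2 h⟩

/-- the vector `v` lifts to an element of `Q` commuting with `t` -/
def inR (lz : Large Q z) (t : G) (v : lz.V) : Prop := ∃ r : Q, lz.pr r = v ∧ (r : G) * t = t * r

section base

variable {t : G}

theorem inR_add {v w : lz.V} (hv : inR lz t v) (hw : inR lz t w) : inR lz t (v + w) := by
  obtain ⟨r, hr, hrt⟩ := hv
  obtain ⟨s, hs, hst⟩ := hw
  refine ⟨r * s, by rw [lz.pr_mul, hr, hs], ?_⟩
  show (r : G) * s * t = t * (r * s)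
  calc (r : G) * s * t = r * (s * t) := by group
    _ = r * t * s := by rw [hst]; group
    _ = t * (r * s) := by rw [hrt]; group

theorem act_act (ht : t * t = 1) (htz : t * z = z * t) (v : lz.V) :
    lz.act (cen htz) (lz.act (cen htz) v) = v := by
  have h1 : cen htz * cen htz = 1 := Subtype.ext ht
  have h2 : lz.act (cen htz) * lz.act (cen htz) = 1 := by rw [← map_mul, h1, map_one]
  exact congrArg (fun e : lz.V ≃ₗ[ZMod 2] lz.V => e v) h2

theorem inR_fix (htz : t * z = z * t) {v : lz.V} (hv : inR lz t v) : lz.act (cen htz) v = v := by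
  obtain ⟨r, hr, hrt⟩ := hv
  rw [← hr, lz.act_pr]
  congr 1
  apply Subtype.ext
  rw [lz.conjQ_coe]
  show t * (r : G) * t⁻¹ = r
  rw [← hrt]; group

theorem conj_of_fix (htz : t * z = z * t) {v : lz.V} (hv : lz.act (cen htz) v = v) {r : Q}
    (hr : lz.pr r = v) : t * (r : G) * t⁻¹ = r ∨ t * (r : G) * t⁻¹ = r * z := by
  rw [← hr, lz.act_pr] at hv
  have := lz.pr_eq_pr.1 hv
  rw [lz.conjQ_coe] at this
  exact this

theorem conj_of_not (htz : t * z = z * t) {v : lz.V} (hv : lz.act (cen htz) v = v)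
    (hn : ¬ inR lz t v) {r : Q} (hr : lz.pr r = v) : t * (r : G) * t⁻¹ = r * z := by
  rcases conj_of_fix htz hv hr with h | h
  · exfalso
    apply hn
    refine ⟨r, hr, ?_⟩
    calc (r : G) * t = t * r * t⁻¹ * t := by rw [h]
      _ = t * r := by group
  · exact h

theorem inR_or (htz : t * z = z * t) {v w : lz.V} (hv : lz.act (cen htz) v = v)
    (hw : lz.act (cen htz) w = w) (hnv : ¬ inR lz t v) (hnw : ¬ inR lz t w) : inR lz t (v + w) := by
  obtain ⟨r, hr⟩ := lz.pr_surjective v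
  obtain ⟨s, hs⟩ := lz.pr_surjective w
  have h1 := conj_of_not htz hv hnv hr
  have h2 := conj_of_not htz hw hnw hs
  refine ⟨r * s, by rw [lz.pr_mul, hr, hs], ?_⟩
  show (r : G) * s * t = t * (r * s)
  have h3 : t * (r * s) * t⁻¹ = r * s := by
    calc t * ((r : G) * s) * t⁻¹ = (t * r * t⁻¹) * (t * s * t⁻¹) := by group
      _ = r * (z * s) * z := by rw [h1, h2]; group
      _ = r * s * (z * z) := by rw [← lz.comm_z s s.2]; group
      _ = r * s := by rw [lz.z_sq, mul_one]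
  calc (r : G) * s * t = (t * (r * s) * t⁻¹) * t := by rw [h3]
    _ = t * (r * s) := by group

theorem inR_of (ht : t * t = 1) (htz : t * z = z * t) {v : lz.V}
    (hb : lz.b v (lz.act (cen htz) v) = 0) :
    ∃ r : Q, lz.pr r = v + lz.act (cen htz) v ∧ (r : G) * t = t * r ∧ (r : G) * r = 1 := by
  obtain ⟨q, rfl⟩ := lz.pr_surjective v
  rw [lz.act_pr] at hb ⊢
  have h1 := (lz.b_pr q (lz.conjQ (cen htz) q)).1 hb
  rw [lz.conjQ_coe] at h1
  have h1' : (q : G) * (t * q * t⁻¹) = t * q * t⁻¹ * q := h1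
  have hti : t⁻¹ = t := inv_eq_of_mul_eq_one_left ht
  have hqq : ∃ e : G, (q : G) * q = e ∧ e * e = 1 ∧ e * t = t * e := by
    rcases lz.sq q q.2 with h | h
    · exact ⟨1, h, one_mul _, by rw [one_mul, mul_one]⟩
    · exact ⟨z, h, lz.z_sq, htz.symm⟩
  obtain ⟨e, he1, he2, he3⟩ := hqq
  refine ⟨q * lz.conjQ (cen htz) q, by rw [lz.pr_mul], ?_, ?_⟩
  · show (q : G) * (t * q * t⁻¹) * t = t * (q * (t * q * t⁻¹))
    calc (q : G) * (t * q * t⁻¹) * t = t * q * t⁻¹ * q * t := by rw [h1']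
      _ = t * q * (t * q * t⁻¹) * (t * t) := by rw [hti]; simp only [mul_assoc, ht, mul_one]
      _ = t * (q * (t * q * t⁻¹)) := by rw [ht, mul_one, mul_assoc]
  · show (q : G) * (t * q * t⁻¹) * (q * (t * q * t⁻¹)) = 1
    calc (q : G) * (t * q * t⁻¹) * (q * (t * q * t⁻¹)) = q * (t * q * t⁻¹ * q) * (t * q * t⁻¹) := by group
      _ = q * (q * (t * q * t⁻¹)) * (t * q * t⁻¹) := by rw [h1']
      _ = (q * q) * (t * (q * q) * t⁻¹) := by group
      _ = e * (t * e * t⁻¹) := by rw [he1]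
      _ = e * e := by rw [← he3]; group
      _ = 1 := he2

theorem not_inR (ht : t * t = 1) (htz : t * z = z * t) {v : lz.V}
    (hb : lz.b v (lz.act (cen htz) v) = 1) : ¬ inR lz t (v + lz.act (cen htz) v) := by
  obtain ⟨q, rfl⟩ := lz.pr_surjective v
  rw [lz.act_pr] at hb ⊢
  have h1 := (lz.b_pr_one q (lz.conjQ (cen htz) q)).1 hb
  rw [lz.conjQ_coe] at h1
  have h1' : ¬ (q : G) * (t * q * t⁻¹) = t * q * t⁻¹ * q := by
    intro h'
    have h2 := (lz.b_pr q (lz.conjQ (cen htz) q)).2 h'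
    rw [h2] at hb
    exact absurd hb (by decide)
  have hti : t⁻¹ = t := inv_eq_of_mul_eq_one_left ht
  rintro ⟨r, hr, hrt⟩
  rw [← lz.pr_mul] at hr
  have h2 := lz.pr_eq_pr.1 hr
  apply h1'
  have h3 : ∃ e : G, (r : G) = q * (t * q * t⁻¹) * e ∧ e * t = t * e := by
    rcases h2 with h | h
    · exact ⟨1, by rw [mul_one]; exact h, by rw [one_mul, mul_one]⟩
    · exact ⟨z, h, htz.symm⟩
  obtain ⟨e, he, het⟩ := h3
  have h4 : t * (r : G) * t⁻¹ = r := by rw [← hrt]; group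
  rw [he] at h4
  have h5 : t * ((q : G) * (t * q * t⁻¹) * e) * t⁻¹ = (t * q * t⁻¹ * q) * e := by
    calc t * ((q : G) * (t * q * t⁻¹) * e) * t⁻¹
        = t * q * t * q * t⁻¹ * (e * t⁻¹) := by group
      _ = t * q * t * q * t⁻¹ * (e * t) := by rw [hti]
      _ = t * q * t * q * t⁻¹ * (t * e) := by rw [het]
      _ = t * q * t * q * e := by group
      _ = (t * q * t⁻¹ * q) * e := by rw [hti]
  rw [h5] at h4
  exact (mul_right_cancel h4).symm

end base

section frame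

variable {F : Frame lz} {t : G}

theorem b_sg_same (k : Fin 4) (x y : W) : lz.b (F.sg k x) (F.sg k y) = om x y := by
  rw [F.hb, Finset.sum_eq_single k]
  · rw [F.sg_same, F.sg_same]
  · intro j _ hj
    rw [F.sg_ne hj, F.sg_ne hj, om_zero_left]
  · intro h; exact absurd (Finset.mem_univ k) h

theorem b_sg_ne {k l : Fin 4} (h : k ≠ l) (x y : W) : lz.b (F.sg k x) (F.sg l y) = 0 := by
  rw [F.hb]
  refine Finset.sum_eq_zero fun j _ => ?_
  by_cases hj : j = k
  · subst hj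
    rw [F.sg_ne h y, om_zero_right]
  · rw [F.sg_ne hj x, om_zero_left]

theorem sg_add (k : Fin 4) (x y : W) : F.sg k (x + y) = F.sg k x + F.sg k y := by
  apply F.φ.injective
  rw [map_add, F.φ_sg, F.φ_sg, F.φ_sg, Pi.single_add]

theorem sg_zero (k : Fin 4) : F.sg k 0 = 0 := by
  apply F.φ.injective
  rw [F.φ_sg, Pi.single_zero, map_zero]

theorem g_sq (ht : t * t = 1) (htz : t * z = z * t) (k : Fin 4) (x : W) :
    F.g (cen htz) (F.π (cen htz) k) (F.g (cen htz) k x) = x := by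
  have h1 : cen htz * cen htz = 1 := Subtype.ext ht
  have h2 := F.g_mul (cen htz) (cen htz) k
  rw [h1, F.g_one] at h2
  exact (congrArg (fun e : Equiv.Perm W => e x) h2).symm

theorem π_sq (ht : t * t = 1) (htz : t * z = z * t) : F.π (cen htz) * F.π (cen htz) = 1 := by
  have h1 : cen htz * cen htz = 1 := Subtype.ext ht
  rw [← F.π_mul, h1, F.π_one]

theorem sgn_sq (ht : t * t = 1) (htz : t * z = z * t) (k : Fin 4) :
    F.sgn (cen htz) (F.π (cen htz) k) * F.sgn (cen htz) k = 1 := by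
  have h1 : cen htz * cen htz = 1 := Subtype.ext ht
  rw [← F.sgn_mul, h1, F.sgn_one]

/-- the vector moved by `t` along a non-fixed plane -/
theorem inR_move (ht : t * t = 1) (htz : t * z = z * t) {a : Fin 4} (ha : F.π (cen htz) a ≠ a) (x : W) :
    ∃ r : Q, lz.pr r = F.sg a x + F.sg (F.π (cen htz) a) (F.g (cen htz) a x) ∧ (r : G) * t = t * r ∧
      (r : G) * r = 1 := by
  have h := inR_of (lz := lz) ht htz (v := F.sg a x) (by rw [F.act_sg]; exact b_sg_ne (Ne.symm ha) _ _)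
  rwa [F.act_sg] at h

end frame

section inner

variable {F : Frame lz} {t : G}

theorem pr_mul_z (r : Q) {s : Q} (hs : (s : G) = r * z) : lz.pr s = lz.pr r :=
  lz.pr_eq_pr.2 (Or.inr hs)

/-- the homomorphism at `t` -/
theorem exists_rho (ht : IsConj z t) : ∃ ρ : ∀ r : G, r * t = t * r → Equiv.Perm (Fin 4),
    (∀ r hr s hs hrs, ρ (r * s) hrs = ρ r hr * ρ s hs) ∧ ∀ r hr, ρ r hr = 1 → In F t r := by
  obtain ⟨g, hg⟩ := isConj_iff.1 ht
  have key : ∀ r, r * t = t * r → (g⁻¹ * r * g) * z = z * (g⁻¹ * r * g) := by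
    intro r hr
    calc g⁻¹ * r * g * z = g⁻¹ * (r * (g * z * g⁻¹)) * g := by group
      _ = g⁻¹ * (r * t) * g := by rw [hg]
      _ = g⁻¹ * (t * r) * g := by rw [hr]
      _ = g⁻¹ * (g * z * g⁻¹ * r) * g := by rw [hg]
      _ = z * (g⁻¹ * r * g) := by group
  refine ⟨fun r hr => F.rho4 (cen (key r hr)), ?_, ?_⟩
  · intro r hr s hs hrs
    have h1 : cen (key (r * s) hrs) = cen (key r hr) * cen (key s hs) := by
      apply Subtype.ext
      show g⁻¹ * (r * s) * g = g⁻¹ * r * g * (g⁻¹ * s * g)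
      group
    show F.rho4 (cen (key (r * s) hrs)) = F.rho4 (cen (key r hr)) * F.rho4 (cen (key s hs))
    rw [h1, map_mul]
  · intro r hr h
    rw [in_iff hg]
    exact ⟨_, F.in1_of_rho4 h⟩

/-- an inner element of `Q` commutes with everything in `C_Q(t)` -/
theorem comm_of_in (H : Hyp F) (htC : t ∉ F.C1) {w : Q} (hin : In F t w) {r : Q} (hr : (r : G) * t = t * r) :
    lz.b (lz.pr w) (lz.pr r) = 0 := by
  rw [lz.b_pr]
  rcases lz.comm w w.2 r r.2 with h | h
  · exact h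
  · exfalso
    apply not_in_z H htC
    have h1 := in_conj_mem hin hr
    have h2 := in_mul (in_inv h1) hin
    have h3 : (r : G)⁻¹ * w = w * z * (r : G)⁻¹ := by
      calc (r : G)⁻¹ * w = (r : G)⁻¹ * (w * r) * (r : G)⁻¹ := by group
        _ = (r : G)⁻¹ * (r * w * z) * (r : G)⁻¹ := by rw [h]
        _ = w * z * (r : G)⁻¹ := by group
    have e : ((r : G) * w * (r : G)⁻¹)⁻¹ * w = z := by
      calc ((r : G) * w * (r : G)⁻¹)⁻¹ * w = r * (w : G)⁻¹ * ((r : G)⁻¹ * w) := by group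
        _ = r * (w : G)⁻¹ * (w * z * (r : G)⁻¹) := by rw [h3]
        _ = (r * z) * (r : G)⁻¹ := by group
        _ = z * r * (r : G)⁻¹ := by rw [lz.comm_z r r.2]
        _ = z := by group
    rwa [e] at h2

/-- `t` of order 2 fixing every plane: the case of two minus signs is impossible. -/
theorem alpha_one (H : Hyp F) (ht : IsConj z t) (htz : t * z = z * t) (htC : t ∉ F.C1)
    (hπ : F.π (cen htz) = 1) : False := by
  have ht2 := sq_of_isConj lz ht
  have hsgn : ∃ k l, F.sgn (cen htz) k ≠ F.sgn (cen htz) l := by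
    by_contra hcon
    push Not at hcon
    exact htC ⟨Subgroup.mem_centralizer_singleton_iff.2 htz,
      show isV (F.π (cen htz)) by rw [hπ]; exact isV_one, hcon⟩
  have hcomb : ∀ e : Fin 4 → ℤˣ, ∏ k, e k = 1 → (∃ k l, e k ≠ e l) →
      ∃ a b c d : Fin 4, a ≠ b ∧ a ≠ c ∧ a ≠ d ∧ b ≠ c ∧ b ≠ d ∧ c ≠ d ∧ e a = -1 ∧ e b = -1 ∧
        e c = 1 ∧ e d = 1 := by decide +kernel
  obtain ⟨a, b, c, d, hab, hac, had, hbc, hbd, hcd, ea, eb, ec, ed⟩ := hcomb _ (F.sgn_prod _) hsgn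
  have hfix : ∀ k, F.π (cen htz) k = k := fun k => by rw [hπ]; rfl
  have hgg : ∀ k x, F.g (cen htz) k (F.g (cen htz) k x) = x := by
    intro k x
    have := g_sq (F := F) ht2 htz k x
    rwa [hfix k] at this
  have hact : ∀ k x, lz.act (cen htz) (F.sg k x) = F.sg k (F.g (cen htz) k x) := by
    intro k x
    rw [F.act_sg, hfix k]
  have hc : ∀ x, F.g (cen htz) c x = x := even_invol _ (F.gadd _ c) (hgg c) ec
  have hd : ∀ x, F.g (cen htz) d x = x := even_invol _ (F.gadd _ d) (hgg d) ed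
  obtain ⟨i, ⟨hi0, hi1, hi2⟩, v, hv1, hv2⟩ := odd_invol _ ⟨F.gadd _ a, hgg a, ea⟩
  have hni : ¬ inR lz t (F.sg a i) := by
    have := not_inR (lz := lz) ht2 htz (v := F.sg a v) (by rw [hact, b_sg_same]; exact hv2)
    rwa [hact, ← sg_add, hv1] at this
  -- the elements `r_x`
  have hr : ∀ x : W × W, ∃ r : Q, (r : G) * t = t * r ∧ F.φ (lz.pr r) c = x.1 ∧
      F.φ (lz.pr r) d = x.2 ∧ (F.φ (lz.pr r) a = 0 ∨ F.φ (lz.pr r) a = i) ∧ F.φ (lz.pr r) b = 0 := by
    intro x
    have e1 : ∀ k, F.φ (F.sg c x.1 + F.sg d x.2) k =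
        (Pi.single c x.1 : Fin 4 → W) k + (Pi.single d x.2 : Fin 4 → W) k := by
      intro k; rw [map_add, F.φ_sg, F.φ_sg]; rfl
    by_cases h : inR lz t (F.sg c x.1 + F.sg d x.2)
    · obtain ⟨r, hr, hrt⟩ := h
      refine ⟨r, hrt, ?_, ?_, Or.inl ?_, ?_⟩
      · rw [hr, e1, Pi.single_eq_same, Pi.single_eq_of_ne hcd, add_zero]
      · rw [hr, e1, Pi.single_eq_same, Pi.single_eq_of_ne hcd.symm, zero_add]
      · rw [hr, e1, Pi.single_eq_of_ne hac, Pi.single_eq_of_ne had, add_zero]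
      · rw [hr, e1, Pi.single_eq_of_ne hbc, Pi.single_eq_of_ne hbd, add_zero]
    · obtain ⟨r, hr, hrt⟩ := inR_or htz (v := F.sg c x.1 + F.sg d x.2) (w := F.sg a i)
        (by rw [map_add, hact, hact, hc, hd]) (by rw [hact, hi1]) h hni
      have e2 : ∀ k, F.φ (lz.pr r) k = (Pi.single c x.1 : Fin 4 → W) k + (Pi.single d x.2 : Fin 4 → W) k +
          (Pi.single a i : Fin 4 → W) k := by
        intro k; rw [hr, map_add, Pi.add_apply, e1, F.φ_sg]
      refine ⟨r, hrt, ?_, ?_, Or.inr ?_, ?_⟩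
      · rw [e2, Pi.single_eq_same, Pi.single_eq_of_ne hcd, Pi.single_eq_of_ne hac.symm, add_zero,
          add_zero]
      · rw [e2, Pi.single_eq_same, Pi.single_eq_of_ne hcd.symm, Pi.single_eq_of_ne had.symm, zero_add,
          add_zero]
      · rw [e2, Pi.single_eq_of_ne hac, Pi.single_eq_of_ne had, Pi.single_eq_same, add_zero, zero_add]
      · rw [e2, Pi.single_eq_of_ne hbc, Pi.single_eq_of_ne hbd, Pi.single_eq_of_ne hab.symm, add_zero,
          add_zero]
  -- inner elements have trivial `c`, `d` components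
  have hin : ∀ w : Q, (w : G) * t = t * w → In F t w → F.φ (lz.pr w) c = 0 ∧ F.φ (lz.pr w) d = 0 := by
    intro w hw hwin
    have ha : F.φ (lz.pr w) a = 0 ∨ F.φ (lz.pr w) a = i := by
      apply hi2
      have h1 := F.hact (cen htz) (lz.pr w) a
      rw [inR_fix htz ⟨w, rfl, hw⟩, hfix a] at h1
      exact h1.symm
    have hpair : ∀ x : W × W, om (F.φ (lz.pr w) c) x.1 + om (F.φ (lz.pr w) d) x.2 = 0 := by
      intro x
      obtain ⟨r, hrt, r1, r2, r3, r4⟩ := hr x
      have h1 := comm_of_in H htC hwin hrt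
      rw [F.hb] at h1
      have hsum : ∀ f : Fin 4 → ZMod 2, ∑ k, f k = f a + f b + f c + f d := by
        intro f
        have : (Finset.univ : Finset (Fin 4)) = {a, b, c, d} := by
          have hcomb2 : ∀ a b c d : Fin 4, a ≠ b → a ≠ c → a ≠ d → b ≠ c → b ≠ d → c ≠ d →
              (Finset.univ : Finset (Fin 4)) = {a, b, c, d} := by decide +kernel
          exact hcomb2 a b c d hab hac had hbc hbd hcd
        rw [this, Finset.sum_insert, Finset.sum_insert, Finset.sum_insert, Finset.sum_singleton]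
        · ring
        · simpa using hcd
        · simpa using ⟨hbc, hbd⟩
        · simpa using ⟨hab, hac, had⟩
      rw [hsum, r1, r2, r4, om_zero_right] at h1
      have h2 : om (F.φ (lz.pr w) a) (F.φ (lz.pr r) a) = 0 := by
        rcases ha with h | h <;> rcases r3 with h' | h' <;> rw [h, h'] <;>
          first | exact om_zero_left _ | exact om_zero_right _ | exact om_self _
      rw [h2, zero_add, zero_add] at h1
      exact h1
    constructor
    · apply om_nondeg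
      intro y
      have := hpair (y, 0)
      rwa [om_zero_right, add_zero] at this
    · apply om_nondeg
      intro y
      have := hpair (0, y)
      rwa [om_zero_right, zero_add] at this
  obtain ⟨ρ, ρmul, ρin⟩ := exists_rho (F := F) ht
  choose r hrt r1 r2 _ _ using hr
  -- elements `r_x z^δ`
  let m : (W × W) × Bool → Q := fun p => if p.2 then r p.1 * ⟨z, lz.z_mem⟩ else r p.1
  have hm : ∀ p, (m p : G) * t = t * m p := by
    intro p
    show ((if p.2 then r p.1 * ⟨z, lz.z_mem⟩ else r p.1 : Q) : G) * t =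
      t * ((if p.2 then r p.1 * ⟨z, lz.z_mem⟩ else r p.1 : Q) : G)
    split_ifs
    · show (r p.1 : G) * z * t = t * (r p.1 * z)
      rw [mul_assoc, ← htz, ← mul_assoc, hrt]
      group
    · exact hrt _
  have hmpr : ∀ p, lz.pr (m p) = lz.pr (r p.1) := by
    intro p
    show lz.pr (if p.2 then r p.1 * ⟨z, lz.z_mem⟩ else r p.1 : Q) = _
    split_ifs
    · exact pr_mul_z _ rfl
    · rfl
  have hinj : Function.Injective fun p => ρ (m p) (hm p) := by
    intro p p' hpp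
    have hpp' : ρ (m p) (hm p) = ρ (m p') (hm p') := hpp
    have hw : (((m p)⁻¹ * m p' : Q) : G) * t = t * ((m p)⁻¹ * m p' : Q) := by
      show (m p : G)⁻¹ * m p' * t = t * ((m p : G)⁻¹ * m p')
      have h1 : (m p : G)⁻¹ * t = t * (m p : G)⁻¹ := by
        rw [inv_mul_eq_iff_eq_mul, ← mul_assoc, hm p, mul_assoc, mul_inv_cancel, mul_one]
      rw [mul_assoc, hm p', ← mul_assoc, h1, mul_assoc]
    have hw1 : ρ ((m p)⁻¹ * m p' : Q) hw = 1 := by
      have h2 : (m p : G) * ((m p)⁻¹ * m p' : Q) = m p' := by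
        show (m p : G) * ((m p : G)⁻¹ * m p') = m p'
        group
      have h3 := ρmul (m p) (hm p) _ hw (by rw [h2]; exact hm p')
      have h4 : ρ ((m p : G) * ((m p)⁻¹ * m p' : Q)) (by rw [h2]; exact hm p') = ρ (m p') (hm p') := by
        congr 1
      rw [h4, ← hpp'] at h3
      exact (mul_eq_left.1 h3.symm)
    have hw2 := ρin _ _ hw1
    obtain ⟨w1, w2⟩ := hin _ hw hw2
    rw [lz.pr_mul, lz.pr_inv, lz.neg_eq, hmpr, hmpr, map_add, Pi.add_apply, r1, r1] at w1
    rw [lz.pr_mul, lz.pr_inv, lz.neg_eq, hmpr, hmpr, map_add, Pi.add_apply, r2, r2] at w2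
    have haddW : ∀ x y : W, x + y = 0 → x = y := by decide
    have hx : p.1 = p'.1 := Prod.ext (haddW _ _ w1) (haddW _ _ w2)
    obtain ⟨x, δ⟩ := p
    obtain ⟨x', δ'⟩ := p'
    simp only at hx
    subst hx
    by_cases hδ : δ = δ'
    · rw [hδ]
    · exfalso
      apply not_in_z H htC
      have hz : (((m (x, δ))⁻¹ * m (x, δ') : Q) : G) = z := by
        cases δ <;> cases δ'
        · exact absurd rfl hδ
        · show (r x : G)⁻¹ * (r x * z) = z
          group
        · show (r x * z : G)⁻¹ * r x = z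
          rw [mul_inv_rev, lz.z_inv]; group
        · exact absurd rfl hδ
      rwa [hz] at hw2
  have hcard := Fintype.card_le_of_injective _ hinj
  rw [Fintype.card_prod, Fintype.card_prod, Fintype.card_perm] at hcard
  revert hcard
  decide

/-- lifts of `A_x = x + x^t` (`x` in a plane moved by `t`) which are never inner: impossible -/
theorem alpha_fam (H : Hyp F) (ht : IsConj z t) (htz : t * z = z * t) (htC : t ∉ F.C1) {a : Fin 4}
    (ha : F.π (cen htz) a ≠ a)
    (hn : ∀ (x : W) (r : Q), x ≠ 0 → (r : G) * t = t * r →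
      lz.pr r = F.sg a x + F.sg (F.π (cen htz) a) (F.g (cen htz) a x) → ¬ In F t r) : False := by
  have ht2 := sq_of_isConj lz ht
  obtain ⟨ρ, ρmul, ρin⟩ := exists_rho (F := F) ht
  obtain ⟨r, hr, hrt, hr2⟩ := inR_move (F := F) ht2 htz ha (1, 0)
  obtain ⟨s, hs, hst, hs2⟩ := inR_move (F := F) ht2 htz ha (0, 1)
  have hzt : z * t = t * z := htz.symm
  have hcomm : (r : G) * s = s * r := by
    rw [← lz.b_pr, hr, hs, map_add, map_add lz.b, LinearMap.add_apply, LinearMap.add_apply,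
      b_sg_same, b_sg_same, b_sg_ne (Ne.symm ha), b_sg_ne ha, om_map _ (F.gadd _ a)]
    decide
  have hadd : lz.pr (r * s) = F.sg a (1, 1) + F.sg (F.π (cen htz) a) (F.g (cen htz) a (1, 1)) := by
    have e1 : ((1, 1) : W) = (1, 0) + (0, 1) := by decide
    rw [lz.pr_mul, hr, hs, e1, F.gadd, sg_add, sg_add]
    abel
  have hrz : (r : G) * z * t = t * (r * z) := by
    rw [mul_assoc, hzt, ← mul_assoc, hrt, mul_assoc]
  have hsz : (s : G) * z * t = t * (s * z) := by
    rw [mul_assoc, hzt, ← mul_assoc, hst, mul_assoc]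
  have hrs : (r : G) * s * t = t * (r * s) := by
    rw [mul_assoc, hst, ← mul_assoc, hrt, mul_assoc]
  have hrsz : (r : G) * s * z * t = t * (r * s * z) := by
    rw [mul_assoc, hzt, ← mul_assoc, hrs, mul_assoc]
  have n1 : ρ z hzt ≠ 1 := fun h => not_in_z H htC (ρin _ _ h)
  have n2 : ρ r hrt ≠ 1 := fun h => hn (1, 0) r (by decide) hrt hr (ρin _ _ h)
  have ρ1 : ∀ h : (1 : G) * t = t * 1, ρ 1 h = 1 := by
    intro h
    have := ρmul 1 h 1 h (by rw [one_mul, one_mul, mul_one])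
    have h2 : ρ (1 * 1) (by rw [one_mul, one_mul, mul_one]) = ρ 1 h := by congr 1; exact one_mul _
    rw [h2] at this
    exact left_eq_mul.1 this
  have ρsq : ∀ (u : G) (hu : u * t = t * u), u * u = 1 → ρ u hu * ρ u hu = 1 := by
    intro u hu h2
    have h3 : u * u * t = t * (u * u) := by rw [h2, one_mul, mul_one]
    rw [← ρmul u hu u hu h3, ← ρ1 (by rw [one_mul, mul_one])]
    congr 1
  have n3 : ρ r hrt ≠ ρ z hzt := by
    intro h
    have h1 := ρmul r hrt z hzt hrz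
    rw [h, ρsq z hzt lz.z_sq] at h1
    exact hn (1, 0) (r * ⟨z, lz.z_mem⟩) (by decide) hrz (by rw [← hr]; exact pr_mul_z r rfl)
      (ρin _ _ h1)
  have ρcomm : ∀ (u v : G) (hu : u * t = t * u) (hv : v * t = t * v), u * v = v * u →
      ρ u hu * ρ v hv = ρ v hv * ρ u hu := by
    intro u v hu hv huv
    have h1 : u * v * t = t * (u * v) := by rw [mul_assoc, hv, ← mul_assoc, hu, mul_assoc]
    have h2 : v * u * t = t * (v * u) := by rw [← huv]; exact h1
    rw [← ρmul u hu v hv h1, ← ρmul v hv u hu h2]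
    congr 1
  rcases elem_ab (ρ r hrt) (ρ z hzt) (ρsq r hrt hr2) (ρsq z hzt lz.z_sq)
      (ρcomm _ _ _ _ (lz.comm_z r r.2)) n2 n1 n3 (ρ s hst) (ρsq s hst hs2)
      (ρcomm _ _ _ _ hcomm) (ρcomm _ _ _ _ (lz.comm_z s s.2).symm) with h | h | h | h
  · exact hn (0, 1) s (by decide) hst hs (ρin _ _ h)
  · -- `ρ s = ρ r`
    have h1 := ρmul r hrt s hst hrs
    rw [h, ρsq r hrt hr2] at h1
    exact hn (1, 1) (r * s) (by decide) hrs hadd (ρin _ _ h1)
  · have h1 := ρmul s hst z hzt hsz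
    rw [h, ρsq z hzt lz.z_sq] at h1
    exact hn (0, 1) (s * ⟨z, lz.z_mem⟩) (by decide) hsz (by rw [← hs]; exact pr_mul_z s rfl)
      (ρin _ _ h1)
  · have h1 := ρmul r hrt s hst hrs
    have h2 := ρmul (r * s) hrs z hzt hrsz
    rw [h1, h, ← mul_assoc, ρsq r hrt hr2, one_mul, ρsq z hzt lz.z_sq] at h2
    exact hn (1, 1) (r * s * ⟨z, lz.z_mem⟩) (by decide) hrsz
      (by rw [← hadd]; exact pr_mul_z (r * s) rfl) (ρin _ _ h2)

/-- **alpha**: a conjugate of `z` commuting with `z` acting on the planes by an element of the four-group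
lies in `C1`. -/
theorem alpha (H : Hyp F) (ht : IsConj z t) (htz : t * z = z * t) (hV : isV (F.π (cen htz))) :
    t ∈ F.C1 := by
  by_contra htC
  by_cases hπ : F.π (cen htz) = 1
  · exact alpha_one H ht htz htC hπ
  have ht2 := sq_of_isConj lz ht
  have hcomb : ∀ p : Equiv.Perm (Fin 4), isV p → p ≠ 1 → ∃ a c : Fin 4, a ≠ c ∧ a ≠ p c ∧ p a ≠ a ∧
      p c ≠ c ∧ p a ≠ c ∧ p a ≠ p c ∧ ∀ k, k = a ∨ k = p a ∨ k = c ∨ k = p c := by decide +kernel
  obtain ⟨a, c, h1, h2, h3, h4, h5, h6, h7⟩ := hcomb _ hV hπ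
  by_cases hA : ∃ (x : W) (r : Q), x ≠ 0 ∧ (r : G) * t = t * r ∧
      lz.pr r = F.sg a x + F.sg (F.π (cen htz) a) (F.g (cen htz) a x) ∧ In F t r
  · obtain ⟨x, r, hx, hrt, hr, hrin⟩ := hA
    refine alpha_fam H ht htz htC h4 fun y s hy hst hs hsin => ?_
    have hrs : ((r * s : Q) : G) * t = t * (r * s : Q) := by
      show (r : G) * s * t = t * (r * s)
      rw [mul_assoc, hst, ← mul_assoc, hrt, mul_assoc]
    refine not_in_wt4 H htz htC hrs ?_ (in_mul hrin hsin)
    have e : ∀ k, F.φ (lz.pr (r * s)) k = (Pi.single a x : Fin 4 → W) k +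
        (Pi.single (F.π (cen htz) a) (F.g (cen htz) a x) : Fin 4 → W) k +
        ((Pi.single c y : Fin 4 → W) k +
        (Pi.single (F.π (cen htz) c) (F.g (cen htz) c y) : Fin 4 → W) k) := by
      intro k
      rw [lz.pr_mul, hr, hs, map_add, map_add, map_add, F.φ_sg, F.φ_sg, F.φ_sg, F.φ_sg]
      rfl
    intro k
    rcases h7 k with hk | hk | hk | hk <;> rw [e, hk]
    · rw [Pi.single_eq_same, Pi.single_eq_of_ne h3.symm, Pi.single_eq_of_ne h1,
        Pi.single_eq_of_ne h2, add_zero, add_zero, add_zero]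
      exact hx
    · rw [Pi.single_eq_same, Pi.single_eq_of_ne h3, Pi.single_eq_of_ne h5,
        Pi.single_eq_of_ne h6, zero_add, add_zero, add_zero]
      exact F.g_ne hx
    · rw [Pi.single_eq_same, Pi.single_eq_of_ne h1.symm, Pi.single_eq_of_ne h5.symm,
        Pi.single_eq_of_ne h4.symm, zero_add, zero_add, add_zero]
      exact hy
    · rw [Pi.single_eq_same, Pi.single_eq_of_ne h2.symm, Pi.single_eq_of_ne h6.symm,
        Pi.single_eq_of_ne h4, zero_add, zero_add, zero_add]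
      exact F.g_ne hy
  · refine alpha_fam H ht htz htC h3 fun x r hx hrt hr hrin => hA ⟨x, r, hx, hrt, hr, hrin⟩

/-- **(*)** -/
theorem star (H : Hyp F) (ht : IsConj z t) (htz : t * z = z * t) : t ∈ F.C1 := by
  by_cases hV : isV (F.π (cen htz))
  · exact alpha H ht htz hV
  by_contra htC
  have ht2 := sq_of_isConj lz ht
  have hcomb : ∀ p : Equiv.Perm (Fin 4), (p * p = 1 ∧ ¬ isV p) → ∃ a c d : Fin 4, p a ≠ a ∧
      p c = c ∧ p d = d ∧ a ≠ c ∧ a ≠ d ∧ p a ≠ c ∧ p a ≠ d ∧ c ≠ d ∧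
      ∀ k, k = a ∨ k = p a ∨ k = c ∨ k = d := by decide +kernel
  obtain ⟨a, c, d, h1, h2, h3, h4, h5, h6, h7, h8, h9⟩ :=
    hcomb _ ⟨π_sq (F := F) ht2 htz, hV⟩
  have hgc : ∀ x, F.g (cen htz) c (F.g (cen htz) c x) = x := by
    intro x
    have := g_sq (F := F) ht2 htz c x
    rwa [h2] at this
  have hgd : ∀ x, F.g (cen htz) d (F.g (cen htz) d x) = x := by
    intro x
    have := g_sq (F := F) ht2 htz d x
    rwa [h3] at this
  have hactc : ∀ x, lz.act (cen htz) (F.sg c x) = F.sg c (F.g (cen htz) c x) := by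
    intro x; rw [F.act_sg, h2]
  have hactd : ∀ x, lz.act (cen htz) (F.sg d x) = F.sg d (F.g (cen htz) d x) := by
    intro x; rw [F.act_sg, h3]
  -- the signs
  have hs : F.sgn (cen htz) c = F.sgn (cen htz) d := by
    have hp := F.sgn_prod (cen htz)
    have ha := sgn_sq (F := F) ht2 htz a
    have hc4 : ∀ (p : Fin 4) (a c d : Fin 4), a ≠ p → a ≠ c → a ≠ d → p ≠ c → p ≠ d → c ≠ d →
        ∀ e : Fin 4 → ℤˣ, ∏ k, e k = 1 → e p * e a = 1 → e c = e d := by decide +kernel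
    exact hc4 _ a c d h1.symm h4 h5 h6 h7 h8 _ hp ha
  have hcd : ∃ x y : W, x ≠ 0 ∧ y ≠ 0 ∧ inR lz t (F.sg c x + F.sg d y) := by
    rcases Int.units_eq_one_or (F.sgn (cen htz) c) with hc | hc
    · have hd : F.sgn (cen htz) d = 1 := hs ▸ hc
      have fc : ∀ x, F.g (cen htz) c x = x := even_invol _ (F.gadd _ c) hgc hc
      have fd : ∀ x, F.g (cen htz) d x = x := even_invol _ (F.gadd _ d) hgd hd
      have key : ∀ j : Fin 4, (∀ x, lz.act (cen htz) (F.sg j x) = F.sg j x) →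
          ∃ x : W, x ≠ 0 ∧ inR lz t (F.sg j x) := by
        intro j hj
        by_cases k1 : inR lz t (F.sg j (1, 0))
        · exact ⟨_, by decide, k1⟩
        by_cases k2 : inR lz t (F.sg j (0, 1))
        · exact ⟨_, by decide, k2⟩
        · exact ⟨(1, 0) + (0, 1), by decide, by rw [sg_add]; exact inR_or htz (hj _) (hj _) k1 k2⟩
      obtain ⟨x, hx, hx'⟩ := key c (fun x => by rw [hactc, fc])
      obtain ⟨y, hy, hy'⟩ := key d (fun x => by rw [hactd, fd])
      exact ⟨x, y, hx, hy, inR_add hx' hy'⟩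
    · have hd : F.sgn (cen htz) d = -1 := hs ▸ hc
      obtain ⟨i, ⟨hi0, hi1, hi2⟩, v, hv1, hv2⟩ := odd_invol _ ⟨F.gadd _ c, hgc, hc⟩
      obtain ⟨j, ⟨hj0, hj1, hj2⟩, w, hw1, hw2⟩ := odd_invol _ ⟨F.gadd _ d, hgd, hd⟩
      have n1 : ¬ inR lz t (F.sg c i) := by
        have := not_inR (lz := lz) ht2 htz (v := F.sg c v) (by rw [hactc, b_sg_same]; exact hv2)
        rwa [hactc, ← sg_add, hv1] at this
      have n2 : ¬ inR lz t (F.sg d j) := by
        have := not_inR (lz := lz) ht2 htz (v := F.sg d w) (by rw [hactd, b_sg_same]; exact hw2)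
        rwa [hactd, ← sg_add, hw1] at this
      exact ⟨i, j, hi0, hj0, inR_or htz (by rw [hactc, hi1]) (by rw [hactd, hj1]) n1 n2⟩
  obtain ⟨x, y, hx, hy, hxy⟩ := hcd
  obtain ⟨r0, hr0, hr0t, -⟩ := inR_move (F := F) ht2 htz h1 (1, 0)
  obtain ⟨r, hr, hrt⟩ := inR_add (⟨r0, hr0, hr0t⟩ : inR lz t _) hxy
  have e : ∀ k, F.φ (lz.pr r) k = (Pi.single a (1, 0) : Fin 4 → W) k +
      (Pi.single (F.π (cen htz) a) (F.g (cen htz) a (1, 0)) : Fin 4 → W) k +
      ((Pi.single c x : Fin 4 → W) k + (Pi.single d y : Fin 4 → W) k) := by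
    intro k
    rw [hr, map_add, map_add, map_add, F.φ_sg, F.φ_sg, F.φ_sg, F.φ_sg]
    rfl
  have hwt : ∀ k, F.φ (lz.pr r) k ≠ 0 := by
    intro k
    rcases h9 k with hk | hk | hk | hk <;> rw [e, hk]
    · rw [Pi.single_eq_same, Pi.single_eq_of_ne h1.symm, Pi.single_eq_of_ne h4,
        Pi.single_eq_of_ne h5, add_zero, add_zero, add_zero]
      decide
    · rw [Pi.single_eq_same, Pi.single_eq_of_ne h1, Pi.single_eq_of_ne h6,
        Pi.single_eq_of_ne h7, zero_add, add_zero, add_zero]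
      exact F.g_ne (by decide)
    · rw [Pi.single_eq_same, Pi.single_eq_of_ne h4.symm, Pi.single_eq_of_ne h6.symm,
        Pi.single_eq_of_ne h8, zero_add, zero_add, add_zero]
      exact hx
    · rw [Pi.single_eq_same, Pi.single_eq_of_ne h5.symm, Pi.single_eq_of_ne h7.symm,
        Pi.single_eq_of_ne h8.symm, zero_add, zero_add, zero_add]
      exact hy
  have hzt : z * t = t * z := htz.symm
  let r' : Q := r * ⟨z, lz.z_mem⟩
  have hpr' : lz.pr r' = lz.pr r := pr_mul_z r rfl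
  have hrt' : (r' : G) * t = t * r' := by
    show (r : G) * z * t = t * (r * z)
    rw [mul_assoc, hzt, ← mul_assoc, hrt, mul_assoc]
  have hwt' : ∀ k, F.φ (lz.pr r') k ≠ 0 := by rw [hpr']; exact hwt
  -- move to `t`
  obtain ⟨g, hg⟩ := isConj_iff.1 ht
  have key : ∀ r : G, r * t = t * r → (g⁻¹ * r * g) * z = z * (g⁻¹ * r * g) := by
    intro r hr
    calc g⁻¹ * r * g * z = g⁻¹ * (r * (g * z * g⁻¹)) * g := by group
      _ = g⁻¹ * (r * t) * g := by rw [hg]
      _ = g⁻¹ * (t * r) * g := by rw [hr]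
      _ = g⁻¹ * (g * z * g⁻¹ * r) * g := by rw [hg]
      _ = z * (g⁻¹ * r * g) := by group
  have hconj : ∀ r : G, IsConj z r → IsConj z (g⁻¹ * r * g) := by
    intro r hr
    obtain ⟨k, hk⟩ := isConj_iff.1 hr
    refine isConj_iff.2 ⟨g⁻¹ * k, ?_⟩
    rw [← hk]; group
  have hnV : ∀ (u : G) (hut : u * t = t * u), IsConj z u → ¬ In F t u →
      F.π (cen (key u hut)) * F.π (cen (key u hut)) = 1 ∧ ¬ isV (F.π (cen (key u hut))) := by
    intro u hut hu hnu
    refine ⟨π_sq (sq_of_isConj lz (hconj u hu)) _, fun hv => hnu ?_⟩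
    rw [in_iff hg]
    exact alpha H (hconj u hu) (key u hut) hv
  obtain ⟨q1, q2⟩ := hnV z hzt (IsConj.refl z) (not_in_z H htC)
  obtain ⟨q3, q4⟩ := hnV r hrt (H.conj_of_wt4 r hwt) (not_in_wt4 H htz htC hrt hwt)
  obtain ⟨q5, q6⟩ := hnV r' hrt' (H.conj_of_wt4 r' hwt') (not_in_wt4 H htz htC hrt' hwt')
  have hmul : F.π (cen (key r' hrt')) = F.π (cen (key r hrt)) * F.π (cen (key z hzt)) := by
    rw [← F.π_mul]
    congr 1
    apply Subtype.ext
    show g⁻¹ * ((r : G) * z) * g = g⁻¹ * r * g * (g⁻¹ * z * g)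
    group
  have hmul' : F.π (cen (key r' hrt')) = F.π (cen (key z hzt)) * F.π (cen (key r hrt)) := by
    rw [← F.π_mul]
    congr 1
    apply Subtype.ext
    show g⁻¹ * ((r : G) * z) * g = g⁻¹ * z * g * (g⁻¹ * r * g)
    rw [lz.comm_z r r.2]
    group
  apply q6
  rw [hmul]
  exact isV_mul_of_not _ _ q3 q1 (by rw [← hmul, hmul']) q4 q2

end inner

end Cfsg.Agent.TypeD4Three.Star
end

-- part: TypeD4Three/LocIface
section
/-!
# S1763, case [P]: the local facts used for the instance of the closing argument (helper948)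

`Chart F p`: coordinates of `V = Q / ⟨z⟩` with the same planes as `F`, adapted to the pair `p = (A, a)`:
`ã = (1,0)` in each plane, explicit `D̃` and `X`.
`Loc F`: each pair has a chart; full vectors are exactly those of conjugates of `z`; `q` is the parity of the weight.
-/

set_option autoImplicit false

namespace Cfsg.Agent.TypeD4Three.LocIface

open Cfsg.Agent.Co2Type.Quad Cfsg.Agent.LargeExtra.Base Cfsg.Agent.LargeExtra.Local
open Cfsg.Agent.TypeD4Three.StarModel Cfsg.Agent.TypeD4Three.StarFrame Cfsg.Agent.TypeD4Three.StarEdge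

variable {G : Type*} [Group G] {Q : Subgroup G} {z : G} {lz : Large Q z}

/-- Coordinates adapted to a pair. -/
structure Chart (F : Frame lz) {A : Subgroup G} {a : G} (p : Pair Q z A a) where
  ψ : lz.V ≃+ (Fin 4 → W)
  hb : ∀ v w, lz.b v w = ∑ k, om (ψ v k) (ψ w k)
  zero : ∀ v k, ψ v k = 0 ↔ F.φ v k = 0
  va : ∀ k, ψ (lz.pr ⟨a, p.a_mem⟩) k = (1, 0)
  D : ∀ v, v ∈ p.D ↔ ∃ (s : Fin 4 → ZMod 2) (e : ZMod 2), ∑ k, s k = 0 ∧ ∀ k, ψ v k = (s k, e)
  X : ∀ f : lz.V ≃ₗ[ZMod 2] lz.V, f ∈ p.X → ∃ (π : Equiv.Perm (Fin 4)) (e : ZMod 2), isV π ∧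
    ∀ v k, ψ (f v) (π k) = ((ψ v k).1 + e * (ψ v k).2, (ψ v k).2)

/-- The local facts. -/
structure Loc (F : Frame lz) : Prop where
  q_wt : ∀ v, lz.q v = ∑ k, (if F.φ v k = 0 then (0 : ZMod 2) else 1)
  full : ∀ {A : Subgroup G} {a : G} (p : Pair Q z A a) (k : Fin 4), F.φ (lz.pr ⟨a, p.a_mem⟩) k ≠ 0
  chart : ∀ {A : Subgroup G} {a : G} (p : Pair Q z A a), Nonempty (Chart F p)
  trans : ∀ x y : Q, (∀ k, F.φ (lz.pr x) k ≠ 0) → (∀ k, F.φ (lz.pr y) k ≠ 0) →
    ∃ c : G, c * z = z * c ∧ c * x * c⁻¹ = y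

end Cfsg.Agent.TypeD4Three.LocIface
end

private theorem dce_2a135d2a2992 : _root_.True := by
  try have : _root_.True := by simp only [_root_.Cfsg.Agent.TypeD4Three.Star.cen.congr_simp]
  exact _root_.True.intro
end

-- part: TypeD4Three/InstCon
section
prune_inst 0x420000410416200000000059203001c468e000192002b00004020014204880f0060028721bc201610001202540038000002000000406000000a00080041180080000010000000a000200000008004000000000000000000000000000000000000000000000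
set_option linter.all false
open scoped Cfsg.Agent.FastGrp

-- part: TypeD4Three/InstModel
section
/-!
# S1763, case [P]: finite facts about `W⁴` for the instance of the closing argument (helper948)
-/

set_option autoImplicit false
set_option synthInstance.maxSize 4096
set_option synthInstance.maxHeartbeats 400000
set_option maxHeartbeats 1000000

namespace Cfsg.Agent.TypeD4Three.InstModel

open Cfsg.Agent.TypeD4Three.StarModel

/-- all components nonzero -/
def isFull (v : Fin 4 → W) : Prop := ∀ k, v k ≠ 0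

/-- exactly two nonzero components -/
def isTwo (v : Fin 4 → W) : Prop := ∃ k l : Fin 4, k ≠ l ∧ ∀ j, v j ≠ 0 ↔ (j = k ∨ j = l)

/-- perpendicular to `(1,0)⁴` -/
def isPerp (v : Fin 4 → W) : Prop := ∑ k, (v k).2 = 0

/-- the model of `D` -/
def isD (v : Fin 4 → W) : Prop := (∀ j k, (v j).2 = (v k).2) ∧ ∑ k, (v k).1 = 0

/-- the vector `ã` -/
def A0 : Fin 4 → W := fun _ => (1, 0)

instance (v : Fin 4 → W) : Decidable (isFull v) := by unfold isFull; infer_instance
instance (v : Fin 4 → W) : Decidable (isTwo v) := by unfold isTwo; infer_instance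
instance (v : Fin 4 → W) : Decidable (isPerp v) := by unfold isPerp; infer_instance
instance (v : Fin 4 → W) : Decidable (isD v) := by unfold isD; infer_instance

/-- two vectors with the same support of size two, different there -/
def isS (v w : Fin 4 → W) : Prop := ∃ k l : Fin 4, k ≠ l ∧ (∀ j, v j ≠ 0 ↔ (j = k ∨ j = l)) ∧
  (∀ j, w j ≠ 0 ↔ (j = k ∨ j = l)) ∧ v k + w k ≠ 0 ∧ v l + w l ≠ 0

instance (v w : Fin 4 → W) : Decidable (isS v w) := by unfold isS; infer_instance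

/-- commuting vectors -/
def isComm (v w : Fin 4 → W) : Prop := ∑ k, om (v k) (w k) = 0

instance (v w : Fin 4 → W) : Decidable (isComm v w) := by unfold isComm; infer_instance

theorem eq_vec (v : Fin 4 → W) : v = ![v 0, v 1, v 2, v 3] := by
  funext i; fin_cases i <;> rfl

theorem isD_iff (v : Fin 4 → W) :
    isD v ↔ ∃ (s : Fin 4 → ZMod 2) (e : ZMod 2), ∑ k, s k = 0 ∧ ∀ k, v k = (s k, e) := by
  constructor
  · rintro ⟨h1, h2⟩
    exact ⟨fun k => (v k).1, (v 0).2, h2, fun k => Prod.ext rfl (h1 k 0)⟩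
  · rintro ⟨s, e, h1, h2⟩
    refine ⟨fun j k => by rw [h2, h2], ?_⟩
    simp only [h2]; exact h1

/-- the vector of weight two in `D` -/
def dv (k l : Fin 4) : Fin 4 → W := fun j => if j = k ∨ j = l then (1, 0) else 0

theorem w_cases : ∀ x : W, x ≠ 0 → x.2 = 0 → x = (1, 0) := by decide

theorem w_cases' : ∀ x : W, x ≠ 0 → x ≠ (1, 0) → x.2 = 1 := by decide

theorem eq_dv (w : Fin 4 → W) (h1 : isTwo w) (h2 : isD w) : ∃ k l, k ≠ l ∧ w = dv k l := by
  obtain ⟨k, l, hkl, h⟩ := h1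
  refine ⟨k, l, hkl, ?_⟩
  have : ∀ k l : Fin 4, ∃ j, j ≠ k ∧ j ≠ l := by decide
  obtain ⟨j, hj1, hj2⟩ := this k l
  have hj : w j = 0 := by
    by_contra h0
    rcases (h j).1 h0 with h' | h'
    · exact hj1 h'
    · exact hj2 h'
  have h3 : ∀ i, (w i).2 = 0 := by
    intro i
    rw [h2.1 i j, hj]; rfl
  funext i
  unfold dv
  by_cases hi : i = k ∨ i = l
  · rw [if_pos hi]
    exact w_cases _ ((h i).2 hi) (h3 i)
  · rw [if_neg hi]
    by_contra h0
    exact hi ((h i).1 h0)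

private noncomputable def _root_.Cfsg.Agent.KO4671b96.k0 : type_of% @Fin.add := @(letI c0 := @Fin.rec.{1}; @(fun x0 x1 x2 => @c0 @x0 @(fun x3 => @Fin @x0) @(fun x3 x4 => @c0 @x0 @(fun x5 => @Fin @x0) @(fun x5 x6 => @Fin.mk _ (@Nat.mod (@Nat.add @x3 @x5) @x0) (@Fin.add._proof_3 _ @x3 @x4 @x5)) @x2) @x1))
private theorem _root_.Cfsg.Agent.KO4671b96.e0 : @Fin.add = @_root_.Cfsg.Agent.KO4671b96.k0 := by delta _root_.Cfsg.Agent.KO4671b96.k0; rfl'
private noncomputable def _root_.Cfsg.Agent.KO4671b96.k1s : (by first | exact Subtype (fun g => @HAdd.hAdd.{0, 0, 0} ((@Fin (@Nat.succ (@Nat.succ (@Nat.succ (@Nat.succ ((0 : ℕ))))))) → @Cfsg.Agent.TypeD4Three.StarModel.W) ((@Fin ((4 : ℕ))) → @Cfsg.Agent.TypeD4Three.StarModel.W) ((@Fin (@Nat.succ (@Nat.succ (@Nat.succ (@Nat.succ ((0 : ℕ))))))) → @Cfsg.Agent.TypeD4Three.StarModel.W) _ = @g) | exact Unit : Sort _) := by first | (refine @Subtype.mk _ _ (@(letI c0 := @Prod.fst.{0, 0}; letI c1 := @Prod.snd.{0,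 0}; @(fun x0 x1 x2 => (@Cfsg.Agent.KO4671b96.k0 (nat_lit 2) (@c0 _ _ (@x0 @x2)) (@c0 _ _ (@x1 @x2)), @Cfsg.Agent.KO4671b96.k0 (nat_lit 2) (@c1 _ _ (@x0 @x2)) (@c1 _ _ (@x1 @x2)))))) ?_; rewrite [← Cfsg.Agent.KO4671b96.e0]; rfl') | exact ⟨_, rfl⟩ | exact ()
private noncomputable def _root_.Cfsg.Agent.KO4671b96.k1 : (by first | exact type_of% (@Subtype.val _ _ _root_.Cfsg.Agent.KO4671b96.k1s) | exact Unit : Sort _) := by first | exact @Subtype.val _ _ _root_.Cfsg.Agent.KO4671b96.k1s | exact ()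
private theorem _root_.Cfsg.Agent.KO4671b96.e1 : (by first | exact type_of% (show _ = @_root_.Cfsg.Agent.KO4671b96.k1 from @Subtype.property _ _ _root_.Cfsg.Agent.KO4671b96.k1s) | exact True : Prop) := by first | exact @Subtype.property _ _ _root_.Cfsg.Agent.KO4671b96.k1s | trivial
private noncomputable def _root_.Cfsg.Agent.KO4671b96.k3s : (by first | exact Subtype (fun g => @Nat.cast.{0} (@ZMod ((2 : ℕ))) _ = @g) | exact Unit : Sort _) := by first | (refine @Subtype.mk _ _ (@(fun x0 => @Fin.mk (nat_lit 2) (@Nat.mod @x0 (nat_lit 2)) (@Fin.ofNat._proof_1 (@Nat.succ (nat_lit 1)) _ @x0))) ?_; rfl') | exact ⟨_, rfl⟩ | exact ()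
private noncomputable def _root_.Cfsg.Agent.KO4671b96.k3 : (by first | exact type_of% (@Subtype.val _ _ _root_.Cfsg.Agent.KO4671b96.k3s) | exact Unit : Sort _) := by first | exact @Subtype.val _ _ _root_.Cfsg.Agent.KO4671b96.k3s | exact ()
private theorem _root_.Cfsg.Agent.KO4671b96.e3 : (by first | exact type_of% (show _ = @_root_.Cfsg.Agent.KO4671b96.k3 from @Subtype.property _ _ _root_.Cfsg.Agent.KO4671b96.k3s) | exact True : Prop) := by first | exact @Subtype.property _ _ _root_.Cfsg.Agent.KO4671b96.k3s | trivial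
private noncomputable def _root_.Cfsg.Agent.KO4671b96.k4 : type_of% @Int.natAbs := @(fun x0 => @Int.rec.{1} @(fun x1 => ℕ) @(fun x1 => @x1) @(fun x1 => @Nat.succ @x1) @x0)
private theorem _root_.Cfsg.Agent.KO4671b96.e4 : @Int.natAbs = @_root_.Cfsg.Agent.KO4671b96.k4 := by delta _root_.Cfsg.Agent.KO4671b96.k4; rfl'
private noncomputable def _root_.Cfsg.Agent.KO4671b96.k5 : type_of% @ZMod.val := @(fun x0 => @Nat.rec.{1} @(fun x1 => (@ZMod @x1) → ℕ) @Cfsg.Agent.KO4671b96.k4 @(fun x1 x2 => @Fin.val _) @x0)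
private theorem _root_.Cfsg.Agent.KO4671b96.e5 : @ZMod.val = @_root_.Cfsg.Agent.KO4671b96.k5 := by delta _root_.Cfsg.Agent.KO4671b96.k5; rewrite [← Cfsg.Agent.KO4671b96.e4]; rfl'
private noncomputable def _root_.Cfsg.Agent.KO4671b96.k6.{ku} {α : Type ku} {n : Nat} (h : α) (t : Fin n → α) (i : Fin n.succ) : α := @Nat.rec (fun m => m < n.succ → α) (fun _ => h) (fun j _ g => t ⟨j, Nat.lt_of_succ_lt_succ g⟩) i.1 i.2
private theorem _root_.Cfsg.Agent.KO4671b96.e6.{ku} : @Matrix.vecCons.{ku} = @_root_.Cfsg.Agent.KO4671b96.k6.{ku} := funext fun α => funext fun n => funext fun h => funext fun t => funext fun i => by cases i with | mk m g => cases m <;> rfl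
private noncomputable def _root_.Cfsg.Agent.KO4671b96.k7.{ku0} : type_of% @Fin.elim0.{ku0} := @(fun x0 x1 => @Fin.rec.{ku0} (nat_lit 0) @(fun x2 => @x0) @(fun x2 x3 => @False.rec.{ku0} @(fun x4 => @x0) (@Nat.not_lt_zero @x2 @x3)) @x1)
private theorem _root_.Cfsg.Agent.KO4671b96.e7.{ku0} : @Fin.elim0.{ku0} = @_root_.Cfsg.Agent.KO4671b96.k7.{ku0} := by delta _root_.Cfsg.Agent.KO4671b96.k7; rfl'
private noncomputable def _root_.Cfsg.Agent.KO4671b96.k8.{ku0} : type_of% @Matrix.vecEmpty.{ku0} := @(fun x0 => @Cfsg.Agent.KO4671b96.k7.{(ku0+1)} _)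
private theorem _root_.Cfsg.Agent.KO4671b96.e8.{ku0} : @Matrix.vecEmpty.{ku0} = @_root_.Cfsg.Agent.KO4671b96.k8.{ku0} := by delta _root_.Cfsg.Agent.KO4671b96.k8; rewrite [← Cfsg.Agent.KO4671b96.e7.{(ku0+1)}]; rfl'
private noncomputable def _root_.Cfsg.Agent.KO4671b96.k9 : type_of% @Fin.ofNat := @(fun x0 x1 x2 => @Fin.mk _ (@Nat.mod @x2 @x0) (@Fin.ofNat._proof_1 @x0 _ @x2))
private theorem _root_.Cfsg.Agent.KO4671b96.e9 : @Fin.ofNat = @_root_.Cfsg.Agent.KO4671b96.k9 := by delta _root_.Cfsg.Agent.KO4671b96.k9; rfl'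

theorem t1_aux : ∀ a b c d : W, isPerp ![a, b, c, d] → isTwo ![a, b, c, d] → ¬ isD ![a, b, c, d] →
    isFull (![a, b, c, d] + A0) := by (delta Cfsg.Agent.TypeD4Three.InstModel.isPerp Cfsg.Agent.TypeD4Three.InstModel.isTwo Cfsg.Agent.TypeD4Three.InstModel.isD Cfsg.Agent.TypeD4Three.InstModel.isFull Cfsg.Agent.TypeD4Three.InstModel.A0; set_option synthInstance.maxSize 100000 in exact Cfsg.Agent.Lib.Refl.of (by (first | (rewrite [Cfsg.Agent.KO4671b96.e1, Cfsg.Agent.KO4671b96.e3, Cfsg.Agent.KO4671b96.e5, Cfsg.Agent.KO4671b96.e6.{0}, Cfsg.Agent.KO4671b96.e8.{0}, Cfsg.Agent.KO4671b96.e9]; decide +kernel) | decide +kernel)))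

theorem t1 (v : Fin 4 → W) (h1 : isPerp v) (h2 : isTwo v) (h3 : ¬ isD v) : isFull (v + A0) := by
  rw [eq_vec v] at *
  exact t1_aux _ _ _ _ h1 h2 h3

/-- hypotheses of `t2` on `y` -/
def hy2 (y : Fin 4 → W) : Prop := isFull y ∧ isPerp y ∧ ¬ isFull (y + A0) ∧ y ≠ A0

instance (y : Fin 4 → W) : Decidable (hy2 y) := by unfold hy2; infer_instance

private noncomputable def _root_.Cfsg.Agent.KO4671b96.k12.{ku0} : type_of% @ite.{ku0} := @(fun x0 x1 x2 x3 x4 => @Decidable.rec.{ku0} _ @(fun x5 => @x0) @(fun x5 => @x4) @(fun x5 => @x3) @x2)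
private theorem _root_.Cfsg.Agent.KO4671b96.e12.{ku0} : @ite.{ku0} = @_root_.Cfsg.Agent.KO4671b96.k12.{ku0} := by delta _root_.Cfsg.Agent.KO4671b96.k12; rfl'
private noncomputable def _root_.Cfsg.Agent.KO4671b96.k13 : type_of% @instDecidableOr := @(fun x0 x1 x2 x3 => @Decidable.rec.{1} _ @(fun x4 => @Decidable (@Or @x0 @x1)) @(fun x4 => @Decidable.rec.{1} _ @(fun x5 => @Decidable (@Or @x0 @x1)) @(fun x5 => @Decidable.isFalse _ (@instDecidableOr._proof_1 _ _ @x4 @x5)) @(fun x5 => @Decidable.isTrue _ (@Or.inr _ _ @x5)) @x3) @(fun x4 => @Decidable.isTrue _ (@Or.inl _ _ @x4)) @x2)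
private theorem _root_.Cfsg.Agent.KO4671b96.e13 : @instDecidableOr = @_root_.Cfsg.Agent.KO4671b96.k13 := by delta _root_.Cfsg.Agent.KO4671b96.k13; exact Subsingleton.elim _ _
private noncomputable def _root_.Cfsg.Agent.KO4671b96.k14 : type_of% @Nat.decEq := @(letI c0 := @Nat.beq; @(fun x0 x1 => @Bool.rec.{1} @(fun x2 => (@Eq.{1} _ (@c0 @x0 @x1) @x2) → @Decidable (@Eq.{1} _ @x0 @x1)) @(fun x2 => @Decidable.isFalse _ (@Nat.ne_of_beq_eq_false _ _ @x2)) @(fun x2 => @Decidable.isTrue _ (@Nat.eq_of_beq_eq_true _ _ @x2)) (@c0 @x0 @x1) (@Eq.refl.{1} _ (@c0 @x0 @x1))))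
private noncomputable def _root_.Cfsg.Agent.KO4671b96.k15 : type_of% @instDecidableEqFin := @(letI c0 := @Fin.val; @(fun x0 x1 x2 => @Decidable.rec.{1} _ @(fun x3 => @Decidable (@Eq.{1} _ @x1 @x2)) @(fun x3 => @Decidable.isFalse _ (@instDecidableEqFin._proof_1 @x0 @x1 @x2 @x3)) @(fun x3 => @Decidable.isTrue _ (@Fin.eq_of_val_eq _ _ _ @x3)) (@Cfsg.Agent.KO4671b96.k14 (@c0 _ @x1) (@c0 _ @x2))))
private theorem _root_.Cfsg.Agent.KO4671b96.e15 : @instDecidableEqFin = @_root_.Cfsg.Agent.KO4671b96.k15 := by delta _root_.Cfsg.Agent.KO4671b96.k15; exact Subsingleton.elim _ _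
private noncomputable def _root_.Cfsg.Agent.KO4671b96.k16 : (by first | exact type_of% @Cfsg.Agent.Lib.Refl.allF | exact Unit : Sort _) := by first | (refine @Subtype.val _ (fun g => @Cfsg.Agent.Lib.Refl.allF = @g) (@Subtype.mk _ _ (@(fun x0 x1 x2 => @Nat.rec.{1} @(fun x3 => @Bool) @Bool.true @(fun x3 x4 => @Bool.rec.{1} @(fun x5 => @Bool) @Bool.false @x4 (@x2 (@Fin.mk _ (@Nat.mod @x3 @x0) (@Fin.ofNat._proof_1 @x0 _ @x3)))) @x0)) ?_); rfl') | exact @Cfsg.Agent.Lib.Refl.allF | exact ()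
private theorem _root_.Cfsg.Agent.KO4671b96.e16 : (by first | exact @Cfsg.Agent.Lib.Refl.allF = @_root_.Cfsg.Agent.KO4671b96.k16 | exact True : Prop) := by first | (delta _root_.Cfsg.Agent.KO4671b96.k16; exact @Subtype.property _ (fun g => @Cfsg.Agent.Lib.Refl.allF = @g) _) | rfl | trivial

theorem t2_aux : ∀ a b c d : W, hy2 ![a, b, c, d] → ∀ k l : Fin 4, k ≠ l →
    isFull (![a, b, c, d] + dv k l) → isS (dv k l) (![a, b, c, d] + A0) ∧
      ¬ isFull (![a, b, c, d] + dv k l + A0) := by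
  (delta Cfsg.Agent.TypeD4Three.InstModel.hy2 Cfsg.Agent.TypeD4Three.InstModel.isFull Cfsg.Agent.TypeD4Three.InstModel.dv Cfsg.Agent.TypeD4Three.InstModel.isS Cfsg.Agent.TypeD4Three.InstModel.A0 Cfsg.Agent.TypeD4Three.InstModel.isPerp; set_option synthInstance.maxSize 100000 in exact Cfsg.Agent.Lib.Refl.of (by (first | (rewrite [Cfsg.Agent.KO4671b96.e5, Cfsg.Agent.KO4671b96.e6.{0}, Cfsg.Agent.KO4671b96.e8.{0}, Cfsg.Agent.KO4671b96.e12.{1}, Cfsg.Agent.KO4671b96.e13, Cfsg.Agent.KO4671b96.e15, Cfsg.Agent.KO4671b96.e9, Cfsg.Agent.KO4671b96.e16]; decide +kernel) | decide +kernel)))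

theorem t2 (y w : Fin 4 → W) (h1 : isFull y) (h2 : isPerp y) (h3 : ¬ isFull (y + A0)) (h4 : y ≠ A0)
    (h5 : isTwo w) (h6 : isD w) (h7 : isFull (y + w)) :
    isS w (y + A0) ∧ ¬ isFull (y + w + A0) := by
  obtain ⟨k, l, hkl, rfl⟩ := eq_dv w h5 h6
  have h := t2_aux (y 0) (y 1) (y 2) (y 3)
  rw [← eq_vec y] at h
  exact h ⟨h1, h2, h3, h4⟩ k l hkl h7

theorem t3_aux : ∀ a b c d : W, hy2 ![a, b, c, d] → ∀ p q r s : ZMod 2,
    isComm ![a, b, c, d] ![(p, 1), (q, 1), (r, 1), (s, 1)] ∧ p + q + r + s = 0 → ∀ k l : Fin 4,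
    (k ≠ l ∧ isFull (![a, b, c, d] + dv k l)) →
    (isFull (![a, b, c, d] + ![(p, 1), (q, 1), (r, 1), (s, 1)]) ↔
      ¬ isFull (![a, b, c, d] + ![(p, 1), (q, 1), (r, 1), (s, 1)] + dv k l)) := by
  (delta Cfsg.Agent.TypeD4Three.InstModel.hy2 Cfsg.Agent.TypeD4Three.InstModel.isComm Cfsg.Agent.TypeD4Three.InstModel.isFull Cfsg.Agent.TypeD4Three.InstModel.dv Cfsg.Agent.TypeD4Three.InstModel.isPerp Cfsg.Agent.TypeD4Three.InstModel.A0 Cfsg.Agent.TypeD4Three.StarModel.om; set_option synthInstance.maxSize 100000 in exact Cfsg.Agent.Lib.Refl.of (by (first | (rewrite [Cfsg.Agent.KO4671b96.e5, Cfsg.Agent.KO4671b96.e6.{0}, Cfsg.Agent.KO4671b96.e8.{0}, Cfsg.Agent.KO4671b96.e12.{1}, Cfsg.Agent.KO4671b96.e13, Cfsg.Agent.KO4671b96.e15, Cfsg.Agent.KO4671b96.e9, Cfsg.Agent.KO4671b96.e16]; decide +kernel) | decide +kernel)))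

theorem t3 (x r w : Fin 4 → W) (h1 : isFull x) (h2 : isPerp x) (h3 : ¬ isFull (x + A0)) (h4 : x ≠ A0)
    (r1 : isFull r) (r2 : isD r) (r3 : r ≠ A0) (r4 : isComm x r) (w1 : isTwo w) (w2 : isD w)
    (w3 : isFull (x + w)) : isFull (x + r) ↔ ¬ isFull (x + r + w) := by
  obtain ⟨k, l, hkl, rfl⟩ := eq_dv w w1 w2
  have hr : ∀ j, (r j).2 = 1 := by
    by_contra hcon
    push Not at hcon
    obtain ⟨j, hj⟩ := hcon
    have hj0 : (r j).2 = 0 := by
      have : ∀ c : ZMod 2, c ≠ 1 → c = 0 := by decide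
      exact this _ hj
    apply r3
    funext i
    exact w_cases _ (r1 i) (by rw [r2.1 i j, hj0])
  have hr' : r = ![((r 0).1, 1), ((r 1).1, 1), ((r 2).1, 1), ((r 3).1, 1)] := by
    funext i
    fin_cases i <;> exact Prod.ext rfl (hr _)
  have hsum : (r 0).1 + (r 1).1 + (r 2).1 + (r 3).1 = 0 := by
    have := r2.2
    rwa [Fin.sum_univ_four] at this
  have h := t3_aux (x 0) (x 1) (x 2) (x 3)
  rw [← eq_vec x] at h
  have h' := h ⟨h1, h2, h3, h4⟩ (r 0).1 (r 1).1 (r 2).1 (r 3).1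
  rw [← hr'] at h'
  exact h' ⟨r4, hsum⟩ k l ⟨hkl, w3⟩

/-- the weight modulo 2 -/
def wt (v : Fin 4 → W) : ZMod 2 := ∑ k, (if v k = 0 then (0 : ZMod 2) else 1)

theorem wt_two_aux : ∀ a b c d : W, isTwo ![a, b, c, d] → wt ![a, b, c, d] = 0 := by (delta Cfsg.Agent.TypeD4Three.InstModel.isTwo Cfsg.Agent.TypeD4Three.InstModel.wt; set_option synthInstance.maxSize 100000 in exact Cfsg.Agent.Lib.Refl.of (by (first | (rewrite [Cfsg.Agent.KO4671b96.e3, Cfsg.Agent.KO4671b96.e5, Cfsg.Agent.KO4671b96.e6.{0}, Cfsg.Agent.KO4671b96.e8.{0}, Cfsg.Agent.KO4671b96.e9]; decide +kernel) | decide +kernel)))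

theorem wt_two (v : Fin 4 → W) (h : isTwo v) : wt v = 0 := by
  rw [eq_vec v] at *
  exact wt_two_aux _ _ _ _ h

theorem two_or_full_aux : ∀ a b c d : W, wt ![a, b, c, d] = 0 → ![a, b, c, d] ≠ 0 →
    isTwo ![a, b, c, d] ∨ isFull ![a, b, c, d] := by (delta Cfsg.Agent.TypeD4Three.InstModel.wt Cfsg.Agent.TypeD4Three.InstModel.isTwo Cfsg.Agent.TypeD4Three.InstModel.isFull; set_option synthInstance.maxSize 100000 in exact Cfsg.Agent.Lib.Refl.of (by (first | (rewrite [Cfsg.Agent.KO4671b96.e3, Cfsg.Agent.KO4671b96.e5, Cfsg.Agent.KO4671b96.e6.{0}, Cfsg.Agent.KO4671b96.e8.{0}, Cfsg.Agent.KO4671b96.e9, Cfsg.Agent.KO4671b96.e16]; decide +kernel) | decide +kernel)))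

theorem two_or_full (v : Fin 4 → W) (h : wt v = 0) (h0 : v ≠ 0) : isTwo v ∨ isFull v := by
  rw [eq_vec v] at *
  exact two_or_full_aux _ _ _ _ h h0

theorem not_full_of_two (v : Fin 4 → W) (h : isTwo v) : ¬ isFull v := by
  obtain ⟨k, l, hkl, h⟩ := h
  have : ∀ k l : Fin 4, ∃ j, j ≠ k ∧ j ≠ l := by decide
  obtain ⟨j, hj1, hj2⟩ := this k l
  intro hf
  rcases (h j).1 (hf j) with h' | h'
  · exact hj1 h'
  · exact hj2 h'

theorem ne_zero_of_two (v : Fin 4 → W) (h : isTwo v) : v ≠ 0 := by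
  obtain ⟨k, l, hkl, h⟩ := h
  intro h0
  have := (h k).2 (Or.inl rfl)
  rw [h0] at this
  exact this rfl

theorem isS_all (v w : Fin 4 → W) (h : isS v w) : isTwo v ∧ isTwo w ∧ isTwo (v + w) ∧ isComm v w := by
  obtain ⟨k, l, hkl, h1, h2, h3, h4⟩ := h
  have z1 : ∀ j, ¬ (j = k ∨ j = l) → v j = 0 := fun j hj => by
    by_contra h0; exact hj ((h1 j).1 h0)
  have z2 : ∀ j, ¬ (j = k ∨ j = l) → w j = 0 := fun j hj => by
    by_contra h0; exact hj ((h2 j).1 h0)
  refine ⟨⟨k, l, hkl, h1⟩, ⟨k, l, hkl, h2⟩, ⟨k, l, hkl, fun j => ?_⟩, ?_⟩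
  · constructor
    · intro hj
      by_contra hcon
      apply hj
      rw [Pi.add_apply, z1 j hcon, z2 j hcon, add_zero]
    · rintro (rfl | rfl)
      · exact h3
      · exact h4
  · have hom : ∀ x y : W, x ≠ 0 → y ≠ 0 → x + y ≠ 0 → om x y = 1 := by decide
    unfold isComm
    have : ∀ j, om (v j) (w j) = if j = k ∨ j = l then 1 else 0 := by
      intro j
      by_cases hj : j = k ∨ j = l
      · rw [if_pos hj]
        have hj' := hj
        rcases hj with rfl | rfl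
        · exact hom _ _ ((h1 _).2 hj') ((h2 _).2 hj') h3
        · exact hom _ _ ((h1 _).2 hj') ((h2 _).2 hj') h4
      · rw [if_neg hj, z1 j hj, om_zero_left]
    rw [Finset.sum_congr rfl fun j _ => this j]
    revert hkl
    clear h1 h2 h3 h4 z1 z2 this
    revert k l
    decide

/-- rotation of the plane -/
def rot (x : W) : W := (x.2, x.1 + x.2)

theorem exists_beta (w : Fin 4 → W) (h : isTwo w) : ∃ y, isFull y ∧ isFull (y + w) ∧ isComm y w := by
  obtain ⟨k, l, hkl, h1⟩ := h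
  have z1 : ∀ j, ¬ (j = k ∨ j = l) → w j = 0 := fun j hj => by
    by_contra h0; exact hj ((h1 j).1 h0)
  have r1 : ∀ x : W, x ≠ 0 → rot x ≠ 0 ∧ rot x + x ≠ 0 ∧ om (rot x) x = 1 := by decide
  refine ⟨fun j => if w j = 0 then (1, 0) else rot (w j), fun j => ?_, fun j => ?_, ?_⟩
  · by_cases hj : w j = 0
    · simp only [if_pos hj]; decide
    · simp only [if_neg hj]; exact (r1 _ hj).1
  · rw [Pi.add_apply]
    by_cases hj : w j = 0
    · simp only [if_pos hj]; rw [hj]; decide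
    · simp only [if_neg hj]; exact (r1 _ hj).2.1
  · unfold isComm
    have : ∀ j, om (if w j = 0 then (1, 0) else rot (w j)) (w j) = if j = k ∨ j = l then 1 else 0 := by
      intro j
      by_cases hj : w j = 0
      · have : ¬ (j = k ∨ j = l) := fun h' => (h1 j).2 h' hj
        rw [if_pos hj, if_neg this, hj, om_zero_right]
      · rw [if_neg hj, if_pos ((h1 j).1 hj)]
        exact (r1 _ hj).2.2
    rw [Finset.sum_congr rfl fun j _ => this j]
    revert hkl
    clear h1 z1 this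
    revert k l
    decide

/-- the model of an element of `X` -/
def fm (π : Equiv.Perm (Fin 4)) (e : ZMod 2) (v : Fin 4 → W) : Fin 4 → W :=
  fun j => ((v (π j)).1 + e * (v (π j)).2, (v (π j)).2)

theorem fm_apply (π : Equiv.Perm (Fin 4)) (e : ZMod 2) (v : Fin 4 → W) (j : Fin 4) :
    fm π e v j = ((v (π j)).1 + e * (v (π j)).2, (v (π j)).2) := rfl

/-- fixed vectors different from `ã` in each plane are in `D` -/
theorem t4_aux : ∀ (π : Equiv.Perm (Fin 4)), isV π → ∀ e : ZMod 2, (π ≠ 1 ∨ e ≠ 0) →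
    ∀ a b c d : ZMod 2, (∀ j, ![a, b, c, d] (π j) + e * 1 = ![a, b, c, d] j) → a + b + c + d = 0 := by
  (delta Cfsg.Agent.TypeD4Three.StarModel.isV; set_option synthInstance.maxSize 2000 in open scoped Cfsg.Agent.Lib.PermDec in decide +kernel)

theorem t4 (π : Equiv.Perm (Fin 4)) (e : ZMod 2) (h : isV π) (h' : π ≠ 1 ∨ e ≠ 0) (r : Fin 4 → W)
    (h1 : isFull r) (h2 : isFull (r + A0)) (h3 : fm π e r = r) : isD r := by
  have hr : ∀ j, (r j).2 = 1 := by
    intro j
    refine w_cases' _ (h1 j) fun h0 => h2 j ?_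
    rw [Pi.add_apply, h0]
    show ((1, 0) : W) + (1, 0) = 0
    decide
  refine ⟨fun j k => by rw [hr, hr], ?_⟩
  rw [Fin.sum_univ_four]
  refine t4_aux π h e h' _ _ _ _ fun j => ?_
  have h5 : ∀ i, ![(r 0).1, (r 1).1, (r 2).1, (r 3).1] i = (r i).1 := by
    intro i; fin_cases i <;> rfl
  rw [h5, h5]
  have := congrArg Prod.fst (congrFun h3 j)
  rw [fm_apply, hr] at this
  exact this

theorem isV_sq {π : Equiv.Perm (Fin 4)} (h : isV π) (j : Fin 4) : π (π j) = j := by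
  have := h.1
  exact congrArg (fun p : Equiv.Perm (Fin 4) => p j) this

/-- `C_V(f) = [V, f]` -/
theorem t5 (π : Equiv.Perm (Fin 4)) (e : ZMod 2) (h : isV π) (h' : π ≠ 1 ∨ e ≠ 0) (c : Fin 4 → W)
    (h3 : fm π e c = c) : ∃ r, r + fm π e r = c ∧ (π = 1 ∨ isComm r (fm π e r)) := by
  have hz : ∀ e : ZMod 2, (e ≠ 0 → e = 1) ∧ e + e = 0 := by decide
  by_cases hπ : π = 1
  · subst hπ
    have he : e = 1 := (hz e).1 (h'.resolve_left (fun h => h rfl))
    subst he
    refine ⟨fun j => (0, (c j).1), ?_, Or.inl rfl⟩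
    funext j
    have h4 := congrFun h3 j
    have h5 : ((c j).1 + 1 * (c j).2, (c j).2) = c j := h4
    have h6 : (c j).2 = 0 := by
      have := congrArg Prod.fst h5
      rw [one_mul] at this
      exact left_eq_add.1 this.symm
    rw [Pi.add_apply, fm_apply]
    apply Prod.ext
    · show 0 + (0 + 1 * (c j).1) = (c j).1
      ring
    · show (c j).1 + (c j).1 = (c j).2
      rw [h6]; exact (hz _).2
  · have hfix : ∀ j, π j ≠ j := by
      rcases h.2 with h | h
      · exact absurd h hπ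
      · exact h
    refine ⟨fun j => if j < π j then c j else 0, ?_, Or.inr ?_⟩
    · funext j
      rw [Pi.add_apply, fm_apply, isV_sq h]
      have h4 := congrFun h3 j
      rw [fm_apply] at h4
      rcases lt_or_gt_of_ne (hfix j) with hj | hj
      · rw [if_neg (not_lt.2 hj.le)]
        simp only [if_pos hj]
        rw [h4, zero_add]
      · simp only [if_neg (not_lt.2 hj.le), if_pos hj]
        rw [show (((0 : W).1 + e * (0 : W).2, (0 : W).2) : W) = 0 by
          apply Prod.ext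
          · show (0 : ZMod 2) + e * 0 = 0
            ring
          · rfl, add_zero]
    · unfold isComm
      refine Finset.sum_eq_zero fun j _ => ?_
      rw [fm_apply, isV_sq h]
      rcases lt_or_gt_of_ne (hfix j) with hj | hj
      · simp only [if_neg (not_lt.2 hj.le)]
        exact om_zero_left _
      · simp only [if_neg (not_lt.2 hj.le)]
        rw [show (((0 : W).1 + e * (0 : W).2, (0 : W).2) : W) = 0 by
          apply Prod.ext
          · show (0 : ZMod 2) + e * 0 = 0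
            ring
          · rfl, om_zero_right]

theorem compl_two : ∀ k l : Fin 4, k ≠ l → ∃ k' l' : Fin 4, k' ≠ l' ∧
    ∀ j, ¬ (j = k ∨ j = l) ↔ (j = k' ∨ j = l') := by decide

/-- the choice of `s`, `s'` -/
theorem t6 (π : Equiv.Perm (Fin 4)) (e : ZMod 2) (h : isV π) (h' : π ≠ 1 ∨ e ≠ 0) (w v : Fin 4 → W)
    (h1 : isS w v) (h2 : fm π e w = w) (h3 : fm π e v = v) :
    π ≠ 1 ∧ ∃ s, isTwo s ∧ isFull (w + s) ∧ isFull (v + s) ∧ isFull (w + v + s) ∧ isComm w s ∧
      fm π e s = s ∧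
      ∃ s', isTwo s' ∧ isFull (w + s') ∧ fm π e s' = s' ∧ isFull (v + s + (w + s')) := by
  have hz : ∀ e : ZMod 2, (e ≠ 0 → e = 1) ∧ e + e = 0 := by decide
  obtain ⟨k, l, hkl, hw, hv, hk, hl⟩ := h1
  have hwv : ∀ j, w j = 0 ↔ v j = 0 := by
    intro j
    have := (hw j).trans (hv j).symm
    exact not_iff_not.1 this
  have hπ : π ≠ 1 := by
    intro hπ
    subst hπ
    have he : e = 1 := (hz e).1 (h'.resolve_left (fun h => h rfl))
    subst he
    have key : ∀ c : Fin 4 → W, fm 1 1 c = c → ∀ j, (c j).2 = 0 := by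
      intro c hc j
      have h4 := congrFun hc j
      have h5 : ((c j).1 + 1 * (c j).2, (c j).2) = c j := h4
      have := congrArg Prod.fst h5
      rw [one_mul] at this
      exact left_eq_add.1 this.symm
    apply hk
    rw [w_cases (w k) ((hw k).2 (Or.inl rfl)) (key w h2 k),
      w_cases (v k) ((hv k).2 (Or.inl rfl)) (key v h3 k)]
    decide
  have hfix : ∀ j, π j ≠ j := by
    rcases h.2 with h | h
    · exact absurd h hπ
    · exact h
  have hwπ : ∀ j, w (π j) = 0 ↔ w j = 0 := by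
    intro j
    have h4 := congrFun h2 j
    rw [fm_apply] at h4
    rw [← h4]
    have : ∀ (x : W) (e : ZMod 2), x = 0 ↔ ((x.1 + e * x.2, x.2) : W) = 0 := by decide
    exact this _ _
  obtain ⟨k', l', hkl', hc⟩ := compl_two k l hkl
  have hsupp : ∀ j, w j = 0 ↔ (j = k' ∨ j = l') := by
    intro j
    rw [← hc j, ← hw j, not_not]
  have hadd : ∀ x y : W, x + y ≠ 0 → y + x ≠ 0 := by decide
  have hA : ∀ e : ZMod 2, ((((1, 0) : W).1 + e * ((1, 0) : W).2, ((1, 0) : W).2) : W) = (1, 0) := by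
    decide
  have hB : ∀ e : ZMod 2, (((0 : W).1 + e * (0 : W).2, (0 : W).2) : W) = 0 := by decide
  refine ⟨hπ, fun j => if w j = 0 then (1, 0) else 0, ⟨k', l', hkl', fun j => ?_⟩, fun j => ?_,
    fun j => ?_, fun j => ?_, ?_, ?_, fun j => if w j = 0 then (if j < π j then (0, 1) else (e, 1)) else 0,
    ⟨k', l', hkl', fun j => ?_⟩, fun j => ?_, ?_, fun j => ?_⟩
  · rw [← hsupp j]
    by_cases hj : w j = 0
    · simp only [hj, iff_true]; decide
    · simp only [hj, iff_false]; decide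
  · rw [Pi.add_apply]
    by_cases hj : w j = 0
    · simp only [if_pos hj]; rw [hj]; decide
    · simp only [if_neg hj]; rw [add_zero]; exact hj
  · rw [Pi.add_apply]
    by_cases hj : w j = 0
    · simp only [if_pos hj]; rw [(hwv j).1 hj]; decide
    · simp only [if_neg hj]; rw [add_zero]; exact fun h0 => hj ((hwv j).2 h0)
  · rw [Pi.add_apply, Pi.add_apply]
    by_cases hj : w j = 0
    · simp only [if_pos hj]; rw [hj, (hwv j).1 hj]; decide
    · simp only [if_neg hj]; rw [add_zero]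
      rcases (hw j).1 hj with rfl | rfl
      · exact hk
      · exact hl
  · refine Finset.sum_eq_zero fun j _ => ?_
    by_cases hj : w j = 0
    · rw [hj, om_zero_left]
    · simp only [if_neg hj]; rw [om_zero_right]
  · funext j
    rw [fm_apply]
    by_cases hj : w j = 0
    · simp only [if_pos hj, if_pos ((hwπ j).2 hj)]
      exact hA e
    · simp only [if_neg hj, if_neg (fun h0 => hj ((hwπ j).1 h0))]
      exact hB e
  · rw [← hsupp j]
    have hne : ∀ e : ZMod 2, ((0, 1) : W) ≠ 0 ∧ ((e, 1) : W) ≠ 0 := by decide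
    show (if w j = 0 then (if j < π j then ((0, 1) : W) else (e, 1)) else 0) ≠ 0 ↔ w j = 0
    by_cases hj : w j = 0
    · rw [if_pos hj]
      refine ⟨fun _ => hj, fun _ => ?_⟩
      split_ifs
      · exact (hne e).1
      · exact (hne e).2
    · rw [if_neg hj]
      exact ⟨fun h0 => absurd rfl h0, fun h0 => absurd h0 hj⟩
  · rw [Pi.add_apply]
    have hne : ∀ e : ZMod 2, (0 : W) + ((0, 1) : W) ≠ 0 ∧ (0 : W) + ((e, 1) : W) ≠ 0 := by decide
    by_cases hj : w j = 0
    · simp only [if_pos hj]; rw [hj]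
      split_ifs
      · exact (hne e).1
      · exact (hne e).2
    · simp only [if_neg hj]; rw [add_zero]; exact hj
  · funext j
    rw [fm_apply]
    by_cases hj : w j = 0
    · simp only [if_pos hj, if_pos ((hwπ j).2 hj), isV_sq h]
      rcases lt_or_gt_of_ne (hfix j) with hj' | hj'
      · rw [if_pos hj', if_neg (not_lt.2 hj'.le)]
        apply Prod.ext
        · show 0 + e * 1 = e
          ring
        · rfl
      · rw [if_neg (not_lt.2 hj'.le), if_pos hj']
        apply Prod.ext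
        · show e + e * 1 = 0
          rw [mul_one]; exact (hz e).2
        · rfl
    · simp only [if_neg hj, if_neg (fun h0 => hj ((hwπ j).1 h0))]
      exact hB e
  · rw [Pi.add_apply, Pi.add_apply, Pi.add_apply]
    have hne : ∀ e : ZMod 2, (0 : W) + (1, 0) + (0 + ((0, 1) : W)) ≠ 0 ∧
        (0 : W) + (1, 0) + (0 + ((e, 1) : W)) ≠ 0 := by decide
    by_cases hj : w j = 0
    · simp only [if_pos hj]; rw [hj, (hwv j).1 hj]
      split_ifs
      · exact (hne e).1
      · exact (hne e).2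
    · simp only [if_neg hj]
      rw [add_zero, add_zero]
      apply hadd
      rcases (hw j).1 hj with rfl | rfl
      · exact hk
      · exact hl

/-- the complement of a fixed vector of weight two -/
theorem t8 (π : Equiv.Perm (Fin 4)) (e : ZMod 2) (w : Fin 4 → W) (h1 : isTwo w) (h2 : fm π e w = w) :
    ∃ s, isTwo s ∧ isFull (w + s) ∧ fm π e s = s := by
  obtain ⟨k, l, hkl, hw⟩ := h1
  have hwπ : ∀ j, w (π j) = 0 ↔ w j = 0 := by
    intro j
    have h4 := congrFun h2 j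
    rw [fm_apply] at h4
    rw [← h4]
    have : ∀ (x : W) (e : ZMod 2), x = 0 ↔ ((x.1 + e * x.2, x.2) : W) = 0 := by decide
    exact this _ _
  obtain ⟨k', l', hkl', hc⟩ := compl_two k l hkl
  have hsupp : ∀ j, w j = 0 ↔ (j = k' ∨ j = l') := by
    intro j
    rw [← hc j, ← hw j, not_not]
  have hA : ∀ e : ZMod 2, ((((1, 0) : W).1 + e * ((1, 0) : W).2, ((1, 0) : W).2) : W) = (1, 0) := by
    decide
  have hB : ∀ e : ZMod 2, (((0 : W).1 + e * (0 : W).2, (0 : W).2) : W) = 0 := by decide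
  refine ⟨fun j => if w j = 0 then (1, 0) else 0, ⟨k', l', hkl', fun j => ?_⟩, fun j => ?_, ?_⟩
  · rw [← hsupp j]
    by_cases hj : w j = 0
    · simp only [hj, iff_true]; decide
    · simp only [hj, iff_false]; decide
  · rw [Pi.add_apply]
    by_cases hj : w j = 0
    · simp only [if_pos hj]; rw [hj]; decide
    · simp only [if_neg hj]; rw [add_zero]; exact hj
  · funext j
    rw [fm_apply]
    by_cases hj : w j = 0
    · simp only [if_pos hj, if_pos ((hwπ j).2 hj)]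
      exact hA e
    · simp only [if_neg hj, if_neg (fun h0 => hj ((hwπ j).1 h0))]
      exact hB e

private noncomputable def _root_.Cfsg.Agent.KO4671b96.k59s : (by first | exact Subtype (fun g => @HAdd.hAdd.{0, 0, 0} ((@Fin ((4 : ℕ))) → @Cfsg.Agent.TypeD4Three.StarModel.W) ((@Fin (@Nat.succ (@Nat.succ (@Nat.succ (@Nat.succ ((0 : ℕ))))))) → @Cfsg.Agent.TypeD4Three.StarModel.W) ((@Fin ((4 : ℕ))) → @Cfsg.Agent.TypeD4Three.StarModel.W) _ = @g) | exact Unit : Sort _) := by first | (refine @Subtype.mk _ _ (@(letI c0 := @Prod.fst.{0, 0}; letI c1 := @Prod.snd.{0, 0}; @(fun x0 x1 x2 => (@Cfsg.Agent.KO4671b96.k0 (nat_lit 2) (@c0 _ _ (@x0 @x2)) (@c0 _ _ (@x1 @x2)), @Cfsg.Agent.KO4671b96.k0 (nat_lit 2) (@c1 _ _ (@x0 @x2)) (@c1 _ _ (@x1 @x2)))))) ?_; rewrite [← Cfsg.Agent.KO4671b96.e0]; rfl') | exact ⟨_, rfl⟩ | exact ()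
private noncomputable def _root_.Cfsg.Agent.KO4671b96.k59 : (by first | exact type_of% (@Subtype.val _ _ _root_.Cfsg.Agent.KO4671b96.k59s) | exact Unit : Sort _) := by first | exact @Subtype.val _ _ _root_.Cfsg.Agent.KO4671b96.k59s | exact ()
private theorem _root_.Cfsg.Agent.KO4671b96.e59 : (by first | exact type_of% (show _ = @_root_.Cfsg.Agent.KO4671b96.k59 from @Subtype.property _ _ _root_.Cfsg.Agent.KO4671b96.k59s) | exact True : Prop) := by first | exact @Subtype.property _ _ _root_.Cfsg.Agent.KO4671b96.k59s | trivial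

theorem t7_aux : ∀ a b c d : W, isTwo ![a, b, c, d] → isTwo (A0 + ![a, b, c, d]) → isD ![a, b, c, d] := by
  (delta Cfsg.Agent.TypeD4Three.InstModel.isTwo Cfsg.Agent.TypeD4Three.InstModel.A0 Cfsg.Agent.TypeD4Three.InstModel.isD; set_option synthInstance.maxSize 100000 in exact Cfsg.Agent.Lib.Refl.of (by (first | (rewrite [Cfsg.Agent.KO4671b96.e59, Cfsg.Agent.KO4671b96.e3, Cfsg.Agent.KO4671b96.e5, Cfsg.Agent.KO4671b96.e6.{0}, Cfsg.Agent.KO4671b96.e8.{0}, Cfsg.Agent.KO4671b96.e9]; decide +kernel) | decide +kernel)))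

theorem t7 (r : Fin 4 → W) (h1 : isTwo r) (h2 : isTwo (A0 + r)) : isD r := by
  rw [eq_vec r] at *
  exact t7_aux _ _ _ _ h1 h2

end Cfsg.Agent.TypeD4Three.InstModel
end

-- part: TypeD4Three/InstBase
section
/-!
# S1763, case [P]: large groups at the conjugates of `z`, weights (helper948)
-/

set_option autoImplicit false

namespace Cfsg.Agent.TypeD4Three.InstBase

open Cfsg.Agent.Co2Type.Quad Cfsg.Agent.LargeExtra.Base Cfsg.Agent.LargeExtra.Local
open Cfsg.Agent.TypeD4Three.StarModel Cfsg.Agent.TypeD4Three.StarFrame Cfsg.Agent.TypeD4Three.StarEdge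
open Cfsg.Agent.TypeD4Three.LocIface Cfsg.Agent.TypeD4Three.InstModel Cfsg.Agent.TypeD4Three.Star

variable {G : Type*} [Group G] {Q : Subgroup G} {z : G} {lz : Large Q z}

/-! ### the large group at a conjugate of `z` -/

/-- `x` lies in the large group at `s` -/
def InQ (Q : Subgroup G) (z s x : G) : Prop := ∃ g, g * z * g⁻¹ = s ∧ g⁻¹ * x * g ∈ Q

theorem inQ_iff (lz : Large Q z) {g s x : G} (hg : g * z * g⁻¹ = s) : InQ Q z s x ↔ g⁻¹ * x * g ∈ Q := by
  constructor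
  · rintro ⟨g', hg', h⟩
    have hc : (g⁻¹ * g') * z = z * (g⁻¹ * g') := by
      have h1 : g' * z * g'⁻¹ = g * z * g⁻¹ := hg'.trans hg.symm
      calc g⁻¹ * g' * z = g⁻¹ * (g' * z * g'⁻¹) * g' := by group
        _ = g⁻¹ * (g * z * g⁻¹) * g' := by rw [h1]
        _ = z * (g⁻¹ * g') := by group
    have h2 := lz.conj_mem _ hc _ h
    have e : g⁻¹ * g' * (g'⁻¹ * x * g') * (g⁻¹ * g')⁻¹ = g⁻¹ * x * g := by group
    rwa [e] at h2
  · intro h
    exact ⟨g, hg, h⟩

theorem inQ_z (lz : Large Q z) {x : G} : InQ Q z z x ↔ x ∈ Q := by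
  have h : (1 : G) * z * 1⁻¹ = z := by group
  rw [inQ_iff lz h]
  have e : (1 : G)⁻¹ * x * 1 = x := by group
  rw [e]

theorem inQ_conj (k : G) {s x : G} (h : InQ Q z s x) : InQ Q z (k * s * k⁻¹) (k * x * k⁻¹) := by
  obtain ⟨g, hg, hx⟩ := h
  refine ⟨k * g, ?_, ?_⟩
  · rw [← hg]; group
  · have e : (k * g)⁻¹ * (k * x * k⁻¹) * (k * g) = g⁻¹ * x * g := by group
    rwa [e]

theorem inQ_pair {A : Subgroup G} {a x : G} (p : Pair Q z A a) : InQ Q z a x ↔ x ∈ A := by
  obtain ⟨g, g1, g2, g3, g4⟩ := p.isConj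
  rw [inQ_iff p.lz g1, g3]
  constructor
  · intro h
    refine ⟨_, h, ?_⟩
    show g * (g⁻¹ * x * g) * g⁻¹ = x
    group
  · rintro ⟨y, hy, rfl⟩
    have : g⁻¹ * (MulAut.conj g).toMonoidHom y * g = y := by
      show g⁻¹ * (g * y * g⁻¹) * g = y
      group
    rwa [this]

/-- the swap of a pair -/
theorem swap {A : Subgroup G} {a : G} (p : Pair Q z A a) : ∃ g, g * z * g⁻¹ = a ∧ g * a * g⁻¹ = z ∧
    g⁻¹ * z * g = a ∧ g⁻¹ * a * g = z ∧ (∀ x, g⁻¹ * x * g ∈ Q ↔ x ∈ A) ∧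
      (∀ x, g⁻¹ * x * g ∈ A ↔ x ∈ Q) := by
  obtain ⟨g, g1, g2, g3, g4⟩ := p.isConj
  have hc : ∀ x, (MulAut.conj g).toMonoidHom (g⁻¹ * x * g) = x := by
    intro x
    show g * (g⁻¹ * x * g) * g⁻¹ = x
    group
  have hc' : ∀ y, g⁻¹ * (MulAut.conj g).toMonoidHom y * g = y := by
    intro y
    show g⁻¹ * (g * y * g⁻¹) * g = y
    group
  refine ⟨g, g1, g2, by rw [← g2]; group, by rw [← g1]; group, fun x => ?_, fun x => ?_⟩
  · constructor
    · intro h
      rw [g3]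
      exact ⟨_, h, hc x⟩
    · intro h
      rw [g3] at h
      obtain ⟨y, hy, rfl⟩ := h
      rwa [hc']
  · constructor
    · intro h
      rw [g4]
      exact ⟨_, h, hc x⟩
    · intro h
      rw [g4] at h
      obtain ⟨y, hy, rfl⟩ := h
      rwa [hc']

theorem isConj_conj (g : G) {x : G} : IsConj z (g⁻¹ * x * g) ↔ IsConj z x := by
  constructor
  · intro h
    exact h.trans (isConj_iff.2 ⟨g, by group⟩)
  · intro h
    exact h.trans (isConj_iff.2 ⟨g⁻¹, by group⟩)

/-- symmetry of `t ∈ Q_s` -/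
theorem inQ_symm (lz : Large Q z) {s t : G} (hs : IsConj z s) (ht : IsConj z t) (h : InQ Q z s t) :
    InQ Q z t s := by
  obtain ⟨g, hg⟩ := isConj_iff.1 hs
  rw [inQ_iff lz hg] at h
  have key : InQ Q z (g⁻¹ * t * g) z := by
    by_cases hne : g⁻¹ * t * g = z
    · rw [hne, inQ_z lz]; exact lz.z_mem
    · obtain ⟨A, p⟩ := exists_pair lz ((isConj_conj g).2 ht) h hne
      rw [inQ_pair p]
      exact p.z_mem
  have := inQ_conj g key
  have e : g * (g⁻¹ * t * g) * g⁻¹ = t := by group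
  rwa [e, hg] at this

/-! ### weights -/

section wts

variable {F : Frame lz} (L : Loc F)

include L

/-- conjugates of `z` in `Q` -/
theorem full_of_isConj {x : Q} (h : IsConj z (x : G)) (hne : (x : G) ≠ z) : isFull (F.φ (lz.pr x)) := by
  obtain ⟨A, p⟩ := exists_pair lz h x.2 hne
  intro k
  exact L.full p k

theorem isConj_iff_full (H : Hyp F) {x : Q} (hne : (x : G) ≠ z) :
    IsConj z (x : G) ↔ isFull (F.φ (lz.pr x)) :=
  ⟨fun h => full_of_isConj L h hne, fun h => H.conj_of_wt4 x h⟩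

theorem two_or_full' {x : Q} (h2 : (x : G) * x = 1) (h1 : (x : G) ≠ 1) (hz : (x : G) ≠ z) :
    isTwo (F.φ (lz.pr x)) ∨ isFull (F.φ (lz.pr x)) := by
  apply two_or_full
  · have h3 := lz.q_eq_zero.2 h2
    rw [L.q_wt] at h3
    exact h3
  · intro h0
    have h3 : lz.pr x = 0 := F.φ.injective (by rw [h0, map_zero])
    rcases lz.pr_eq_zero.1 h3 with h | h
    · exact h1 h
    · exact hz h

theorem sq_of_two {x : Q} (h : isTwo (F.φ (lz.pr x))) : (x : G) * x = 1 := by
  rw [← lz.q_eq_zero, L.q_wt]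
  exact wt_two _ h

theorem not_isConj_of_two {x : Q} (h : isTwo (F.φ (lz.pr x))) : ¬ IsConj z (x : G) := by
  intro hc
  by_cases hz : (x : G) = z
  · apply ne_zero_of_two _ h
    rw [lz.pr_eq_zero.2 (Or.inr hz), map_zero]
  · exact not_full_of_two _ h (full_of_isConj L hc hz)

end wts

/-! ### charts -/

section chart

variable {F : Frame lz} {A : Subgroup G} {a : G} {p : Pair Q z A a} (c : Chart F p)

theorem full_iff (v : lz.V) : isFull (c.ψ v) ↔ isFull (F.φ v) := by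
  constructor
  · intro h k hk; exact h k ((c.zero v k).2 hk)
  · intro h k hk; exact h k ((c.zero v k).1 hk)

theorem two_iff (v : lz.V) : isTwo (c.ψ v) ↔ isTwo (F.φ v) := by
  have h : ∀ k, c.ψ v k ≠ 0 ↔ F.φ v k ≠ 0 := fun k => not_congr (c.zero v k)
  unfold isTwo
  simp only [h]

theorem S_iff (v w : lz.V) : isS (c.ψ v) (c.ψ w) ↔ isS (F.φ v) (F.φ w) := by
  have h : ∀ (v : lz.V) k, c.ψ v k ≠ 0 ↔ F.φ v k ≠ 0 := fun v k => not_congr (c.zero v k)
  have h2 : ∀ k, c.ψ v k + c.ψ w k ≠ 0 ↔ F.φ v k + F.φ w k ≠ 0 := by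
    intro k
    have := h (v + w) k
    rw [map_add, map_add] at this
    exact this
  unfold isS
  simp only [h, h2]

theorem ψ_va : c.ψ (lz.pr ⟨a, p.a_mem⟩) = A0 := funext c.va

theorem mem_A_iff (x : Q) : (x : G) ∈ A ↔ isD (c.ψ (lz.pr x)) := by
  rw [← p.pr_mem_D, c.D, isD_iff]

theorem comm_iff (x y : Q) : (x : G) * y = y * x ↔ isComm (c.ψ (lz.pr x)) (c.ψ (lz.pr y)) := by
  rw [← lz.b_pr, c.hb]
  rfl

theorem perp_iff (x : Q) : (x : G) * a = a * x ↔ isPerp (c.ψ (lz.pr x)) := by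
  have h := comm_iff c x ⟨a, p.a_mem⟩
  rw [ψ_va] at h
  rw [h]
  unfold isComm isPerp
  have : ∀ x : W, om x (1, 0) = x.2 := by decide
  simp only [A0, this]

theorem ψ_mul (x y : Q) : c.ψ (lz.pr (x * y)) = c.ψ (lz.pr x) + c.ψ (lz.pr y) := by
  rw [lz.pr_mul, map_add]

/-- the action of an element of `X` in the chart -/
theorem exists_fm {x : G} (hxA : x ∈ A) (hxz : x * z = z * x) : ∃ (π : Equiv.Perm (Fin 4)) (e : ZMod 2),
    isV π ∧ ∀ v, c.ψ (lz.act (cen hxz) v) = fm π e (c.ψ v) := by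
  obtain ⟨π, e, hπ, h⟩ := c.X (lz.act (cen hxz)) (p.mem_X.2 ⟨cen hxz, hxA, rfl⟩)
  refine ⟨π, e, hπ, fun v => ?_⟩
  funext j
  have := h v (π j)
  rw [isV_sq hπ] at this
  rw [this]
  rfl

theorem nontriv [Finite Q] {x : G} (hxQ : x ∉ Q) (hxz : x * z = z * x) {π : Equiv.Perm (Fin 4)}
    {e : ZMod 2} (h : ∀ v, c.ψ (lz.act (cen hxz) v) = fm π e (c.ψ v)) : π ≠ 1 ∨ e ≠ 0 := by
  by_contra hcon
  push Not at hcon
  obtain ⟨rfl, rfl⟩ := hcon
  apply hxQ
  have h1 : lz.act (cen hxz) = 1 := by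
    ext v
    apply c.ψ.injective
    rw [h v]
    funext j
    rw [fm_apply]
    apply Prod.ext
    · show (c.ψ v j).1 + 0 * (c.ψ v j).2 = _
      rw [zero_mul, add_zero]; rfl
    · rfl
  exact lz.mem_of_act (cen hxz) h1

end chart

end Cfsg.Agent.TypeD4Three.InstBase
end

-- part: TypeD4Three/InstFix
section
/-!
# S1763, case [P]: an involution of `C1` fixing `ã` lies in the large group at `a` or `a z` (helper948)
-/

set_option autoImplicit false

namespace Cfsg.Agent.TypeD4Three.InstFix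

open Cfsg.Agent.Co2Type.Quad Cfsg.Agent.LargeExtra.Base Cfsg.Agent.LargeExtra.Local
open Cfsg.Agent.TypeD4Three.StarModel Cfsg.Agent.TypeD4Three.StarFrame Cfsg.Agent.TypeD4Three.StarEdge
open Cfsg.Agent.TypeD4Three.LocIface Cfsg.Agent.TypeD4Three.InstModel Cfsg.Agent.TypeD4Three.Star
open Cfsg.Agent.TypeD4Three.InstBase

variable {G : Type*} [Group G] {Q : Subgroup G} {z : G} {lz : Large Q z} {F : Frame lz}

/-- an element of `A` outside `Q` does not centralize `Q ∩ A` -/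
theorem exists_not_comm_D (L : Loc F) {A : Subgroup G} {a : G} (p : Pair Q z A a) {x : G} (hxA : x ∈ A)
    (hxQ : x ∉ Q) : ∃ d ∈ Q, d ∈ A ∧ x * d ≠ d * x := by
  obtain ⟨g, g1, g2, g3, g4, g5, g6⟩ := swap p
  obtain ⟨c⟩ := L.chart p
  have hx' : g⁻¹ * x * g ∈ Q := (g5 x).2 hxA
  have hx'' : g⁻¹ * x * g ∉ A := fun h => hxQ ((g6 x).1 h)
  by_contra hcon
  push Not at hcon
  apply hx''
  have key : ∀ d : Q, (d : G) ∈ A → (g⁻¹ * x * g) * (d : G) = d * (g⁻¹ * x * g) := by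
    intro d hd
    have e : g⁻¹ * (g * (d : G) * g⁻¹) * g = d := by group
    have h1 : g * (d : G) * g⁻¹ ∈ Q := (g6 _).1 (by rw [e]; exact hd)
    have h2 : g * (d : G) * g⁻¹ ∈ A := (g5 _).1 (by rw [e]; exact d.2)
    have h3 := hcon _ h1 h2
    calc (g⁻¹ * x * g) * (d : G) = g⁻¹ * (x * (g * d * g⁻¹)) * g := by group
      _ = g⁻¹ * (g * d * g⁻¹ * x) * g := by rw [h3]
      _ = d * (g⁻¹ * x * g) := by group
  rw [mem_A_iff c ⟨_, hx'⟩]
  have key' : ∀ u : Fin 4 → W, isD u → isComm (c.ψ (lz.pr ⟨_, hx'⟩)) u := by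
    intro u hu
    obtain ⟨d, hd⟩ := lz.pr_surjective (c.ψ.symm u)
    have h1 : c.ψ (lz.pr d) = u := by rw [hd]; exact c.ψ.apply_symm_apply u
    have h2 := key d ((mem_A_iff c d).2 (by rw [h1]; exact hu))
    rw [← h1]
    exact (comm_iff c ⟨_, hx'⟩ d).1 h2
  generalize c.ψ (lz.pr ⟨_, hx'⟩) = v at key'
  have h1 : ∀ i j : Fin 4, (v i).2 = (v j).2 := by
    intro i j
    by_cases hij : i = j
    · rw [hij]
    · have h2 : isD (dv i j) := by
        revert hij; revert i j; decide +kernel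
      have h3 := key' _ h2
      unfold isComm at h3
      rw [Finset.sum_eq_add i j hij] at h3
      · have h4 : ∀ x : W, om x (1, 0) = x.2 := by decide
        have e1 : dv i j i = (1, 0) := if_pos (Or.inl rfl)
        have e2 : dv i j j = (1, 0) := if_pos (Or.inr rfl)
        rw [e1, e2, h4, h4] at h3
        have : ∀ x y : ZMod 2, x + y = 0 → x = y := by decide
        exact this _ _ h3
      · intro k _ hk
        have e : dv i j k = 0 := if_neg (by rintro (h | h); exacts [hk.1 h, hk.2 h])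
        rw [e, om_zero_right]
      · intro h; exact absurd (Finset.mem_univ _) h
      · intro h; exact absurd (Finset.mem_univ _) h
  refine ⟨h1, ?_⟩
  have h2 : isD (fun _ => (0, 1)) := by decide
  have h3 := key' _ h2
  unfold isComm at h3
  have h4 : ∀ x : W, om x (0, 1) = x.1 := by decide
  simpa only [h4] using h3

theorem lstar [Finite Q] (H : Hyp F) (L : Loc F) {A : Subgroup G} {a : G} (p : Pair Q z A a) {w : G}
    (hw : w ∈ F.C1) (hw2 : w * w = 1) (hwQ : w ∉ Q) (hwa : w * a * w⁻¹ = a ∨ w * a * w⁻¹ = a * z) :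
    InQ Q z a w ∨ InQ Q z (a * z) w := by
  have hwz : w * z = z * w := F.C1_comm hw
  have hza : a * z = z * a := p.comm_za
  -- Step 1
  have h1 : ∃ x ∈ A, ∃ y ∈ Q, x * z = z * x ∧ w = x * y := by
    rcases hwa with hwa | hwa
    · have hwa' : w * a = a * w := by rw [mul_inv_eq_iff_eq_mul] at hwa; exact hwa
      obtain ⟨x, hx, y, hy, hxz, -, h⟩ := (H.edge p hwz hwa').1 hw
      exact ⟨x, hx, y, hy, hxz, h⟩
    · obtain ⟨t, ht, hta⟩ := exists_not_comm lz p.a_mem p.la.z_ne p.ne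
      have htz : t * z = z * t := lz.comm_z t ht
      have hwt : (w * t) * a = a * (w * t) := by
        have h2 : w * a = a * z * w := by rw [mul_inv_eq_iff_eq_mul] at hwa; exact hwa
        calc w * t * a = w * (t * a) := by group
          _ = w * (a * t * z) := by rw [hta]
          _ = w * a * (t * z) := by group
          _ = a * z * w * (z * t) := by rw [h2, htz]
          _ = a * z * (w * z) * t := by group
          _ = a * (z * z) * w * t := by rw [hwz]; group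
          _ = a * (w * t) := by rw [lz.z_sq]; group
      have hwtz : (w * t) * z = z * (w * t) := by
        rw [mul_assoc, htz, ← mul_assoc, hwz, mul_assoc]
      obtain ⟨x, hx, y, hy, hxz, -, h⟩ := (H.edge p hwtz hwt).1 (mul_mem hw (F.Q_le_C1 ht))
      refine ⟨x, hx, y * t⁻¹, mul_mem hy (inv_mem ht), hxz, ?_⟩
      calc w = w * t * t⁻¹ := by group
        _ = x * (y * t⁻¹) := by rw [h]; group
  -- Step 2: `x` an involution
  have h2 : ∃ x ∈ A, ∃ y ∈ Q, x * z = z * x ∧ w = x * y ∧ x * x = 1 := by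
    obtain ⟨x, hx, y, hy, hxz, h⟩ := h1
    have hxQ : x ∉ Q := by
      intro h'
      apply hwQ
      rw [h]; exact mul_mem h' hy
    rcases p.la.sq x hx with hxx | hxx
    · exact ⟨x, hx, y, hy, hxz, h, hxx⟩
    · obtain ⟨d, hdQ, hdA, hd⟩ := exists_not_comm_D L p hx hxQ
      have hdd := p.sq_D hdQ hdA
      have hdx : d * x = x * d * a := by
        rcases p.la.comm d hdA x hx with h' | h'
        · exact absurd h'.symm hd
        · exact h'
      have hda : d * a = a * d := p.la.comm_z d hdA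
      refine ⟨x * d, mul_mem hx hdA, d⁻¹ * y, mul_mem (inv_mem hdQ) hy, ?_, by rw [h]; group, ?_⟩
      · rw [mul_assoc, lz.comm_z d hdQ, ← mul_assoc, hxz, mul_assoc]
      · calc x * d * (x * d) = x * (d * x) * d := by group
          _ = x * (x * d * a) * d := by rw [hdx]
          _ = (x * x) * (d * a) * d := by group
          _ = a * (a * d) * d := by rw [hxx, hda]
          _ = (a * a) * (d * d) := by group
          _ = 1 := by rw [p.la.z_sq, hdd, one_mul]
  obtain ⟨x, hx, y, hy, hxz, h, hxx⟩ := h2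
  have hxQ : x ∉ Q := by
    intro h'
    apply hwQ
    rw [h]; exact mul_mem h' hy
  have hxi : x⁻¹ = x := inv_eq_of_mul_eq_one_left hxx
  -- the action
  obtain ⟨c⟩ := L.chart p
  obtain ⟨π, e, hπ, hf⟩ := exists_fm c hx hxz
  have hnt := nontriv c hxQ hxz hf
  -- `ỹ` is fixed by `x`
  have hfix : fm π e (c.ψ (lz.pr ⟨y, hy⟩)) = c.ψ (lz.pr ⟨y, hy⟩) := by
    rw [← hf, lz.act_pr]
    congr 1
    have h3 : x * y * x⁻¹ = y⁻¹ := by
      rw [h] at hw2
      have : x * y * x⁻¹ * y = 1 := by rw [hxi, ← hw2]; group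
      exact eq_inv_of_mul_eq_one_left this
    have h4 : lz.conjQ (cen hxz) ⟨y, hy⟩ = (⟨y, hy⟩ : Q)⁻¹ := Subtype.ext h3
    rw [h4, lz.pr_inv, lz.neg_eq]
  obtain ⟨r, hr, -⟩ := t5 π e hπ hnt _ hfix
  obtain ⟨t, ht⟩ := lz.pr_surjective (c.ψ.symm r)
  have htr : c.ψ (lz.pr t) = r := by rw [ht]; exact c.ψ.apply_symm_apply r
  have h5 : lz.pr (t * lz.conjQ (cen hxz) t) = lz.pr ⟨y, hy⟩ := by
    apply c.ψ.injective
    rw [ψ_mul, ← lz.act_pr, hf, htr]
    exact hr
  have h6 := lz.pr_eq_pr.1 h5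
  have h6' : (t : G) * (x * t * x⁻¹) = y ∨ (t : G) * (x * t * x⁻¹) = y * z := h6
  have htz : (t : G) * z = z * t := lz.comm_z t t.2
  -- `x y = t⁻¹ x t ·` ... up to `z`
  have h7 : ∃ (t' : G) (_ : t' ∈ Q), w = t' * x * t'⁻¹ ∨ w = t' * x * t'⁻¹ * z := by
    -- `t (x t x⁻¹) = y z^i`; `t x t⁻¹ · ...`
    have hsw : ∀ u : Q, ∃ e : G, (e = 1 ∨ e = z) ∧ (u : G)⁻¹ = u * e := by
      intro u
      rcases lz.sq u u.2 with h' | h'
      · exact ⟨1, Or.inl rfl, by rw [mul_one]; exact inv_eq_of_mul_eq_one_left h'⟩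
      · refine ⟨z, Or.inr rfl, ?_⟩
        rw [inv_eq_iff_mul_eq_one, ← mul_assoc, h', lz.z_sq]
    obtain ⟨e1, he1, he1'⟩ := hsw t
    have hconj : x * (t : G) * x⁻¹ ∈ Q := lz.conj_mem x hxz t t.2
    -- use `t' = x t x⁻¹`
    refine ⟨x * t * x⁻¹, hconj, ?_⟩
    have h8 : x * (t : G) * x⁻¹ * x * (x * t * x⁻¹)⁻¹ = x * ((t : G) * (x * t * x⁻¹) * e1) := by
      have : (x * (t : G) * x⁻¹)⁻¹ = x * t * x⁻¹ * e1 := by
        have hc : x * e1 = e1 * x := by
          rcases he1 with h' | h' <;> rw [h']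
          · rw [one_mul, mul_one]
          · exact hxz
        calc (x * (t : G) * x⁻¹)⁻¹ = x * (t : G)⁻¹ * x⁻¹ := by group
          _ = x * (t * e1) * x⁻¹ := by rw [he1']
          _ = x * t * (e1 * x⁻¹) := by group
          _ = x * t * (e1 * x) := by rw [hxi]
          _ = x * t * (x * e1) := by rw [hc]
          _ = x * t * x⁻¹ * e1 := by rw [hxi]; group
      rw [this]; group
    rw [h8]
    have hy' : ∃ e2 : G, (e2 = 1 ∨ e2 = z) ∧ (t : G) * (x * t * x⁻¹) * e1 = y * e2 := by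
      rcases h6' with h' | h' <;> rcases he1 with h'' | h'' <;> rw [h', h'']
      · exact ⟨1, Or.inl rfl, rfl⟩
      · exact ⟨z, Or.inr rfl, rfl⟩
      · exact ⟨z, Or.inr rfl, by rw [mul_one]⟩
      · exact ⟨1, Or.inl rfl, by rw [mul_assoc, lz.z_sq]⟩
    obtain ⟨e2, he2, he2'⟩ := hy'
    rw [he2', h]
    rcases he2 with h' | h' <;> rw [h']
    · left; rw [mul_one]
    · right
      rw [← mul_assoc, mul_assoc (x * y), lz.z_sq, mul_one]
  obtain ⟨t', ht', h8⟩ := h7
  have ht'z : t' * z = z * t' := lz.comm_z t' ht'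
  -- the point
  have hmem : ∀ s : G, InQ Q z s (t' * x * t'⁻¹) → InQ Q z s z → InQ Q z s w := by
    rintro s ⟨g, hg, h9⟩ h10
    rw [inQ_iff lz hg] at h10
    rw [inQ_iff lz hg]
    rcases h8 with h8 | h8 <;> rw [h8]
    · exact h9
    · have e : g⁻¹ * (t' * x * t'⁻¹ * z) * g = g⁻¹ * (t' * x * t'⁻¹) * g * (g⁻¹ * z * g) := by group
      rw [e]
      exact mul_mem h9 h10
  have hx1 : InQ Q z (t' * a * t'⁻¹) (t' * x * t'⁻¹) := inQ_conj t' ((inQ_pair p).2 hx)
  have hx2 : InQ Q z (t' * a * t'⁻¹) z := by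
    have h9 := inQ_conj t' ((inQ_pair p).2 p.z_mem)
    have e : t' * z * t'⁻¹ = z := by rw [ht'z]; group
    rwa [e] at h9
  have h10 := hmem _ hx1 hx2
  rcases lz.comm t' ht' a p.a_mem with h9 | h9
  · left
    have e : t' * a * t'⁻¹ = a := by rw [h9]; group
    rwa [e] at h10
  · right
    have e : t' * a * t'⁻¹ = a * z := by
      rw [h9]
      calc a * t' * z * t'⁻¹ = a * (t' * z) * t'⁻¹ := by group
        _ = a * (z * t') * t'⁻¹ := by rw [ht'z]
        _ = a * z := by group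
    rwa [e] at h10

end Cfsg.Agent.TypeD4Three.InstFix
end

-- part: TypeD4Three/InstCon
section
/-!
# S1763, case [P]: "inner" does not depend on the conjugate of `z` (helper948)
-/

set_option autoImplicit false

namespace Cfsg.Agent.TypeD4Three.InstCon

open Cfsg.Agent.Co2Type.Quad Cfsg.Agent.LargeExtra.Base Cfsg.Agent.LargeExtra.Local
open Cfsg.Agent.TypeD4Three.StarModel Cfsg.Agent.TypeD4Three.StarFrame Cfsg.Agent.TypeD4Three.StarEdge
open Cfsg.Agent.TypeD4Three.LocIface Cfsg.Agent.TypeD4Three.InstModel Cfsg.Agent.TypeD4Three.Star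
open Cfsg.Agent.TypeD4Three.InstBase Cfsg.Agent.TypeD4Three.InstFix

section parity

/-- An involutory map on a set of odd size has a fixed point. -/
theorem exists_fix {T : Type*} [Finite T] (hodd : Odd (Nat.card T)) (f : T → T) (hf : ∀ x, f (f x) = x) :
    ∃ x, f x = x := by
  have := Fintype.ofFinite T
  let σ : Equiv.Perm T := ⟨f, f, hf, hf⟩
  have hσ : σ ^ 2 ^ 1 = 1 := by
    rw [pow_one, pow_two]
    ext x
    exact hf x
  have hcard : ¬ 2 ∣ Fintype.card T := by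
    rw [← Nat.card_eq_fintype_card, ← even_iff_two_dvd, Nat.not_even_iff_odd]
    exact hodd
  have : Fact (Nat.Prime 2) := ⟨Nat.prime_two⟩
  exact Equiv.Perm.exists_fixed_point_of_prime hcard hσ

/-- Two commuting involutory maps on a set of odd size have a common fixed point. -/
theorem exists_fix_two {T : Type*} [Finite T] (hodd : Odd (Nat.card T)) (f g : T → T)
    (hf : ∀ x, f (f x) = x) (hg : ∀ x, g (g x) = x) (hfg : ∀ x, f (g x) = g (f x)) :
    ∃ x, f x = x ∧ g x = x := by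
  classical
  by_contra hcon
  push Not at hcon
  -- `h x = g x` if `f x = x`, else `f x`
  obtain ⟨x, hx⟩ := exists_fix hodd (fun x => if f x = x then g x else f x) (by
    intro x
    by_cases hx : f x = x
    · simp only [if_pos hx]
      have h1 : f (g x) = g x := by rw [hfg, hx]
      rw [if_pos h1, hg]
    · simp only [if_neg hx]
      have h1 : ¬ f (f x) = f x := by rw [hf]; exact fun h => hx h.symm
      rw [if_neg h1, hf])
  by_cases hx' : f x = x
  · simp only [if_pos hx'] at hx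
    exact hcon x hx' hx
  · simp only [if_neg hx'] at hx
    exact hx' hx

end parity

variable {G : Type*} [Group G] {Q : Subgroup G} {z : G} {lz : Large Q z} {F : Frame lz}

/-- the conjugates of `z` -/
theorem card_conj [Finite G] : Nat.card {x : G // IsConj z x} = (Subgroup.centralizer ({z} : Set G)).index := by
  let f : G ⧸ Subgroup.centralizer ({z} : Set G) → {x : G // IsConj z x} :=
    Quotient.lift (fun g : G => (⟨g * z * g⁻¹, isConj_iff.2 ⟨g, rfl⟩⟩ : {x : G // IsConj z x})) (by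
      intro a b hab
      have h1 : a⁻¹ * b ∈ Subgroup.centralizer ({z} : Set G) := QuotientGroup.leftRel_apply.1 hab
      rw [Subgroup.mem_centralizer_singleton_iff] at h1
      apply Subtype.ext
      show a * z * a⁻¹ = b * z * b⁻¹
      calc a * z * a⁻¹ = a * (z * (a⁻¹ * b)) * b⁻¹ := by group
        _ = a * (a⁻¹ * b * z) * b⁻¹ := by rw [h1]
        _ = b * z * b⁻¹ := by group)
  refine (Nat.card_congr (Equiv.ofBijective f ⟨?_, ?_⟩)).symm
  · intro x y hxy
    obtain ⟨a, rfl⟩ := QuotientGroup.mk_surjective x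
    obtain ⟨b, rfl⟩ := QuotientGroup.mk_surjective y
    have h1 : a * z * a⁻¹ = b * z * b⁻¹ := congrArg Subtype.val hxy
    rw [QuotientGroup.eq, Subgroup.mem_centralizer_singleton_iff]
    calc a⁻¹ * b * z = a⁻¹ * (b * z * b⁻¹) * b := by group
      _ = a⁻¹ * (a * z * a⁻¹) * b := by rw [h1]
      _ = z * (a⁻¹ * b) := by group
  · rintro ⟨x, hx⟩
    obtain ⟨g, hg⟩ := isConj_iff.1 hx
    exact ⟨(g : G ⧸ _), Subtype.ext hg⟩

theorem odd_conj [Finite G] (lz : Large Q z) : Odd (Nat.card {x : G // IsConj z x}) := by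
  rw [card_conj]
  exact Cfsg.Agent.LargeExtra.TwoCentral.odd_index lz

/-- the full vectors -/
abbrev Full (F : Frame lz) : Type _ := {v : lz.V // isFull (F.φ v)}

theorem card_full (F : Frame lz) : Nat.card (Full F) = 81 := by
  have e1 : Full F ≃ {u : Fin 4 → W // isFull u} :=
    F.φ.toEquiv.subtypeEquiv (fun v => Iff.rfl)
  have e2 : {u : Fin 4 → W // ∀ k, u k ≠ 0} ≃ (Fin 4 → {x : W // x ≠ 0}) :=
    Equiv.subtypePiEquivPi (p := fun (_ : Fin 4) (x : W) => x ≠ 0)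
  rw [Nat.card_congr (e1.trans e2), Nat.card_eq_fintype_card, Fintype.card_fun, Fintype.card_fin]
  have : Fintype.card {x : W // x ≠ 0} = 3 := by decide
  rw [this]; rfl

theorem full_act (F : Frame lz) (c : ↥(Subgroup.centralizer ({z} : Set G))) {v : lz.V}
    (h : isFull (F.φ v)) : isFull (F.φ (lz.act c v)) := by
  intro j
  obtain ⟨k, rfl⟩ := (F.π c).surjective j
  rw [F.hact]
  exact F.g_ne (h k)

/-- commuting involutions fix a common full vector -/
theorem exists_full (F : Frame lz) {s w : G} (hs : s * s = 1) (hw : w * w = 1) (hsz : s * z = z * s)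
    (hwz : w * z = z * w) (hsw : s * w = w * s) :
    ∃ v, isFull (F.φ v) ∧ lz.act (cen hsz) v = v ∧ lz.act (cen hwz) v = v := by
  have hfin : Finite (Full F) := by
    apply Nat.finite_of_card_ne_zero
    rw [card_full]; decide
  obtain ⟨v, h1, h2⟩ := exists_fix_two (T := Full F) (by rw [card_full]; decide)
    (fun v => ⟨lz.act (cen hsz) v.1, full_act F _ v.2⟩) (fun v => ⟨lz.act (cen hwz) v.1, full_act F _ v.2⟩)
    (fun v => Subtype.ext (act_act hs hsz v.1)) (fun v => Subtype.ext (act_act hw hwz v.1))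
    (fun v => Subtype.ext (by
      show lz.act (cen hsz) (lz.act (cen hwz) v.1) = lz.act (cen hwz) (lz.act (cen hsz) v.1)
      have h1 : cen hsz * cen hwz = cen hwz * cen hsz := Subtype.ext hsw
      have h2 : lz.act (cen hsz) * lz.act (cen hwz) = lz.act (cen hwz) * lz.act (cen hsz) := by
        rw [← map_mul, h1, map_mul]
      exact congrArg (fun e : lz.V ≃ₗ[ZMod 2] lz.V => e v.1) h2))
  exact ⟨v.1, v.2, congrArg Subtype.val h1, congrArg Subtype.val h2⟩

/-- two commuting conjugates of `z`, the first equal to `z` -/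
theorem con_z [Finite Q] (H : Hyp F) (L : Loc F) {s w : G} (hs : IsConj z s) (hsz : s * z = z * s)
    (hw : w * w = 1) (hwz : w * z = z * w) (hws : w * s = s * w) : In F z w ↔ In F s w := by
  by_cases hs1 : s = z
  · rw [hs1]
  by_cases hsQ : s ∈ Q
  · obtain ⟨A, p⟩ := exists_pair lz hs hsQ hs1
    exact edge_in H p hwz hws
  have hss := sq_of_isConj lz hs
  have hsC : s ∈ F.C1 := star H hs hsz
  obtain ⟨v, hv, hsv, hwv⟩ := exists_full F hss hw hsz hwz hws.symm
  obtain ⟨c, rfl⟩ := lz.pr_surjective v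
  have hcc : IsConj z (c : G) := H.conj_of_wt4 c hv
  have hcz : (c : G) ≠ z := by
    intro h
    apply hv 0
    rw [lz.pr_eq_zero.2 (Or.inr h), map_zero]; rfl
  obtain ⟨A, p⟩ := exists_pair lz hcc c.2 hcz
  have hsc := conj_of_fix hsz hsv rfl
  have hwc := conj_of_fix hwz hwv rfl
  have hzz : (c : G) * z = z * c := lz.comm_z c c.2
  -- the point `c'` with `s ∈ Q_{c'}`
  have key : ∃ c' : Q, lz.pr c' = lz.pr c ∧ InQ Q z (c' : G) s := by
    rcases lstar H L p hsC hss hsQ hsc with h | h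
    · exact ⟨c, rfl, h⟩
    · exact ⟨c * ⟨z, lz.z_mem⟩, pr_mul_z c rfl, h⟩
  obtain ⟨c', hc', hcs⟩ := key
  have hv' : isFull (F.φ (lz.pr c')) := by rw [hc']; exact hv
  have hcc' : IsConj z (c' : G) := H.conj_of_wt4 c' hv'
  have hcz' : (c' : G) ≠ z := by
    intro h
    apply hv' 0
    rw [lz.pr_eq_zero.2 (Or.inr h), map_zero]; rfl
  obtain ⟨B, q⟩ := exists_pair lz hcc' c'.2 hcz'
  have hwc' : w * c' = c' * w := by
    rcases conj_of_fix hwz (by rw [hc']; exact hwv) (rfl : lz.pr c' = lz.pr c') with h | h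
    · rw [mul_inv_eq_iff_eq_mul] at h; exact h
    · exfalso
      have h1 : InQ Q z ((c' : G) * z) s := by
        have := inQ_conj w hcs
        rw [h] at this
        have e : w * s * w⁻¹ = s := by rw [hws]; group
        rwa [e] at this
      have h2 : InQ Q z s c' := inQ_symm lz hcc' hs hcs
      have hcc'' : IsConj z ((c' : G) * z) := by
        rw [← h]
        exact hcc'.trans (isConj_iff.2 ⟨w, rfl⟩)
      have h3 : InQ Q z s (c' * z) := inQ_symm lz hcc'' hs h1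
      have h4 : InQ Q z s z := by
        obtain ⟨g, hg, h5⟩ := h2
        rw [inQ_iff lz hg] at h3
        refine ⟨g, hg, ?_⟩
        have e : g⁻¹ * z * g = (g⁻¹ * c' * g)⁻¹ * (g⁻¹ * (c' * z) * g) := by group
        rw [e]
        exact mul_mem (inv_mem h5) h3
      exact hsQ ((inQ_z lz).1 (inQ_symm lz hs (IsConj.refl z) h4))
  have h1 := edge_in H q hwz hwc'
  rw [h1]
  -- the edge `c' - s`
  obtain ⟨k, hk⟩ := isConj_iff.1 hcc'
  have hs' : k⁻¹ * s * k ∈ Q := (inQ_iff lz hk).1 hcs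
  have hne : k⁻¹ * s * k ≠ z := by
    intro h
    apply hsQ
    have : s = c' := by rw [← hk, ← h]; group
    rw [this]; exact c'.2
  obtain ⟨B', q'⟩ := exists_pair lz ((isConj_conj k).2 hs) hs' hne
  have e : k * (k⁻¹ * s * k) * k⁻¹ = s := by group
  have h2 := edge_in' H (k := k) q' (u := w) (by rw [hk]; exact hwc') (by rw [e]; exact hws)
  rwa [hk, e] at h2

/-- commuting conjugates of `z` -/
theorem con_comm [Finite Q] (H : Hyp F) (L : Loc F) {s t w : G} (hs : IsConj z s) (ht : IsConj z t)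
    (hst : s * t = t * s) (hw : w * w = 1) (hws : w * s = s * w) (hwt : w * t = t * w) :
    In F s w ↔ In F t w := by
  obtain ⟨g, hg⟩ := isConj_iff.1 hs
  have key : ∀ s, In F s w ↔ In F (g⁻¹ * s * g) (g⁻¹ * w * g) := by
    intro s
    constructor
    · intro h
      have := in_conj g⁻¹ h
      rwa [inv_inv] at this
    · intro h
      have := in_conj g h
      have e1 : g * (g⁻¹ * s * g) * g⁻¹ = s := by group
      have e2 : g * (g⁻¹ * w * g) * g⁻¹ = w := by group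
      rwa [e1, e2] at this
  have hcomm : ∀ x y : G, x * y = y * x → (g⁻¹ * x * g) * (g⁻¹ * y * g) = (g⁻¹ * y * g) * (g⁻¹ * x * g) := by
    intro x y hxy
    calc (g⁻¹ * x * g) * (g⁻¹ * y * g) = g⁻¹ * (x * y) * g := by group
      _ = g⁻¹ * (y * x) * g := by rw [hxy]
      _ = _ := by group
  have hgz : g⁻¹ * s * g = z := by rw [← hg]; group
  rw [key s, key t, hgz]
  have h1 := hcomm t s hst.symm
  have h2 := hcomm w s hws
  rw [hgz] at h1 h2
  refine con_z H L ((isConj_conj g).2 ht) h1 ?_ h2 (hcomm w t hwt)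
  calc g⁻¹ * w * g * (g⁻¹ * w * g) = g⁻¹ * (w * w) * g := by group
    _ = 1 := by rw [hw]; group

/-- **(CON)** -/
theorem con [Finite G] (H : Hyp F) (L : Loc F) {s w : G} (hs : IsConj z s) (hw : w * w = 1)
    (hwz : w * z = z * w) (hws : w * s = s * w) (hin : In F z w) : In F s w := by
  classical
  by_contra hns
  have hss := sq_of_isConj lz hs
  have hwi : w⁻¹ = w := inv_eq_of_mul_eq_one_left hw
  have hzi : z⁻¹ = z := lz.z_inv
  have hsi : s⁻¹ = s := inv_eq_of_mul_eq_one_left hss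
  have hc : ∀ (k x : G), IsConj z x → IsConj z (k * x * k⁻¹) := fun k x hx =>
    hx.trans (isConj_iff.2 ⟨k, rfl⟩)
  let kk : G → G := fun x => if w * x = x * w then (if In F x w then s else z) else w
  have hkk : ∀ x, kk x * kk x = 1 := by
    intro x
    show (if w * x = x * w then (if In F x w then s else z) else w) *
      (if w * x = x * w then (if In F x w then s else z) else w) = 1
    split_ifs
    · exact hss
    · exact lz.z_sq
    · exact hw
  have hcw : ∀ k x : G, k * w = w * k → (w * (k * x * k⁻¹) = (k * x * k⁻¹) * w ↔ w * x = x * w) := by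
    intro k x hk
    have hk' : w * k⁻¹ = k⁻¹ * w := by
      calc w * k⁻¹ = k⁻¹ * (k * w) * k⁻¹ := by group
        _ = k⁻¹ * (w * k) * k⁻¹ := by rw [hk]
        _ = k⁻¹ * w := by group
    have e1 : w * (k * x * k⁻¹) = k * (w * x) * k⁻¹ := by
      calc w * (k * x * k⁻¹) = (w * k) * x * k⁻¹ := by group
        _ = (k * w) * x * k⁻¹ := by rw [hk]
        _ = k * (w * x) * k⁻¹ := by group
    have e2 : (k * x * k⁻¹) * w = k * (x * w) * k⁻¹ := by
      calc k * x * k⁻¹ * w = k * x * (k⁻¹ * w) := by group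
        _ = k * x * (w * k⁻¹) := by rw [hk']
        _ = k * (x * w) * k⁻¹ := by group
    rw [e1, e2]
    constructor
    · intro h
      exact mul_left_cancel (mul_right_cancel h)
    · intro h; rw [h]
  have hIn : ∀ k x : G, k * w = w * k → (In F (k * x * k⁻¹) w ↔ In F x w) := by
    intro k x hk
    have e : k * w * k⁻¹ = w := by rw [hk]; group
    constructor
    · intro h
      have := in_conj k⁻¹ h
      have e1 : k⁻¹ * (k * x * k⁻¹) * k⁻¹⁻¹ = x := by group
      have e2 : k⁻¹ * w * k⁻¹⁻¹ = w := by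
        calc k⁻¹ * w * k⁻¹⁻¹ = k⁻¹ * (w * k) := by group
          _ = k⁻¹ * (k * w) := by rw [hk]
          _ = w := by group
      rwa [e1, e2] at this
    · intro h
      have := in_conj k h
      rwa [e] at this
  have hkw : ∀ x, kk x * w = w * kk x := by
    intro x
    show (if w * x = x * w then (if In F x w then s else z) else w) * w =
      w * (if w * x = x * w then (if In F x w then s else z) else w)
    split_ifs
    · exact hws.symm
    · exact hwz.symm
    · rfl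
  have hkk2 : ∀ x, kk (kk x * x * (kk x)⁻¹) = kk x := by
    intro x
    have h1 := hcw (kk x) x (hkw x)
    have h2 := hIn (kk x) x (hkw x)
    show (if w * (kk x * x * (kk x)⁻¹) = (kk x * x * (kk x)⁻¹) * w then
      (if In F (kk x * x * (kk x)⁻¹) w then s else z) else w) = _
    simp only [h1, h2]
    rfl
  obtain ⟨⟨x, hx⟩, hfix⟩ := exists_fix (odd_conj lz)
    (fun x : {x : G // IsConj z x} => ⟨kk x.1 * x.1 * (kk x.1)⁻¹, hc _ _ x.2⟩) (by
      rintro ⟨x, hx⟩
      apply Subtype.ext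
      show kk (kk x * x * (kk x)⁻¹) * (kk x * x * (kk x)⁻¹) * (kk (kk x * x * (kk x)⁻¹))⁻¹ = x
      rw [hkk2]
      have h1 := hkk x
      calc kk x * (kk x * x * (kk x)⁻¹) * (kk x)⁻¹ = (kk x * kk x) * x * (kk x * kk x)⁻¹ := by group
        _ = x := by rw [h1]; group)
  have hfix' : kk x * x * (kk x)⁻¹ = x := congrArg Subtype.val hfix
  rw [mul_inv_eq_iff_eq_mul] at hfix'
  by_cases h1 : w * x = x * w
  · by_cases h2 : In F x w
    · have e : kk x = s := by
        show (if w * x = x * w then (if In F x w then s else z) else w) = s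
        rw [if_pos h1, if_pos h2]
      rw [e] at hfix'
      exact hns ((con_comm H L hx hs hfix'.symm hw h1 hws).1 h2)
    · have e : kk x = z := by
        show (if w * x = x * w then (if In F x w then s else z) else w) = z
        rw [if_pos h1, if_neg h2]
      rw [e] at hfix'
      exact h2 ((con_comm H L (IsConj.refl z) hx hfix' hw hwz h1).1 hin)
  · have e : kk x = w := by
      show (if w * x = x * w then (if In F x w then s else z) else w) = w
      rw [if_neg h1]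
    rw [e] at hfix'
    exact h1 hfix'

end Cfsg.Agent.TypeD4Three.InstCon
end

private theorem dce_cdc4e6f4282c : _root_.True := by
  try have : _root_.True := by simp only [_root_.Cfsg.Agent.TypeD4Three.InstModel.A0.eq_1]
  exact _root_.True.intro
end

-- part: TypeD4Three/InstSwap
section
prune_inst 0x420004410516200000000051202001c668e000192006b00016020034207c80f01e0078721bc601610801286540038004002000110406800002a008a0041180080042a12020040a00021000000d804000000000000000000000000000000000000000000000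
set_option linter.all false
open scoped Cfsg.Agent.FastGrp

/-!
# S1763, case [P]: weights at a neighbour `a`, weight two elements (helper948)
-/

set_option autoImplicit false

namespace Cfsg.Agent.TypeD4Three.InstSwap

open Cfsg.Agent.Co2Type.Quad Cfsg.Agent.LargeExtra.Base Cfsg.Agent.LargeExtra.Local
open Cfsg.Agent.TypeD4Three.StarModel Cfsg.Agent.TypeD4Three.StarFrame Cfsg.Agent.TypeD4Three.StarEdge
open Cfsg.Agent.TypeD4Three.LocIface Cfsg.Agent.TypeD4Three.InstModel Cfsg.Agent.TypeD4Three.Star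
open Cfsg.Agent.TypeD4Three.InstBase Cfsg.Agent.TypeD4Three.InstFix Cfsg.Agent.TypeD4Three.InstCon

variable {G : Type*} [Group G] {Q : Subgroup G} {z : G} {lz : Large Q z} {F : Frame lz}

/-! ### weight two -/

/-- weight two at `z` -/
def W1 (F : Frame lz) (w : G) : Prop := ∃ h : w ∈ Q, isTwo (F.φ (lz.pr ⟨w, h⟩))

/-- weight two at `s` -/
def Wt (F : Frame lz) (s w : G) : Prop := ∃ g, g * z * g⁻¹ = s ∧ W1 F (g⁻¹ * w * g)

/-- the relation `S` at `z` -/
def S1 (F : Frame lz) (w v : G) : Prop := ∃ (hw : w ∈ Q) (hv : v ∈ Q),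
  isS (F.φ (lz.pr ⟨w, hw⟩)) (F.φ (lz.pr ⟨v, hv⟩))

/-- the relation `S` at `s` -/
def St (F : Frame lz) (s w v : G) : Prop := ∃ g, g * z * g⁻¹ = s ∧ S1 F (g⁻¹ * w * g) (g⁻¹ * v * g)

theorem act_zero_iff (F : Frame lz) (c : ↥(Subgroup.centralizer ({z} : Set G))) (v : lz.V) (k : Fin 4) :
    F.φ (lz.act c v) (F.π c k) = 0 ↔ F.φ v k = 0 := by
  rw [F.hact]
  constructor
  · intro h
    by_contra h0
    exact F.g_ne h0 h
  · intro h
    rw [h, F.g_zero]

theorem two_act (F : Frame lz) (c : ↥(Subgroup.centralizer ({z} : Set G))) {v : lz.V}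
    (h : isTwo (F.φ v)) : isTwo (F.φ (lz.act c v)) := by
  obtain ⟨k, l, hkl, h⟩ := h
  refine ⟨F.π c k, F.π c l, fun h' => hkl ((F.π c).injective h'), fun j => ?_⟩
  obtain ⟨i, rfl⟩ := (F.π c).surjective j
  rw [Ne, act_zero_iff, ← Ne, h i, (F.π c).injective.eq_iff, (F.π c).injective.eq_iff]

theorem S_act (F : Frame lz) (c : ↥(Subgroup.centralizer ({z} : Set G))) {v w : lz.V}
    (h : isS (F.φ v) (F.φ w)) : isS (F.φ (lz.act c v)) (F.φ (lz.act c w)) := by
  obtain ⟨k, l, hkl, h1, h2, h3, h4⟩ := h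
  have key : ∀ k, F.φ v k + F.φ w k ≠ 0 →
      F.φ (lz.act c v) (F.π c k) + F.φ (lz.act c w) (F.π c k) ≠ 0 := by
    intro k hk
    have := (not_congr (act_zero_iff F c (v + w) k)).2
      (by rw [map_add, Pi.add_apply]; exact hk)
    rw [map_add, map_add, Pi.add_apply] at this
    exact this
  refine ⟨F.π c k, F.π c l, fun h' => hkl ((F.π c).injective h'), fun j => ?_, fun j => ?_,
    key _ h3, key _ h4⟩
  · obtain ⟨i, rfl⟩ := (F.π c).surjective j
    rw [Ne, act_zero_iff, ← Ne, h1 i, (F.π c).injective.eq_iff, (F.π c).injective.eq_iff]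
  · obtain ⟨i, rfl⟩ := (F.π c).surjective j
    rw [Ne, act_zero_iff, ← Ne, h2 i, (F.π c).injective.eq_iff, (F.π c).injective.eq_iff]

theorem W1_conj {w k : G} (hk : k * z = z * k) (h : W1 F w) : W1 F (k * w * k⁻¹) := by
  obtain ⟨hw, h⟩ := h
  refine ⟨lz.conj_mem k hk w hw, ?_⟩
  have := two_act F (cen hk) h
  rwa [lz.act_pr] at this

theorem S1_conj {w v k : G} (hk : k * z = z * k) (h : S1 F w v) : S1 F (k * w * k⁻¹) (k * v * k⁻¹) := by
  obtain ⟨hw, hv, h⟩ := h
  refine ⟨lz.conj_mem k hk w hw, lz.conj_mem k hk v hv, ?_⟩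
  have := S_act F (cen hk) h
  rwa [lz.act_pr, lz.act_pr] at this

theorem Wt_iff {g s w : G} (hg : g * z * g⁻¹ = s) : Wt F s w ↔ W1 F (g⁻¹ * w * g) := by
  constructor
  · rintro ⟨g', hg', h⟩
    have hc : (g⁻¹ * g') * z = z * (g⁻¹ * g') := by
      have h1 : g' * z * g'⁻¹ = g * z * g⁻¹ := hg'.trans hg.symm
      calc g⁻¹ * g' * z = g⁻¹ * (g' * z * g'⁻¹) * g' := by group
        _ = g⁻¹ * (g * z * g⁻¹) * g' := by rw [h1]
        _ = z * (g⁻¹ * g') := by group
    have h2 := W1_conj hc h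
    have e : g⁻¹ * g' * (g'⁻¹ * w * g') * (g⁻¹ * g')⁻¹ = g⁻¹ * w * g := by group
    rwa [e] at h2
  · intro h
    exact ⟨g, hg, h⟩

theorem St_iff {g s w v : G} (hg : g * z * g⁻¹ = s) : St F s w v ↔ S1 F (g⁻¹ * w * g) (g⁻¹ * v * g) := by
  constructor
  · rintro ⟨g', hg', h⟩
    have hc : (g⁻¹ * g') * z = z * (g⁻¹ * g') := by
      have h1 : g' * z * g'⁻¹ = g * z * g⁻¹ := hg'.trans hg.symm
      calc g⁻¹ * g' * z = g⁻¹ * (g' * z * g'⁻¹) * g' := by group
        _ = g⁻¹ * (g * z * g⁻¹) * g' := by rw [h1]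
        _ = z * (g⁻¹ * g') := by group
    have h2 := S1_conj hc h
    have e : ∀ w, g⁻¹ * g' * (g'⁻¹ * w * g') * (g⁻¹ * g')⁻¹ = g⁻¹ * w * g := by intro w; group
    rwa [e, e] at h2
  · intro h
    exact ⟨g, hg, h⟩

theorem Wt_z {w : G} : Wt F z w ↔ W1 F w := by
  have h : (1 : G) * z * 1⁻¹ = z := by group
  rw [Wt_iff h]
  have e : (1 : G)⁻¹ * w * 1 = w := by group
  rw [e]

theorem St_z {w v : G} : St F z w v ↔ S1 F w v := by
  have h : (1 : G) * z * 1⁻¹ = z := by group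
  rw [St_iff h]
  have e : ∀ w : G, (1 : G)⁻¹ * w * 1 = w := by intro w; group
  rw [e, e]

theorem Wt_conj (k : G) {s w : G} (h : Wt F s w) : Wt F (k * s * k⁻¹) (k * w * k⁻¹) := by
  obtain ⟨g, hg, hx⟩ := h
  refine ⟨k * g, ?_, ?_⟩
  · rw [← hg]; group
  · have e : (k * g)⁻¹ * (k * w * k⁻¹) * (k * g) = g⁻¹ * w * g := by group
    rwa [e]

theorem St_conj (k : G) {s w v : G} (h : St F s w v) :
    St F (k * s * k⁻¹) (k * w * k⁻¹) (k * v * k⁻¹) := by
  obtain ⟨g, hg, hx⟩ := h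
  refine ⟨k * g, ?_, ?_⟩
  · rw [← hg]; group
  · have e : ∀ w, (k * g)⁻¹ * (k * w * k⁻¹) * (k * g) = g⁻¹ * w * g := by intro w; group
    rwa [e, e]

theorem W1.not_isConj (L : Loc F) {w : G} (h : W1 F w) : ¬ IsConj z w := by
  obtain ⟨hw, h⟩ := h
  exact not_isConj_of_two L h

theorem W1.mul_z {w : G} (h : W1 F w) : W1 F (z * w) := by
  obtain ⟨hw, h⟩ := h
  refine ⟨mul_mem lz.z_mem hw, ?_⟩
  have : lz.pr ⟨z * w, mul_mem lz.z_mem hw⟩ = lz.pr ⟨w, hw⟩ := by
    apply pr_mul_z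
    show z * w = w * z
    rw [lz.comm_z w hw]
  rwa [this]

theorem W1.sq (L : Loc F) {w : G} (h : W1 F w) : w * w = 1 := by
  obtain ⟨hw, h⟩ := h
  exact sq_of_two L h

theorem W1.ne (h1 : W1 F (1 : G)) : False := by
  obtain ⟨hw, h⟩ := h1
  apply ne_zero_of_two _ h
  rw [lz.pr_eq_zero.2 (Or.inl rfl), map_zero]

/-! ### the swapped coordinates -/

section sv

variable {A : Subgroup G} {a : G} {p : Pair Q z A a} (c : Chart F p) {g : G}
  (g1 : g * z * g⁻¹ = a) (g3 : g⁻¹ * z * g = a)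
  (g5 : ∀ x, g⁻¹ * x * g ∈ Q ↔ x ∈ A) (g6 : ∀ x, g⁻¹ * x * g ∈ A ↔ x ∈ Q)

/-- the coordinates of `y ∈ A` at `a` -/
noncomputable def sv (y : A) : Fin 4 → W := c.ψ (lz.pr ⟨g⁻¹ * y * g, (g5 y).2 y.2⟩)

theorem sv_mul (x y : A) : sv c g5 (x * y) = sv c g5 x + sv c g5 y := by
  unfold sv
  rw [← ψ_mul]
  congr 2
  apply Subtype.ext
  show g⁻¹ * ((x : G) * y) * g = g⁻¹ * x * g * (g⁻¹ * y * g)
  group

include g3 in
theorem sv_z (hz : z ∈ A) : sv c g5 ⟨z, hz⟩ = A0 := by
  rw [← ψ_va c]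
  unfold sv
  congr 2
  exact Subtype.ext g3

include g1 in
theorem sv_zero_iff {y : A} : sv c g5 y = 0 ↔ (y : G) = 1 ∨ (y : G) = a := by
  unfold sv
  rw [map_eq_zero_iff c.ψ c.ψ.injective, lz.pr_eq_zero]
  constructor
  · rintro (h | h)
    · left
      have h' : g⁻¹ * (y : G) * g = 1 := h
      calc (y : G) = g * (g⁻¹ * y * g) * g⁻¹ := by group
        _ = 1 := by rw [h']; group
    · right
      have h' : g⁻¹ * (y : G) * g = z := h
      calc (y : G) = g * (g⁻¹ * y * g) * g⁻¹ := by group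
        _ = a := by rw [h', g1]
  · rintro (h | h)
    · left
      show g⁻¹ * (y : G) * g = 1
      rw [h]; group
    · right
      show g⁻¹ * (y : G) * g = z
      rw [h, ← g1]; group

theorem sv_comm {x y : A} : (x : G) * y = y * x ↔ isComm (sv c g5 x) (sv c g5 y) := by
  unfold sv
  rw [← comm_iff c]
  show _ ↔ g⁻¹ * (x : G) * g * (g⁻¹ * y * g) = g⁻¹ * y * g * (g⁻¹ * x * g)
  have e : ∀ x y : G, g⁻¹ * x * g * (g⁻¹ * y * g) = g⁻¹ * (x * y) * g := by intro x y; group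
  rw [e, e]
  constructor
  · intro h; rw [h]
  · intro h
    exact mul_left_cancel (mul_right_cancel h)

include g3 in
theorem sv_perp {x : A} : (x : G) * z = z * x ↔ isPerp (sv c g5 x) := by
  unfold sv
  rw [← perp_iff c]
  show _ ↔ g⁻¹ * (x : G) * g * a = a * (g⁻¹ * x * g)
  rw [← g3]
  have e : ∀ x y : G, g⁻¹ * x * g * (g⁻¹ * y * g) = g⁻¹ * (x * y) * g := by intro x y; group
  rw [e, e]
  constructor
  · intro h; rw [h]
  · intro h
    exact mul_left_cancel (mul_right_cancel h)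

include g6 in
theorem sv_D {x : A} : (x : G) ∈ Q ↔ isD (sv c g5 x) := by
  unfold sv
  rw [← mem_A_iff c]
  exact (g6 x).symm

include g1 in
theorem sv_full (H : Hyp F) (L : Loc F) {x : A} (hx : (x : G) ≠ a) :
    IsConj z (x : G) ↔ isFull (sv c g5 x) := by
  unfold sv
  rw [full_iff c, ← isConj_iff_full L H]
  · exact (isConj_conj g).symm
  · intro h
    apply hx
    have h' : g⁻¹ * (x : G) * g = z := h
    calc (x : G) = g * (g⁻¹ * x * g) * g⁻¹ := by group
      _ = a := by rw [h', g1]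

include g1 in
theorem sv_two_or_full (L : Loc F) {x : A} (hx : (x : G) ≠ a) (hx1 : (x : G) ≠ 1)
    (hx2 : (x : G) * x = 1) : isTwo (sv c g5 x) ∨ isFull (sv c g5 x) := by
  unfold sv
  rw [full_iff c, two_iff c]
  apply two_or_full' L
  · show g⁻¹ * (x : G) * g * (g⁻¹ * x * g) = 1
    calc g⁻¹ * (x : G) * g * (g⁻¹ * x * g) = g⁻¹ * (x * x) * g := by group
      _ = 1 := by rw [hx2]; group
  · intro h
    apply hx1
    have h' : g⁻¹ * (x : G) * g = 1 := h
    calc (x : G) = g * (g⁻¹ * x * g) * g⁻¹ := by group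
      _ = 1 := by rw [h']; group
  · intro h
    apply hx
    have h' : g⁻¹ * (x : G) * g = z := h
    calc (x : G) = g * (g⁻¹ * x * g) * g⁻¹ := by group
      _ = a := by rw [h', g1]

include g1 in
theorem sv_two (H : Hyp F) (L : Loc F) {x : A} (h : W1 F (x : G)) : isTwo (sv c g5 x) := by
  have hxa : (x : G) ≠ a := by
    intro h'
    apply h.not_isConj L
    rw [h', ← g1]
    exact isConj_iff.2 ⟨g, rfl⟩
  have hx1 : (x : G) ≠ 1 := by
    intro h'
    rw [h'] at h
    exact h.ne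
  rcases sv_two_or_full c g1 g5 L hxa hx1 (h.sq L) with h1 | h1
  · exact h1
  · exact absurd ((sv_full c g1 g5 H L hxa).2 h1) (h.not_isConj L)

include g1 in
theorem Wt_of_sv {x : A} (h : isTwo (sv c g5 x)) : Wt F a x := by
  rw [Wt_iff g1]
  refine ⟨(g5 x).2 x.2, ?_⟩
  rw [← two_iff c]
  exact h

include g1 in
theorem St_of_sv {x y : A} (h : isS (sv c g5 x) (sv c g5 y)) : St F a x y := by
  rw [St_iff g1]
  refine ⟨(g5 x).2 x.2, (g5 y).2 y.2, ?_⟩
  rw [← S_iff c]
  exact h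

end sv

/-! ### a pair over a fixed full vector -/

theorem exists_at [Finite Q] (H : Hyp F) (L : Loc F) {x : G} (hx : IsConj z x) (hxz : x * z = z * x)
    (hxQ : x ∉ Q) {c : Q} (hc : isFull (F.φ (lz.pr c))) (hfix : lz.act (cen hxz) (lz.pr c) = lz.pr c) :
    ∃ (a : Q) (A : Subgroup G) (_ : Pair Q z A (a : G)), lz.pr a = lz.pr c ∧ x ∈ A := by
  have hcc : IsConj z (c : G) := H.conj_of_wt4 c hc
  have hcz : (c : G) ≠ z := by
    intro h
    apply hc 0
    rw [lz.pr_eq_zero.2 (Or.inr h), map_zero]; rfl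
  obtain ⟨A, p⟩ := exists_pair lz hcc c.2 hcz
  have hsc := conj_of_fix hxz hfix rfl
  rcases lstar H L p (star H hx hxz) (sq_of_isConj lz hx) hxQ hsc with h | h
  · exact ⟨c, A, p, rfl, (inQ_pair p).1 h⟩
  · have hpr : lz.pr (c * ⟨z, lz.z_mem⟩) = lz.pr c := pr_mul_z c rfl
    have hc' : isFull (F.φ (lz.pr (c * ⟨z, lz.z_mem⟩))) := by rw [hpr]; exact hc
    have hcc' : IsConj z ((c * ⟨z, lz.z_mem⟩ : Q) : G) := H.conj_of_wt4 _ hc'
    have hcz' : ((c * ⟨z, lz.z_mem⟩ : Q) : G) ≠ z := by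
      intro h
      apply hc' 0
      rw [lz.pr_eq_zero.2 (Or.inr h), map_zero]; rfl
    obtain ⟨B, q⟩ := exists_pair lz hcc' (c * ⟨z, lz.z_mem⟩ : Q).2 hcz'
    exact ⟨_, B, q, hpr, (inQ_pair q).1 h⟩

theorem fix_of_comm {x : G} (hxz : x * z = z * x) {c : Q} (h : (c : G) * x = x * c) :
    lz.act (cen hxz) (lz.pr c) = lz.pr c := inR_fix hxz ⟨c, rfl, h⟩

end Cfsg.Agent.TypeD4Three.InstSwap
end

-- part: TypeD4Three/InstS
section
prune_inst 0x430004510556200000000059203001c46ae000192006b0001602003420fc80f01e0078721bc301610801286d44038004002000110406800002a000a0041180080000312020074ac00300000008804000000000000000000000000000000000000000000000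
set_option linter.all false
open scoped Cfsg.Agent.FastGrp

/-!
# S1763, case [P]: the properties of weight two elements (helper948)
-/

set_option autoImplicit false

namespace Cfsg.Agent.TypeD4Three.InstS

open Cfsg.Agent.Co2Type.Quad Cfsg.Agent.LargeExtra.Base Cfsg.Agent.LargeExtra.Local
open Cfsg.Agent.TypeD4Three.StarModel Cfsg.Agent.TypeD4Three.StarFrame Cfsg.Agent.TypeD4Three.StarEdge
open Cfsg.Agent.TypeD4Three.LocIface Cfsg.Agent.TypeD4Three.InstModel Cfsg.Agent.TypeD4Three.Star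
open Cfsg.Agent.TypeD4Three.InstBase Cfsg.Agent.TypeD4Three.InstFix Cfsg.Agent.TypeD4Three.InstCon
open Cfsg.Agent.TypeD4Three.InstSwap

variable {G : Type*} [Group G] {Q : Subgroup G} {z : G} {lz : Large Q z} {F : Frame lz}

/-- involutions of `C1` -/
theorem inv (H : Hyp F) (L : Loc F) {w : G} (hw : w ∈ F.C1) (hw2 : w * w = 1) (hw1 : w ≠ 1) :
    IsConj z w ∨ W1 F w ∨ (w ∉ Q ∧ IsConj z (z * w) ∧ ∃ a, IsConj z a ∧ a * z = z * a ∧ Wt F a w) := by
  by_cases hwQ : w ∈ Q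
  · by_cases hwz : w = z
    · left; rw [hwz]
    rcases two_or_full' L (x := ⟨w, hwQ⟩) hw2 hw1 hwz with h | h
    · right; left; exact ⟨hwQ, h⟩
    · left; exact H.conj_of_wt4 ⟨w, hwQ⟩ h
  · obtain ⟨A, a, p, hA⟩ := H.invol hw hw2 hwQ
    obtain ⟨g, g1, g2, g3, g4, g5, g6⟩ := swap p
    obtain ⟨c⟩ := L.chart p
    have hwa : w ≠ a := by
      intro h; apply hwQ; rw [h]; exact p.a_mem
    have hconj : IsConj z a := isConj_iff.2 ⟨g, g1⟩
    rcases sv_two_or_full c g1 g5 L (x := ⟨w, hA⟩) hwa hw1 hw2 with h | h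
    · right; right
      refine ⟨hwQ, ?_, a, hconj, p.comm_za, Wt_of_sv c g1 g5 h⟩
      have h1 : isPerp (sv c g5 ⟨w, hA⟩) := (sv_perp c g3 g5).1 (F.C1_comm hw)
      have h2 : ¬ isD (sv c g5 ⟨w, hA⟩) := fun h' => hwQ ((sv_D c g5 g6).2 h')
      have h3 := t1 _ h1 h h2
      rw [← sv_z c g3 g5 p.z_mem, add_comm, ← sv_mul] at h3
      refine (sv_full c g1 g5 H L ?_).2 h3
      show z * w ≠ a
      intro h'
      apply hwQ
      have : w = z⁻¹ * a := by rw [← h']; group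
      rw [this]
      exact mul_mem (inv_mem lz.z_mem) p.a_mem
    · left
      exact (sv_full c g1 g5 H L (x := ⟨w, hA⟩) hwa).2 h

theorem dich (H : Hyp F) (L : Loc F) {w : G} (hw : w ∈ F.C1) (hw2 : w * w = 1) (hwQ : w ∉ Q) :
    IsConj z w ∨ IsConj z (z * w) := by
  have hw1 : w ≠ 1 := by
    rintro rfl
    exact hwQ Q.one_mem
  rcases inv H L hw hw2 hw1 with h | h | ⟨-, h, -⟩
  · exact Or.inl h
  · obtain ⟨h, -⟩ := h; exact absurd h hwQ
  · exact Or.inr h

theorem not_mem_Q (H : Hyp F) (L : Loc F) {x : G} (hx : IsConj z x) (hne : x ≠ z)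
    (hzx : ¬ IsConj z (z * x)) : x ∉ Q := by
  intro hxQ
  apply hzx
  have h1 := full_of_isConj L (x := ⟨x, hxQ⟩) hx hne
  have h2 : lz.pr ⟨z * x, mul_mem lz.z_mem hxQ⟩ = lz.pr ⟨x, hxQ⟩ := by
    apply pr_mul_z
    show z * x = x * z
    rw [lz.comm_z x hxQ]
  exact H.conj_of_wt4 ⟨z * x, mul_mem lz.z_mem hxQ⟩ (by rw [h2]; exact h1)

theorem beta (H : Hyp F) {w : G} (hw : W1 F w) :
    ∃ y, IsConj z y ∧ y * z = z * y ∧ y * w = w * y ∧ IsConj z (y * w) := by
  obtain ⟨hwQ, hw⟩ := hw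
  obtain ⟨u, h1, h2, h3⟩ := exists_beta _ hw
  obtain ⟨y, hy⟩ := lz.pr_surjective (F.φ.symm u)
  have hyu : F.φ (lz.pr y) = u := by rw [hy]; exact F.φ.apply_symm_apply u
  refine ⟨y, H.conj_of_wt4 y (by rw [hyu]; exact h1), lz.comm_z y y.2, ?_, ?_⟩
  · refine (lz.b_pr y ⟨w, hwQ⟩).1 ?_
    rw [F.hb, hyu]
    exact h3
  · refine H.conj_of_wt4 (y * ⟨w, hwQ⟩) ?_
    rw [lz.pr_mul, map_add, hyu]
    exact h2

theorem mul_sq {x w : G} (hx : x * x = 1) (hw : w * w = 1) (h : w * x = x * w) :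
    x * w * (x * w) = 1 := by
  calc x * w * (x * w) = x * (w * x) * w := by group
    _ = (x * x) * (w * w) := by rw [h]; group
    _ = 1 := by rw [hx, hw, one_mul]

theorem c1 (H : Hyp F) (L : Loc F) {w : G} (hw : W1 F w) {x : G} (hx : IsConj z x)
    (hzx : z * x = x * z) (hwx : w * x = x * w) (hne : x ≠ z) (hxw : ¬ IsConj z (x * w)) :
    IsConj z (z * x) ∨ IsConj z (z * x * w) := by
  by_contra hcon
  push Not at hcon
  obtain ⟨h1, h2⟩ := hcon
  have hxQ := not_mem_Q H L hx hne h1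
  have hxC : x ∈ F.C1 := star H hx hzx.symm
  have hwQ := hw.1
  have h3 : x * w ∉ Q := by
    intro h
    apply hxQ
    have : x = x * w * w⁻¹ := by group
    rw [this]; exact mul_mem h (inv_mem hwQ)
  rcases dich H L (mul_mem hxC (F.Q_le_C1 hwQ))
      (mul_sq (sq_of_isConj lz hx) (hw.sq L) hwx) h3 with h | h
  · exact hxw h
  · apply h2
    rwa [mul_assoc]

/-- `c2` -/
theorem c2 [Finite Q] (H : Hyp F) (L : Loc F) {w : G} (hw : W1 F w) {y : G} (hy : IsConj z y)
    (hzy : z * y = y * z) (hwy : w * y = y * w) (hyw : IsConj z (y * w)) (h1 : ¬ IsConj z (z * y)) :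
    ∃ a, IsConj z a ∧ a * z = z * a ∧ St F a w (z * y) := by
  have hne : y ≠ z := by
    intro h
    rw [h] at hyw
    exact (hw.mul_z).not_isConj L hyw
  have hyQ := not_mem_Q H L hy hne h1
  have hyC : y ∈ F.C1 := star H hy hzy.symm
  have hyy := sq_of_isConj lz hy
  obtain ⟨B, b, q, hB⟩ := H.invol hyC hyy hyQ
  obtain ⟨d⟩ := L.chart q
  obtain ⟨π, e, hπ, hf⟩ := exists_fm d hB hzy.symm
  obtain ⟨hwQ, hwt⟩ := hw
  have hwfix : fm π e (d.ψ (lz.pr ⟨w, hwQ⟩)) = d.ψ (lz.pr ⟨w, hwQ⟩) := by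
    rw [← hf]
    congr 1
    exact fix_of_comm hzy.symm hwy
  obtain ⟨u, hu1, hu2, hu3⟩ := t8 π e _ ((two_iff d _).2 hwt) hwfix
  obtain ⟨s, hs⟩ := lz.pr_surjective (d.ψ.symm u)
  have hsu : d.ψ (lz.pr s) = u := by rw [hs]; exact d.ψ.apply_symm_apply u
  have hcf : isFull (F.φ (lz.pr (⟨w, hwQ⟩ * s))) := by
    rw [← full_iff d, ψ_mul, hsu]
    exact hu2
  have hcfix : lz.act (cen hzy.symm) (lz.pr (⟨w, hwQ⟩ * s)) = lz.pr (⟨w, hwQ⟩ * s) := by
    apply d.ψ.injective
    rw [hf, ψ_mul, hsu]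
    have : fm π e (d.ψ (lz.pr ⟨w, hwQ⟩) + u) = fm π e (d.ψ (lz.pr ⟨w, hwQ⟩)) + fm π e u := by
      funext j
      rw [Pi.add_apply, fm_apply, fm_apply, fm_apply, Pi.add_apply]
      apply Prod.ext
      · show ((d.ψ (lz.pr ⟨w, hwQ⟩)) (π j)).1 + (u (π j)).1 +
          e * (((d.ψ (lz.pr ⟨w, hwQ⟩)) (π j)).2 + (u (π j)).2) = _
        show _ = ((d.ψ (lz.pr ⟨w, hwQ⟩)) (π j)).1 + e * ((d.ψ (lz.pr ⟨w, hwQ⟩)) (π j)).2 +
          ((u (π j)).1 + e * (u (π j)).2)
        ring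
      · rfl
    rw [this, hwfix, hu3]
  obtain ⟨a, A, p, hpa, hyA⟩ := exists_at H L hy hzy.symm hyQ hcf hcfix
  obtain ⟨c⟩ := L.chart p
  obtain ⟨g, g1, g2, g3, g4, g5, g6⟩ := swap p
  -- `w ∈ A`
  have hA0 : c.ψ (lz.pr ⟨w, hwQ⟩) + c.ψ (lz.pr s) = A0 := by
    rw [← ψ_mul, ← hpa]
    exact ψ_va c
  have hst : isTwo (F.φ (lz.pr s)) := by
    rw [← two_iff d, hsu]; exact hu1
  have hchar : ∀ x y : Fin 4 → W, x + y = A0 → A0 + x = y := by
    intro x y h
    rw [← h]
    funext j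
    have : ∀ x y : W, x + y + x = y := by decide
    exact this _ _
  have hwA : w ∈ A := by
    refine (mem_A_iff c ⟨w, hwQ⟩).2 (t7 _ ((two_iff c _).2 hwt) ?_)
    rw [hchar _ _ hA0]
    exact (two_iff c _).2 hst
  have hya : y ≠ a := by
    intro h; apply hyQ; rw [h]; exact a.2
  have hyz : isPerp (sv c g5 ⟨y, hyA⟩) := (sv_perp c g3 g5).1 hzy.symm
  have hyf : isFull (sv c g5 ⟨y, hyA⟩) := (sv_full c g1 g5 H L (x := ⟨y, hyA⟩) hya).1 hy
  have hzya : z * y ≠ a := by
    intro h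
    apply hyQ
    have : y = z⁻¹ * a := by rw [← h]; group
    rw [this]
    exact mul_mem (inv_mem lz.z_mem) a.2
  have hzysv : sv c g5 (⟨z, p.z_mem⟩ * ⟨y, hyA⟩) = sv c g5 ⟨y, hyA⟩ + A0 := by
    rw [sv_mul, sv_z c g3 g5, add_comm]
  have hyn : ¬ isFull (sv c g5 ⟨y, hyA⟩ + A0) := by
    rw [← hzysv]
    intro h
    exact h1 ((sv_full c g1 g5 H L (x := ⟨z, p.z_mem⟩ * ⟨y, hyA⟩) hzya).2 (by exact h))
  have hyne : sv c g5 ⟨y, hyA⟩ ≠ A0 := by
    intro h
    apply hyQ
    refine (sv_D c g5 g6 (x := ⟨y, hyA⟩)).2 ?_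
    rw [h]; decide
  have hw1 : isTwo (sv c g5 ⟨w, hwA⟩) := sv_two c g1 g5 H L (x := ⟨w, hwA⟩) ⟨hwQ, hwt⟩
  have hw2 : isD (sv c g5 ⟨w, hwA⟩) := (sv_D c g5 g6 (x := ⟨w, hwA⟩)).1 hwQ
  have hyw' : isFull (sv c g5 ⟨y, hyA⟩ + sv c g5 ⟨w, hwA⟩) := by
    rw [← sv_mul]
    refine ((sv_full c g1 g5 H L (x := ⟨y, hyA⟩ * ⟨w, hwA⟩) ?_).1 hyw :)
    show y * w ≠ a
    intro h
    apply hyQ
    have : y = a * w⁻¹ := by rw [← h]; group
    rw [this]
    exact mul_mem a.2 (inv_mem hwQ)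
  have h7 := (t2 _ _ hyf hyz hyn hyne hw1 hw2 hyw').1
  rw [← hzysv] at h7
  exact ⟨a, isConj_iff.2 ⟨g, g1⟩, p.comm_za, St_of_sv c g1 g5 h7⟩

/-! ### `S_c` -/

/-- the situation of `S_c`: `x` is a conjugate of `z` in `C1 - Q`, `z x` is not a conjugate of `z` -/
structure XX (z : G) (Q : Subgroup G) (x : G) : Prop where
  conj : IsConj z x
  comm : x * z = z * x
  nQ : x ∉ Q
  nz : ¬ IsConj z (z * x)

section XX

variable {x : G} (X : XX z Q x) {A : Subgroup G} {a : G} {p : Pair Q z A a} (c : Chart F p) {g : G}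
  (g1 : g * z * g⁻¹ = a) (g3 : g⁻¹ * z * g = a)
  (g5 : ∀ x, g⁻¹ * x * g ∈ Q ↔ x ∈ A) (g6 : ∀ x, g⁻¹ * x * g ∈ A ↔ x ∈ Q) (hxA : x ∈ A)

include X

theorem XX.ne {y : G} (hy : y ∈ Q) {b : G} (hb : b ∈ Q) : x * y ≠ b := by
  intro h
  apply X.nQ
  have : x = b * y⁻¹ := by rw [← h]; group
  rw [this]
  exact mul_mem hb (inv_mem hy)

include g1 g3 g6 in
theorem XX.all (H : Hyp F) (L : Loc F) : isFull (sv c g5 ⟨x, hxA⟩) ∧ isPerp (sv c g5 ⟨x, hxA⟩) ∧
    ¬ isFull (sv c g5 ⟨x, hxA⟩ + A0) ∧ sv c g5 ⟨x, hxA⟩ ≠ A0 := by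
  have hxa : x ≠ a := by
    intro h; apply X.nQ; rw [h]; exact p.a_mem
  refine ⟨(sv_full c g1 g5 H L (x := ⟨x, hxA⟩) hxa).1 X.conj, (sv_perp c g3 g5).1 X.comm, ?_, ?_⟩
  · rw [← sv_z c g3 g5 p.z_mem, add_comm, ← sv_mul]
    intro h
    apply X.nz
    refine (sv_full c g1 g5 H L (x := ⟨z, p.z_mem⟩ * ⟨x, hxA⟩) ?_).2 (by exact h)
    show z * x ≠ a
    rw [← X.comm]
    exact X.ne lz.z_mem p.a_mem
  · intro h
    apply X.nQ
    refine (sv_D c g5 g6 (x := ⟨x, hxA⟩)).2 ?_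
    rw [h]; decide

include g1 in
theorem XX.mul_iff (H : Hyp F) (L : Loc F) {y : G} (hy : y ∈ Q) (hyA : y ∈ A) :
    IsConj z (x * y) ↔ isFull (sv c g5 ⟨x, hxA⟩ + sv c g5 ⟨y, hyA⟩) := by
  rw [← sv_mul]
  exact sv_full c g1 g5 H L (x := ⟨x, hxA⟩ * ⟨y, hyA⟩) (X.ne hy p.a_mem)

end XX

theorem add_self_fun (u : Fin 4 → W) : u + u = 0 := by
  funext j
  have : ∀ x : W, x + x = 0 := by decide
  exact this _

theorem hchar {x y : Fin 4 → W} (h : x + y = A0) : A0 + x = y := by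
  rw [← h, add_comm x y, add_assoc, add_self_fun, add_zero]

theorem lemA [Finite Q] (H : Hyp F) (L : Loc F) {x : G} (X : XX z Q x) {r s : Q}
    (hr : isTwo (F.φ (lz.pr r))) (hs : isTwo (F.φ (lz.pr s)))
    (hrs : isFull (F.φ (lz.pr r) + F.φ (lz.pr s))) (hrx : (r : G) * x = x * r)
    (hsx : (s : G) * x = x * s) (hxr : IsConj z (x * r)) :
    IsConj z (x * s) ↔ IsConj z (x * (r * s)) := by
  have hfull : isFull (F.φ (lz.pr (r * s))) := by rw [lz.pr_mul, map_add]; exact hrs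
  have hcomm : ((r * s : Q) : G) * x = x * (r * s : Q) := by
    show (r : G) * s * x = x * (r * s)
    rw [mul_assoc, hsx, ← mul_assoc, hrx, mul_assoc]
  obtain ⟨a, A, p, hpa, hxA⟩ := exists_at H L X.conj X.comm X.nQ hfull (fix_of_comm X.comm hcomm)
  obtain ⟨c⟩ := L.chart p
  obtain ⟨g, g1, g2, g3, g4, g5, g6⟩ := swap p
  have hA0 : c.ψ (lz.pr r) + c.ψ (lz.pr s) = A0 := by
    rw [← ψ_mul, ← hpa]
    exact ψ_va c
  have hrA : (r : G) ∈ A := by
    refine (mem_A_iff c r).2 (t7 _ ((two_iff c _).2 hr) ?_)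
    rw [hchar hA0]
    exact (two_iff c _).2 hs
  have hsA : (s : G) ∈ A := by
    refine (mem_A_iff c s).2 (t7 _ ((two_iff c _).2 hs) ?_)
    rw [hchar ((add_comm _ _).trans hA0)]
    exact (two_iff c _).2 hr
  obtain ⟨x1, x2, x3, x4⟩ := X.all c g1 g3 g5 g6 hxA H L
  have hr1 : isTwo (sv c g5 ⟨r, hrA⟩) := sv_two c g1 g5 H L (x := ⟨r, hrA⟩) ⟨r.2, hr⟩
  have hr2 : isD (sv c g5 ⟨r, hrA⟩) := (sv_D c g5 g6 (x := ⟨r, hrA⟩)).1 r.2
  have hxr' := (X.mul_iff c g1 g5 hxA H L r.2 hrA).1 hxr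
  rw [X.mul_iff c g1 g5 hxA H L s.2 hsA, X.mul_iff c g1 g5 hxA H L (mul_mem r.2 s.2) (mul_mem hrA hsA)]
  have hmul : sv c g5 ⟨(r : G) * s, mul_mem hrA hsA⟩ = sv c g5 ⟨r, hrA⟩ + sv c g5 ⟨s, hsA⟩ :=
    sv_mul c g5 ⟨r, hrA⟩ ⟨s, hsA⟩
  have hpr : lz.pr (r * s) = lz.pr a := hpa.symm
  rcases lz.pr_eq_pr.1 hpr with h | h
  · -- `r s = a`
    have h1 : sv c g5 ⟨(r : G) * s, mul_mem hrA hsA⟩ = 0 := (sv_zero_iff c g1 g5).2 (Or.inr h)
    have h2 : sv c g5 ⟨s, hsA⟩ = sv c g5 ⟨r, hrA⟩ := by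
      rw [h1] at hmul
      calc sv c g5 ⟨s, hsA⟩ = (sv c g5 ⟨r, hrA⟩ + sv c g5 ⟨s, hsA⟩) + sv c g5 ⟨r, hrA⟩ := by
            rw [add_comm (sv c g5 ⟨r, hrA⟩), add_assoc, add_self_fun, add_zero]
        _ = _ := by rw [← hmul, zero_add]
    rw [h1, h2, add_zero]
    exact ⟨fun _ => x1, fun _ => hxr'⟩
  · -- `r s = a z`
    have h1 : sv c g5 ⟨(r : G) * s, mul_mem hrA hsA⟩ = A0 := by
      have e : (⟨(r : G) * s, mul_mem hrA hsA⟩ : A) = ⟨a, p.la.z_mem⟩ * ⟨z, p.z_mem⟩ := Subtype.ext h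
      rw [e, sv_mul, sv_z c g3 g5, (sv_zero_iff c g1 g5).2 (Or.inr rfl), zero_add]
    have h2 : sv c g5 ⟨s, hsA⟩ = sv c g5 ⟨r, hrA⟩ + A0 := by
      rw [h1] at hmul
      rw [hmul, ← add_assoc, add_self_fun, zero_add]
    rw [h1, h2, ← add_assoc]
    have h3 := (t2 _ _ x1 x2 x3 x4 hr1 hr2 hxr').2
    exact ⟨fun h' => absurd h' h3, fun h' => absurd h' x3⟩

theorem lemB [Finite Q] (H : Hyp F) (L : Loc F) {x : G} (X : XX z Q x) {w r s : Q}
    (hw : isTwo (F.φ (lz.pr w))) (hs : isTwo (F.φ (lz.pr s)))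
    (hws : isFull (F.φ (lz.pr w) + F.φ (lz.pr s))) (hr : isFull (F.φ (lz.pr r)))
    (hrws : isFull (F.φ (lz.pr r) + (F.φ (lz.pr w) + F.φ (lz.pr s)))) (hwx : (w : G) * x = x * w)
    (hrx : (r : G) * x = x * r) (hsx : (s : G) * x = x * s) (hxw : IsConj z (x * w)) :
    IsConj z (x * r) ↔ ¬ IsConj z (x * (r * w)) := by
  have hfull : isFull (F.φ (lz.pr (w * s))) := by rw [lz.pr_mul, map_add]; exact hws
  have hcomm : ((w * s : Q) : G) * x = x * (w * s : Q) := by
    show (w : G) * s * x = x * (w * s)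
    rw [mul_assoc, hsx, ← mul_assoc, hwx, mul_assoc]
  obtain ⟨a, A, p, hpa, hxA⟩ := exists_at H L X.conj X.comm X.nQ hfull (fix_of_comm X.comm hcomm)
  obtain ⟨c⟩ := L.chart p
  obtain ⟨g, g1, g2, g3, g4, g5, g6⟩ := swap p
  have hA0 : c.ψ (lz.pr w) + c.ψ (lz.pr s) = A0 := by
    rw [← ψ_mul, ← hpa]
    exact ψ_va c
  have hwA : (w : G) ∈ A := by
    refine (mem_A_iff c w).2 (t7 _ ((two_iff c _).2 hw) ?_)
    rw [hchar hA0]
    exact (two_iff c _).2 hs
  -- `r ∈ A`
  have hra : isFull (F.φ (lz.pr (r * a))) := by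
    rw [lz.pr_mul, map_add, hpa, lz.pr_mul, map_add]
    exact hrws
  have hrA : (r : G) ∈ A := by
    obtain ⟨π, e, hπ, hf⟩ := exists_fm c hxA X.comm
    refine (mem_A_iff c r).2 (t4 π e hπ (nontriv c X.nQ X.comm hf) _ ((full_iff c _).2 hr) ?_ ?_)
    · have h1 := (full_iff c _).2 hra
      rw [ψ_mul] at h1
      have h2 : c.ψ (lz.pr a) = A0 := ψ_va c
      rwa [h2] at h1
    · rw [← hf]
      congr 1
      exact fix_of_comm X.comm hrx
  obtain ⟨x1, x2, x3, x4⟩ := X.all c g1 g3 g5 g6 hxA H L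
  have hw1 : isTwo (sv c g5 ⟨w, hwA⟩) := sv_two c g1 g5 H L (x := ⟨w, hwA⟩) ⟨w.2, hw⟩
  have hw2 : isD (sv c g5 ⟨w, hwA⟩) := (sv_D c g5 g6 (x := ⟨w, hwA⟩)).1 w.2
  have hxw' := (X.mul_iff c g1 g5 hxA H L w.2 hwA).1 hxw
  have hra1 : (r : G) ≠ a := by
    intro h
    apply hra 0
    have e : r * a = a * a := by rw [Subtype.ext h]
    rw [e, lz.pr_mul, lz.add_self, map_zero]; rfl
  have hr1 : isFull (sv c g5 ⟨r, hrA⟩) :=
    (sv_full c g1 g5 H L (x := ⟨r, hrA⟩) hra1).1 (H.conj_of_wt4 r hr)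
  have hr2 : isD (sv c g5 ⟨r, hrA⟩) := (sv_D c g5 g6 (x := ⟨r, hrA⟩)).1 r.2
  have hr3 : sv c g5 ⟨r, hrA⟩ ≠ A0 := by
    intro h
    have h1 : sv c g5 (⟨r, hrA⟩ * ⟨z, p.z_mem⟩) = 0 := by
      rw [sv_mul, sv_z c g3 g5, h, add_self_fun]
    rcases (sv_zero_iff c g1 g5).1 h1 with h2 | h2
    · have h3 : (r : G) = z := by
        have h4 : (r : G) * z = 1 := h2
        rw [eq_inv_of_mul_eq_one_left h4, lz.z_inv]
      apply hr 0
      rw [lz.pr_eq_zero.2 (Or.inr h3), map_zero]; rfl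
    · have h4 : (r : G) * z = a := h2
      have h5 : lz.pr a = lz.pr r := pr_mul_z r h4.symm
      apply hra 0
      rw [lz.pr_mul, h5, lz.add_self, map_zero]; rfl
  have hr4 : isComm (sv c g5 ⟨x, hxA⟩) (sv c g5 ⟨r, hrA⟩) :=
    (sv_comm c g5 (x := ⟨x, hxA⟩) (y := ⟨r, hrA⟩)).1 hrx.symm
  rw [X.mul_iff c g1 g5 hxA H L r.2 hrA, X.mul_iff c g1 g5 hxA H L (mul_mem r.2 w.2) (mul_mem hrA hwA)]
  have hmul : sv c g5 ⟨(r : G) * w, mul_mem hrA hwA⟩ = sv c g5 ⟨r, hrA⟩ + sv c g5 ⟨w, hwA⟩ :=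
    sv_mul c g5 ⟨r, hrA⟩ ⟨w, hwA⟩
  rw [hmul, ← add_assoc]
  exact t3 _ _ _ x1 x2 x3 x4 hr1 hr2 hr3 hr4 hw1 hw2 hxw'

/-- for `π ≠ 1` a fixed vector is fixed by a commuting element -/
theorem comm_of_fix {x : G} (hxx : x * x = 1) (hxz : x * z = z * x) {A : Subgroup G} {a : G}
    {p : Pair Q z A a} (c : Chart F p) {π : Equiv.Perm (Fin 4)} {e : ZMod 2} (hπ : isV π)
    (hπ1 : π ≠ 1) (hf : ∀ v, c.ψ (lz.act (cen hxz) v) = fm π e (c.ψ v)) {s : Q}
    (hs : fm π e (c.ψ (lz.pr s)) = c.ψ (lz.pr s)) : (s : G) * x = x * s := by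
  obtain ⟨u, hu, hu'⟩ := t5 π e hπ (Or.inl hπ1) _ hs
  have hu'' := hu'.resolve_left hπ1
  obtain ⟨t, ht⟩ := lz.pr_surjective (c.ψ.symm u)
  have htu : c.ψ (lz.pr t) = u := by rw [ht]; exact c.ψ.apply_symm_apply u
  obtain ⟨r, hr, hrx, -⟩ := inR_of (lz := lz) hxx hxz (v := lz.pr t) (by
    rw [c.hb, hf, htu]
    exact hu'')
  have h1 : lz.pr s = lz.pr r := by
    apply c.ψ.injective
    rw [hr, map_add, hf, htu, hu]
  rcases lz.pr_eq_pr.1 h1 with h | h
  · rw [h]; exact hrx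
  · rw [h, mul_assoc, ← hxz, ← mul_assoc, hrx, mul_assoc]

/-- **`S_c`** -/
theorem S_c [Finite Q] (H : Hyp F) (L : Loc F) {w v : G} (hS : S1 F w v) {x : G} (hx : IsConj z x)
    (hzx : z * x = x * z) (hwx : w * x = x * w) (hvx : v * x = x * v) (hne : x ≠ z) :
    IsConj z (z * x) ∨ IsConj z (z * x * w) ∨ IsConj z (z * x * v) ∨ IsConj z (z * x * (w * v)) := by
  by_contra hcon
  push Not at hcon
  obtain ⟨n1, n2, n3, n4⟩ := hcon
  have hxQ := not_mem_Q H L hx hne n1
  have X : XX z Q x := ⟨hx, hzx.symm, hxQ, n1⟩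
  have hxC : x ∈ F.C1 := star H hx hzx.symm
  have hxx := sq_of_isConj lz hx
  obtain ⟨hwQ, hvQ, hS⟩ := hS
  obtain ⟨i1, i2, i3, i4⟩ := isS_all _ _ hS
  have hwv : w * v = v * w := by
    refine (lz.b_pr ⟨w, hwQ⟩ ⟨v, hvQ⟩).1 ?_
    rw [F.hb]; exact i4
  have hww : w * w = 1 := sq_of_two L (x := ⟨w, hwQ⟩) i1
  have hvv : v * v = 1 := sq_of_two L (x := ⟨v, hvQ⟩) i2
  have key : ∀ f : G, f ∈ Q → f * f = 1 → f * x = x * f → ¬ IsConj z (z * x * f) → IsConj z (x * f) := by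
    intro f hf hff hfx hn
    have h3 : x * f ∉ Q := fun h => X.ne hf h rfl
    rcases dich H L (mul_mem hxC (F.Q_le_C1 hf)) (mul_sq hxx hff hfx) h3 with h | h
    · exact h
    · exfalso; apply hn; rwa [mul_assoc]
  have k1 := key w hwQ hww hwx n2
  have k2 := key v hvQ hvv hvx n3
  have hwvx : w * v * x = x * (w * v) := by rw [mul_assoc, hvx, ← mul_assoc, hwx, mul_assoc]
  have k3 := key (w * v) (mul_mem hwQ hvQ) (mul_sq hww hvv hwv.symm) hwvx n4
  -- the planes
  obtain ⟨B, b, q, hB⟩ := H.invol hxC hxx hxQ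
  obtain ⟨d⟩ := L.chart q
  obtain ⟨π, e, hπ, hf⟩ := exists_fm d hB hzx.symm
  have hnt := nontriv d hxQ hzx.symm hf
  have hwfix : fm π e (d.ψ (lz.pr ⟨w, hwQ⟩)) = d.ψ (lz.pr ⟨w, hwQ⟩) := by
    rw [← hf]
    congr 1
    exact fix_of_comm hzx.symm hwx
  have hvfix : fm π e (d.ψ (lz.pr ⟨v, hvQ⟩)) = d.ψ (lz.pr ⟨v, hvQ⟩) := by
    rw [← hf]
    congr 1
    exact fix_of_comm hzx.symm hvx
  obtain ⟨hπ1, u, u1, u2, u3, u4, u5, u6, u', u7, u8, u9, u10⟩ := t6 π e hπ hnt _ _ ((S_iff d _ _).2 hS)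
    hwfix hvfix
  obtain ⟨s, hs⟩ := lz.pr_surjective (d.ψ.symm u)
  have hsu : d.ψ (lz.pr s) = u := by rw [hs]; exact d.ψ.apply_symm_apply u
  obtain ⟨s', hs'⟩ := lz.pr_surjective (d.ψ.symm u')
  have hsu' : d.ψ (lz.pr s') = u' := by rw [hs']; exact d.ψ.apply_symm_apply u'
  have hsx := comm_of_fix hxx hzx.symm d hπ hπ1 hf (s := s) (by rw [hsu]; exact u6)
  have hsx' := comm_of_fix hxx hzx.symm d hπ hπ1 hf (s := s') (by rw [hsu']; exact u9)
  have tr : ∀ y : lz.V, isFull (d.ψ y) → isFull (F.φ y) := fun y => (full_iff d y).1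
  -- transfer to `F`
  have f1 : isTwo (F.φ (lz.pr s)) := by rw [← two_iff d, hsu]; exact u1
  have f2 : isTwo (F.φ (lz.pr s')) := by rw [← two_iff d, hsu']; exact u7
  have f3 : isFull (F.φ (lz.pr ⟨v, hvQ⟩) + F.φ (lz.pr s)) := by
    rw [← map_add]; apply tr; rw [map_add, hsu]; exact u3
  have f4 : isFull (F.φ (lz.pr (@HMul.hMul _ _ _ instHMul ⟨w, hwQ⟩ ⟨v, hvQ⟩)) + F.φ (lz.pr s)) := by
    rw [← map_add]; apply tr; rw [map_add, hsu, ψ_mul]; exact u4
  have f5 : isFull (F.φ (lz.pr ⟨w, hwQ⟩) + F.φ (lz.pr s')) := by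
    rw [← map_add]; apply tr; rw [map_add, hsu']; exact u8
  have f6 : isFull (F.φ (lz.pr (⟨v, hvQ⟩ * s :))) := by
    rw [lz.pr_mul, map_add]; exact f3
  have f7 : isFull (F.φ (lz.pr (⟨v, hvQ⟩ * s :)) + (F.φ (lz.pr ⟨w, hwQ⟩) + F.φ (lz.pr s'))) := by
    rw [← map_add, ← map_add]; apply tr
    rw [map_add, map_add, hsu', ψ_mul, hsu]; exact u10
  have f8 : isTwo (F.φ (lz.pr (@HMul.hMul _ _ _ instHMul ⟨w, hwQ⟩ ⟨v, hvQ⟩))) := by
    rw [lz.pr_mul, map_add]; exact i3
  have hws : w * s = s * w := by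
    refine (comm_iff d ⟨w, hwQ⟩ s).2 ?_
    rw [hsu]; exact u5
  have l1 := lemA H L X (r := ⟨v, hvQ⟩) (s := s) i2 f1 f3 hvx hsx k2
  have l2 := lemA H L X (r := ⟨w, hwQ⟩ * ⟨v, hvQ⟩) (s := s) f8 f1 (by exact f4) hwvx hsx k3
  have hvsx : ((⟨v, hvQ⟩ * s : Q) : G) * x = x * (⟨v, hvQ⟩ * s : Q) := by
    show v * s * x = x * (v * s)
    rw [mul_assoc, hsx, ← mul_assoc, hvx, mul_assoc]
  have l3 := lemB H L X (w := ⟨w, hwQ⟩) (r := (⟨v, hvQ⟩ * s :)) (s := s') i1 f2 f5 f6 (by exact f7) hwx hvsx hsx' k1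
  have e1 : x * (w * v * s) = x * (v * s * w) := by
    rw [mul_assoc v, ← hws, ← mul_assoc v, ← hwv]
  have l1' : IsConj z (x * s) ↔ IsConj z (x * (v * s)) := l1
  have l2' : IsConj z (x * s) ↔ IsConj z (x * (w * v * s)) := l2
  have l3' : IsConj z (x * (v * s)) ↔ ¬ IsConj z (x * (v * s * w)) := l3
  rw [e1] at l2'
  rw [← l1', ← l2'] at l3'
  exact (iff_not_self l3')

end Cfsg.Agent.TypeD4Three.InstS
end

-- part: TypeD4Three/Input
section
set_option linter.all false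

/-!
# S1763, case [P] : the input of the recognition theorem for `PΩ₈⁺(3)` (helper754)

`Input h` : `V = Q / ⟨z⟩` is the orthogonal sum of four planes `⟨u k, v k⟩` of minus type, `ξ k` is induced by an
element of `C_G(z)`, is the rotation `u ↦ v ↦ u + v` on the `k`-th plane and the identity on the others, and every
element of `C_G(z)` permutes the groups `⟨ξ k⟩`.
-/

set_option autoImplicit false

namespace Cfsg.Agent.TypeD4Three

open Cfsg.Agent.Co2Type.Quad

variable {G : Type*} [Group G]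

/-- The input of the recognition theorem. -/
structure Input {Q : Subgroup G} {z : G} (h : Large Q z) where
  u : Fin 4 → h.V
  v : Fin 4 → h.V
  ξ : Fin 4 → (h.V ≃ₗ[ZMod 2] h.V)
  card : Nat.card Q = 2 ^ 9
  q_u : ∀ k, h.q (u k) = 1
  q_v : ∀ k, h.q (v k) = 1
  b_uv : ∀ k, h.b (u k) (v k) = 1
  b_uu : ∀ k l, k ≠ l → h.b (u k) (u l) = 0
  b_uv' : ∀ k l, k ≠ l → h.b (u k) (v l) = 0
  b_vv : ∀ k l, k ≠ l → h.b (v k) (v l) = 0
  ξ_u : ∀ k, ξ k (u k) = v k
  ξ_v : ∀ k, ξ k (v k) = u k + v k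
  ξ_u' : ∀ k l, k ≠ l → ξ k (u l) = u l
  ξ_v' : ∀ k l, k ≠ l → ξ k (v l) = v l
  mem : ∀ k, ξ k ∈ h.act.range
  norm : ∀ f ∈ h.act.range, ∀ k, ∃ l, f * ξ k * f⁻¹ = ξ l ∨ f * ξ k * f⁻¹ = (ξ l)⁻¹

end Cfsg.Agent.TypeD4Three
end

-- part: TypeD4Three/Coords
section
prune_inst 0x430000500552200000000001202001c42a2000002004b00006020080005c80c01a0430620b8200610808080540038004002000110400000000a00000001180080000202020040a000000000000800000000000000000000000000000000000000000000000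
set_option linter.all false
open scoped Cfsg.Agent.FastGrp

/-!
# S1763, case [P] : coordinates (helper951)

For `inp : Input h`: `phi inp w k` is the component of `w` in the `k`-th plane, in coordinates
`W = ZMod 2 × ZMod 2`; `Rep inp f π g` : `f` maps the `k`-th plane to the `π k`-th plane by `g k`.
-/

set_option autoImplicit false

namespace Cfsg.Agent.TypeD4Three.Coords

open Cfsg.Agent.Co2Type.Quad

/-- one plane -/
abbrev W : Type := ZMod 2 × ZMod 2

/-- the form -/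
def om (x y : W) : ZMod 2 := x.1 * y.2 + x.2 * y.1

/-- the quadratic form -/
def qW (x : W) : ZMod 2 := x.1 + x.2 + x.1 * x.2

/-- the rotation -/
def R (x : W) : W := (x.2, x.1 + x.2)

theorem R_add (x y : W) : R (x + y) = R x + R y := by
  unfold R
  ext
  · rfl
  · show x.1 + y.1 + (x.2 + y.2) = x.1 + x.2 + (y.1 + y.2)
    ring

/-- the rotation as a permutation -/
def RP : Equiv.Perm W where
  toFun := R
  invFun x := R (R x)
  left_inv := by decide
  right_inv := by decide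

/-- linear permutations -/
def Lin (g : Equiv.Perm W) : Prop := ∀ x y, g (x + y) = g x + g y

instance (g : Equiv.Perm W) : Decidable (Lin g) := inferInstanceAs (Decidable (∀ x y, g (x + y) = g x + g y))

theorem lin_RP : Lin RP := R_add

theorem lin_one : Lin 1 := fun _ _ => rfl

theorem Lin.mul {g g' : Equiv.Perm W} (h : Lin g) (h' : Lin g') : Lin (g * g') := by
  intro x y
  show g (g' (x + y)) = g (g' x) + g (g' y)
  rw [h', h]

theorem Lin.zero {g : Equiv.Perm W} (h : Lin g) : g 0 = 0 := by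
  have := h 0 0
  rw [add_zero] at this
  exact left_eq_add.1 this

theorem Lin.inv {g : Equiv.Perm W} (h : Lin g) : Lin g⁻¹ := by
  intro x y
  have e : ∀ x, g (g⁻¹ x) = x := g.apply_symm_apply
  apply g.injective
  rw [h, e, e, e]

theorem Lin.ne {g : Equiv.Perm W} (h : Lin g) {x : W} (hx : x ≠ 0) : g x ≠ 0 := by
  intro h'
  apply hx
  apply g.injective
  rw [h', h.zero]

theorem w1 : ∀ g : Equiv.Perm W, Lin g → Equiv.Perm.sign g = 1 → ∀ x, g (R x) = R (g x) := by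
  decide +kernel

theorem w2 : ∀ g : Equiv.Perm W, Lin g → Equiv.Perm.sign g = -1 → ∀ x, g (R x) = R (g x) + g x := by
  decide +kernel

theorem w3 : ∀ g : Equiv.Perm W, Lin g → Equiv.Perm.sign g = 1 → ∀ x, x ≠ 0 → g x = x → g = 1 := by
  decide +kernel

theorem w4 : ∀ g : Equiv.Perm W, Lin g → Equiv.Perm.sign g = -1 → ∃ x, x ≠ 0 ∧ g x = x := by
  decide +kernel

theorem w5 : ∀ g : Equiv.Perm W, Lin g → Equiv.Perm.sign g = 1 → g * g = 1 → g = 1 := by
  decide +kernel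

theorem w6 : ∀ g : Equiv.Perm W, Lin g → g * g = 1 →
    (RP * g * RP⁻¹ * g⁻¹) * (RP * g * RP⁻¹ * g⁻¹) = 1 → g = 1 := by
  decide +kernel

theorem sign_RP : Equiv.Perm.sign RP = 1 := by decide +kernel

theorem om_R : ∀ x : W, x ≠ 0 → om x (R x) = 1 := by decide

theorem om_comm : ∀ x y : W, om x y = om y x := by decide

theorem om_zero : ∀ x : W, om x 0 = 0 := by decide

theorem qW_eq : ∀ x : W, qW x = if x = 0 then 0 else 1 := by decide

theorem R_ne_self : ∀ x : W, x ≠ 0 → R x ≠ x := by decide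

theorem trans_R : ∀ x y : W, x ≠ 0 → y ≠ 0 → ∃ n : Fin 3, (RP ^ (n : ℕ)) x = y := by decide +kernel

theorem add_self (x : W) : x + x = 0 := by revert x; decide

variable {G : Type*} [Group G] {Q : Subgroup G} {z : G} {h : Large Q z} (inp : Input h)

/-- coordinates -/
noncomputable def phi (w : h.V) (k : Fin 4) : W := (h.b w (inp.v k), h.b w (inp.u k))

/-- the vector with given coordinates -/
noncomputable def psi (c : Fin 4 → W) : h.V := ∑ k, ((c k).1 • inp.u k + (c k).2 • inp.v k)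

theorem phi_add (w w' : h.V) : phi inp (w + w') = phi inp w + phi inp w' := by
  funext k
  unfold phi
  ext
  · show h.b (w + w') (inp.v k) = h.b w (inp.v k) + h.b w' (inp.v k)
    rw [map_add, LinearMap.add_apply]
  · show h.b (w + w') (inp.u k) = h.b w (inp.u k) + h.b w' (inp.u k)
    rw [map_add, LinearMap.add_apply]

theorem phi_zero : phi inp 0 = 0 := by
  funext k
  unfold phi
  ext
  · show h.b 0 (inp.v k) = 0
    rw [map_zero, LinearMap.zero_apply]
  · show h.b 0 (inp.u k) = 0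
    rw [map_zero, LinearMap.zero_apply]

theorem phi_sum {ι : Type*} (s : Finset ι) (f : ι → h.V) :
    phi inp (∑ i ∈ s, f i) = ∑ i ∈ s, phi inp (f i) := by
  classical
  induction s using Finset.induction_on with
  | empty => rw [Finset.sum_empty, Finset.sum_empty, phi_zero]
  | insert i s hi ih => rw [Finset.sum_insert hi, Finset.sum_insert hi, phi_add, ih]

theorem phi_u (k : Fin 4) : phi inp (inp.u k) = Pi.single k (1, 0) := by
  funext l
  unfold phi
  by_cases hkl : l = k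
  · subst hkl
    rw [Pi.single_eq_same, inp.b_uv, h.b_self]
  · rw [Pi.single_eq_of_ne hkl, inp.b_uv' k l (Ne.symm hkl), inp.b_uu k l (Ne.symm hkl)]
    rfl

theorem phi_v (k : Fin 4) : phi inp (inp.v k) = Pi.single k (0, 1) := by
  funext l
  unfold phi
  by_cases hkl : l = k
  · subst hkl
    rw [Pi.single_eq_same, h.b_self, h.b_comm, inp.b_uv]
  · rw [Pi.single_eq_of_ne hkl, inp.b_vv k l (Ne.symm hkl), h.b_comm, inp.b_uv' l k hkl]
    rfl

theorem phi_smul (a : ZMod 2) (w : h.V) : phi inp (a • w) = a • phi inp w := by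
  have ha : a = 0 ∨ a = 1 := by revert a; decide
  rcases ha with rfl | rfl
  · rw [zero_smul, zero_smul, phi_zero]
  · rw [one_smul, one_smul]

theorem phi_psi (c : Fin 4 → W) : phi inp (psi inp c) = c := by
  funext k
  rw [psi, phi_sum, Finset.sum_apply, Finset.sum_eq_single k]
  · rw [phi_add, phi_smul, phi_smul, phi_u, phi_v, Pi.add_apply, Pi.smul_apply, Pi.smul_apply,
      Pi.single_eq_same, Pi.single_eq_same]
    ext
    · show (c k).1 * 1 + (c k).2 * 0 = (c k).1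
      ring
    · show (c k).1 * 0 + (c k).2 * 1 = (c k).2
      ring
  · intro l _ hl
    rw [phi_add, phi_smul, phi_smul, phi_u, phi_v, Pi.add_apply, Pi.smul_apply, Pi.smul_apply,
      Pi.single_eq_of_ne (Ne.symm hl), Pi.single_eq_of_ne (Ne.symm hl), smul_zero, smul_zero, add_zero]
  · intro hk
    exact absurd (Finset.mem_univ k) hk

include inp in
theorem card_V : Nat.card h.V = 256 := by
  have h1 := h.card_eq
  rw [inp.card] at h1
  omega

include inp in
theorem finite_V : Finite h.V := Nat.finite_of_card_ne_zero (by rw [card_V inp]; norm_num)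

theorem phi_bijective : Function.Bijective (phi inp) := by
  have hfin := finite_V inp
  rw [Nat.bijective_iff_surjective_and_card]
  refine ⟨fun c => ⟨psi inp c, phi_psi inp c⟩, ?_⟩
  rw [card_V inp, Nat.card_eq_fintype_card]
  simp

theorem phi_inj {w w' : h.V} (H : phi inp w = phi inp w') : w = w' := (phi_bijective inp).1 H

theorem psi_phi (w : h.V) : psi inp (phi inp w) = w := phi_inj inp (phi_psi inp _)

theorem psi_add (c c' : Fin 4 → W) : psi inp (c + c') = psi inp c + psi inp c' := by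
  apply phi_inj inp
  rw [phi_add, phi_psi, phi_psi, phi_psi]

/-- coordinates as an additive equivalence -/
noncomputable def phiE : h.V ≃+ (Fin 4 → W) :=
  { Equiv.ofBijective _ (phi_bijective inp) with map_add' := phi_add inp }

/-- the bilinear form in coordinates -/
theorem b_eq (w w' : h.V) : h.b w w' = ∑ k, om (phi inp w k) (phi inp w' k) := by
  conv_lhs => rw [← psi_phi inp w']
  rw [psi, map_sum]
  apply Finset.sum_congr rfl
  intro k _
  rw [map_add, map_smul, map_smul, smul_eq_mul, smul_eq_mul]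
  unfold om phi
  ring

/-- the quadratic form in coordinates -/
theorem q_eq (w : h.V) : h.q w = ∑ k, qW (phi inp w k) := by
  conv_lhs => rw [← psi_phi inp w]
  rw [psi, Fin.sum_univ_four, Fin.sum_univ_four]
  have hb : ∀ (c c' : W) (k l : Fin 4), k ≠ l →
      h.b (c.1 • inp.u k + c.2 • inp.v k) (c'.1 • inp.u l + c'.2 • inp.v l) = 0 := by
    intro c c' k l hkl
    simp only [map_add, map_smul, LinearMap.add_apply, LinearMap.smul_apply, inp.b_uu k l hkl,
      inp.b_uv' k l hkl, inp.b_vv k l hkl, h.b_comm (inp.v k) (inp.u l), inp.b_uv' l k (Ne.symm hkl),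
      smul_zero, add_zero]
  have hs : ∀ (c : W) (k : Fin 4), h.q (c.1 • inp.u k + c.2 • inp.v k) = qW c := by
    rintro ⟨x, y⟩ k
    have hx : x = 0 ∨ x = 1 := by revert x; decide
    have hy : y = 0 ∨ y = 1 := by revert y; decide
    rcases hx with rfl | rfl <;> rcases hy with rfl | rfl
    · show h.q ((0 : ZMod 2) • inp.u k + (0 : ZMod 2) • inp.v k) = _
      rw [zero_smul, zero_smul, add_zero, h.q_zero]; rfl
    · show h.q ((0 : ZMod 2) • inp.u k + (1 : ZMod 2) • inp.v k) = _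
      rw [zero_smul, one_smul, zero_add, inp.q_v]; rfl
    · show h.q ((1 : ZMod 2) • inp.u k + (0 : ZMod 2) • inp.v k) = _
      rw [zero_smul, one_smul, add_zero, inp.q_u]; rfl
    · show h.q ((1 : ZMod 2) • inp.u k + (1 : ZMod 2) • inp.v k) = _
      rw [one_smul, one_smul, h.q_add', inp.q_u, inp.q_v, inp.b_uv]; rfl
  have hA : ∀ k l, k ≠ l → h.b ((phi inp w k).1 • inp.u k + (phi inp w k).2 • inp.v k)
      ((phi inp w l).1 • inp.u l + (phi inp w l).2 • inp.v l) = 0 := fun k l hkl => hb _ _ k l hkl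
  have hB : ∀ k, h.q ((phi inp w k).1 • inp.u k + (phi inp w k).2 • inp.v k) = qW (phi inp w k) :=
    fun k => hs _ k
  generalize hAA : (fun k => (phi inp w k).1 • inp.u k + (phi inp w k).2 • inp.v k) = A
  have hAk : ∀ k, (phi inp w k).1 • inp.u k + (phi inp w k).2 • inp.v k = A k :=
    fun k => congrFun hAA k
  simp only [hAk] at hA hB ⊢
  rw [h.q_add', h.q_add', h.q_add', hB, hB, hB, hB, map_add, map_add, LinearMap.add_apply,
    LinearMap.add_apply, map_add, LinearMap.add_apply, hA 0 1 (by decide), hA 0 2 (by decide),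
    hA 1 2 (by decide), hA 0 3 (by decide), hA 1 3 (by decide), hA 2 3 (by decide)]
  ring

theorem b_xi (k : Fin 4) (w w' : h.V) : h.b (inp.ξ k w) (inp.ξ k w') = h.b w w' := by
  obtain ⟨c, hc⟩ := inp.mem k
  rw [← hc, h.b_act]

theorem phi_xi (k : Fin 4) (w : h.V) :
    phi inp (inp.ξ k w) = Function.update (phi inp w) k (R (phi inp w k)) := by
  funext l
  by_cases hl : l = k
  · subst hl
    rw [Function.update_self]
    unfold phi R
    ext
    · show h.b (inp.ξ l w) (inp.v l) = h.b w (inp.u l)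
      rw [← inp.ξ_u l, b_xi]
    · show h.b (inp.ξ l w) (inp.u l) = h.b w (inp.v l) + h.b w (inp.u l)
      have e : inp.u l = inp.ξ l (inp.v l + inp.u l) := by
        rw [map_add, inp.ξ_v, inp.ξ_u, add_assoc, h.add_self, add_zero]
      conv_lhs => rw [e]
      rw [b_xi, map_add]
  · rw [Function.update_of_ne hl]
    unfold phi
    ext
    · show h.b (inp.ξ k w) (inp.v l) = h.b w (inp.v l)
      conv_lhs => rw [← inp.ξ_v' k l (Ne.symm hl)]
      rw [b_xi]
    · show h.b (inp.ξ k w) (inp.u l) = h.b w (inp.u l)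
      conv_lhs => rw [← inp.ξ_u' k l (Ne.symm hl)]
      rw [b_xi]

/-- `f` maps the `k`-th plane to the `π k`-th plane by `g k` -/
def Rep (f : h.V ≃ₗ[ZMod 2] h.V) (π : Equiv.Perm (Fin 4)) (g : Fin 4 → Equiv.Perm W) : Prop :=
  (∀ k, Lin (g k)) ∧ ∀ w k, phi inp (f w) (π k) = g k (phi inp w k)

section Rep

variable {inp}
variable {f f' : h.V ≃ₗ[ZMod 2] h.V} {π π' : Equiv.Perm (Fin 4)} {g g' : Fin 4 → Equiv.Perm W}

theorem rep_one : Rep inp 1 1 1 := ⟨fun _ => lin_one, fun _ _ => rfl⟩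

theorem Rep.mul (H : Rep inp f π g) (H' : Rep inp f' π' g') :
    Rep inp (f * f') (π * π') (fun k => g (π' k) * g' k) := by
  refine ⟨fun k => (H.1 _).mul (H'.1 k), fun w k => ?_⟩
  show phi inp (f (f' w)) (π (π' k)) = g (π' k) (g' k (phi inp w k))
  rw [H.2, H'.2]

theorem Rep.inv (H : Rep inp f π g) : Rep inp f⁻¹ π⁻¹ (fun k => (g (π⁻¹ k))⁻¹) := by
  refine ⟨fun k => (H.1 _).inv, fun w k => ?_⟩
  have h1 := H.2 (f⁻¹ w) (π⁻¹ k)
  have e1 : f (f⁻¹ w) = w := f.apply_symm_apply w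
  have e2 : π (π⁻¹ k) = k := π.apply_symm_apply k
  rw [e1, e2] at h1
  rw [h1]
  exact ((g (π⁻¹ k)).symm_apply_apply _).symm

theorem Rep.unique (H : Rep inp f π g) (H' : Rep inp f π' g') : π = π' ∧ g = g' := by
  have hπ : π = π' := by
    ext k : 1
    by_contra hne
    obtain ⟨j, hj⟩ := π'.surjective (π k)
    have hjk : k ≠ j := by
      rintro rfl
      exact hne hj.symm
    have h1 := H.2 (psi inp (Pi.single k (1, 0))) k
    rw [← hj, H'.2, phi_psi, Pi.single_eq_same, Pi.single_eq_of_ne (Ne.symm hjk), (H'.1 j).zero] at h1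
    exact (H.1 k).ne (x := (1, 0)) (by decide) h1.symm
  subst hπ
  refine ⟨rfl, ?_⟩
  funext k
  ext x : 1
  have h1 := H.2 (psi inp (Pi.single k x)) k
  rw [H'.2, phi_psi, Pi.single_eq_same] at h1
  exact h1.symm

theorem Rep.ext (H : Rep inp f π g) (H' : Rep inp f' π g) : f = f' := by
  apply LinearEquiv.ext
  intro w
  apply phi_inj inp
  funext k
  obtain ⟨j, rfl⟩ := π.surjective k
  rw [H.2, H'.2]

theorem rep_xi (k : Fin 4) : Rep inp (inp.ξ k) 1 (Function.update 1 k RP) := by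
  refine ⟨fun l => ?_, fun w l => ?_⟩
  · by_cases hl : l = k
    · subst hl
      rw [Function.update_self]
      exact lin_RP
    · rw [Function.update_of_ne hl]
      exact lin_one
  · rw [phi_xi]
    show Function.update (phi inp w) k (R (phi inp w k)) l = _
    by_cases hl : l = k
    · subst hl
      rw [Function.update_self, Function.update_self]
      rfl
    · rw [Function.update_of_ne hl, Function.update_of_ne hl]
      rfl

end Rep

/-- vectors of the `k`-th plane -/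
def InPl (k : Fin 4) (w : h.V) : Prop := ∀ l, l ≠ k → phi inp w l = 0

theorem inPl_single (k : Fin 4) (x : W) : InPl inp k (psi inp (Pi.single k x)) := by
  intro l hl
  rw [phi_psi, Pi.single_eq_of_ne hl]

theorem inPl_xi_add (k : Fin 4) (w : h.V) : InPl inp k (inp.ξ k w + w) := by
  intro l hl
  rw [phi_add, phi_xi, Pi.add_apply, Function.update_of_ne hl, add_self]

theorem inPl_xi_inv_add (k : Fin 4) (w : h.V) : InPl inp k ((inp.ξ k)⁻¹ w + w) := by
  have e : inp.ξ k ((inp.ξ k)⁻¹ w) = w := (inp.ξ k).apply_symm_apply w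
  have h1 := inPl_xi_add inp k ((inp.ξ k)⁻¹ w)
  rw [e, add_comm] at h1
  exact h1

theorem eq_of_inPl {k : Fin 4} {w : h.V} (hw : InPl inp k w) : inp.ξ k (inp.ξ k w) + inp.ξ k w = w := by
  apply phi_inj inp
  funext l
  rw [phi_add, phi_xi, phi_xi, Pi.add_apply]
  by_cases hl : l = k
  · subst hl
    rw [Function.update_self, Function.update_self, ]
    generalize phi inp w l = x
    revert x
    decide
  · rw [Function.update_of_ne hl, Function.update_of_ne hl, hw l hl, add_zero]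

theorem inPl_map {f : h.V ≃ₗ[ZMod 2] h.V} {k l : Fin 4}
    (hf : f * inp.ξ k * f⁻¹ = inp.ξ l ∨ f * inp.ξ k * f⁻¹ = (inp.ξ l)⁻¹) {w : h.V} (hw : InPl inp k w) :
    InPl inp l (f w) := by
  have h1 := eq_of_inPl inp hw
  have e : ∀ x, f (inp.ξ k x) = (f * inp.ξ k * f⁻¹) (f x) := by
    intro x
    show f (inp.ξ k x) = f (inp.ξ k (f⁻¹ (f x)))
    have : f⁻¹ (f x) = x := f.symm_apply_apply x
    rw [this]
  rw [← h1, map_add, e]
  rcases hf with h2 | h2
  · rw [h2]; exact inPl_xi_add inp l _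
  · rw [h2]; exact inPl_xi_inv_add inp l _

theorem psi_sum_single (w : h.V) : w = ∑ j, psi inp (Pi.single j (phi inp w j)) := by
  apply phi_inj inp
  rw [phi_sum]
  funext k
  rw [Finset.sum_apply, Finset.sum_eq_single k]
  · rw [phi_psi, Pi.single_eq_same]
  · intro j _ hj
    rw [phi_psi, Pi.single_eq_of_ne (Ne.symm hj)]
  · intro hk
    exact absurd (Finset.mem_univ k) hk

theorem exists_rep {f : h.V ≃ₗ[ZMod 2] h.V} (hf : f ∈ h.act.range) : ∃ π g, Rep inp f π g := by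
  choose l hl using inp.norm f hf
  choose l' hl' using inp.norm f⁻¹ (inv_mem hf)
  have h1 : ∀ k w, InPl inp k w → InPl inp (l k) (f w) := fun k w hw => inPl_map inp (hl k) hw
  have h2 : ∀ k w, InPl inp k w → InPl inp (l' k) (f⁻¹ w) := fun k w hw => inPl_map inp (hl' k) hw
  have h3 : ∀ k, l' (l k) = k := by
    intro k
    by_contra hne
    have h4 := h2 _ _ (h1 k _ (inPl_single inp k (1, 0)))
    have e : f⁻¹ (f (psi inp (Pi.single k (1, 0)))) = psi inp (Pi.single k (1, 0)) :=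
      f.symm_apply_apply _
    have h5 := h4 k (Ne.symm hne)
    rw [e, phi_psi, Pi.single_eq_same] at h5
    exact absurd h5 (by decide)
  have hinj : Function.Injective l := Function.LeftInverse.injective h3
  let π : Equiv.Perm (Fin 4) := Equiv.ofBijective l (Finite.injective_iff_bijective.1 hinj)
  let g0 : Fin 4 → W → W := fun k x => phi inp (f (psi inp (Pi.single k x))) (l k)
  have hadd : ∀ k x y, g0 k (x + y) = g0 k x + g0 k y := by
    intro k x y
    show phi inp (f (psi inp (Pi.single k (x + y)))) (l k) = _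
    rw [Pi.single_add, psi_add, map_add, phi_add, Pi.add_apply]
  have hg : ∀ k, Function.Injective (g0 k) := by
    intro k x y hxy
    have h4 : f (psi inp (Pi.single k x)) = f (psi inp (Pi.single k y)) := by
      apply phi_inj inp
      funext j
      by_cases hj : j = l k
      · rw [hj]; exact hxy
      · rw [h1 k _ (inPl_single inp k x) j hj, h1 k _ (inPl_single inp k y) j hj]
    have h5 := congrArg (phi inp) (f.injective h4)
    rw [phi_psi, phi_psi] at h5
    have h6 := congrFun h5 k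
    rwa [Pi.single_eq_same, Pi.single_eq_same] at h6
  refine ⟨π, fun k => Equiv.ofBijective (g0 k) (Finite.injective_iff_bijective.1 (hg k)), hadd, ?_⟩
  intro w k
  show phi inp (f w) (l k) = g0 k (phi inp w k)
  conv_lhs => rw [psi_sum_single inp w, map_sum, phi_sum, Finset.sum_apply]
  rw [Finset.sum_eq_single k]
  · intro j _ hj
    exact h1 j _ (inPl_single inp j _) _ fun h' => hj (hinj h').symm
  · intro hk
    exact absurd (Finset.mem_univ k) hk

theorem ne_iff (k : Fin 4) (w : h.V) : inp.ξ k w ≠ w ↔ phi inp w k ≠ 0 := by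
  constructor
  · intro h1 h2
    apply h1
    apply phi_inj inp
    rw [phi_xi, h2]
    funext l
    by_cases hl : l = k
    · subst hl
      rw [Function.update_self, h2]
      rfl
    · rw [Function.update_of_ne hl]
  · intro h1 h2
    have h3 := congrFun (congrArg (phi inp) h2) k
    rw [phi_xi, Function.update_self] at h3
    exact R_ne_self _ h1 h3

theorem phi_xi_inv (k : Fin 4) (w : h.V) :
    phi inp ((inp.ξ k)⁻¹ w) = Function.update (phi inp w) k (RP⁻¹ (phi inp w k)) := by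
  have e : inp.ξ k ((inp.ξ k)⁻¹ w) = w := (inp.ξ k).apply_symm_apply w
  have h1 := phi_xi inp k ((inp.ξ k)⁻¹ w)
  rw [e] at h1
  rw [h1]
  funext l
  by_cases hl : l = k
  · subst hl
    rw [Function.update_self, Function.update_self]
    exact (RP.symm_apply_apply _).symm
  · rw [Function.update_of_ne hl, Function.update_of_ne hl]

theorem rep_xi_pow (k : Fin 4) (n : ℕ) : Rep inp (inp.ξ k ^ n) 1 (Function.update 1 k (RP ^ n)) := by
  induction n with
  | zero =>
    rw [pow_zero, pow_zero]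
    have e : Function.update (1 : Fin 4 → Equiv.Perm W) k 1 = 1 := by
      funext l
      by_cases hl : l = k
      · subst hl; rw [Function.update_self]; rfl
      · rw [Function.update_of_ne hl]
    rw [e]
    exact rep_one
  | succ n ih =>
    have h1 := ih.mul (rep_xi k)
    rw [pow_succ]
    have e : (fun l => (Function.update (1 : Fin 4 → Equiv.Perm W) k (RP ^ n)) ((1 : Equiv.Perm (Fin 4)) l) *
        (Function.update (1 : Fin 4 → Equiv.Perm W) k RP) l) =
        Function.update (1 : Fin 4 → Equiv.Perm W) k (RP ^ (n + 1)) := by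
      funext l
      by_cases hl : l = k
      · subst hl
        rw [Equiv.Perm.one_apply, Function.update_self, Function.update_self, Function.update_self, pow_succ]
      · rw [Equiv.Perm.one_apply, Function.update_of_ne hl, Function.update_of_ne hl,
          Function.update_of_ne hl]
        rfl
    rw [e, one_mul] at h1
    exact h1

/-- the elements of the group generated by the `ξ k` -/
noncomputable def xin (n : Fin 4 → ℕ) : h.V ≃ₗ[ZMod 2] h.V :=
  inp.ξ 0 ^ n 0 * inp.ξ 1 ^ n 1 * inp.ξ 2 ^ n 2 * inp.ξ 3 ^ n 3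

theorem rep_xin (n : Fin 4 → ℕ) : Rep inp (xin inp n) 1 (fun k => RP ^ n k) := by
  have h1 := (((rep_xi_pow inp 0 (n 0)).mul (rep_xi_pow inp 1 (n 1))).mul
    (rep_xi_pow inp 2 (n 2))).mul (rep_xi_pow inp 3 (n 3))
  have h4 : ∀ k : Fin 4, k = 0 ∨ k = 1 ∨ k = 2 ∨ k = 3 := by decide
  refine ⟨fun k => ?_, fun w k => ?_⟩
  · show Lin (RP ^ n k)
    induction n k with
    | zero => exact lin_one
    | succ m ih => rw [pow_succ]; exact ih.mul lin_RP
  · have h2 := h1.2 w k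
    have hk := h4 k
    show phi inp (xin inp n w) k = _
    have h3 : ((1 * 1 * 1 * 1 : Equiv.Perm (Fin 4))) k = k := rfl
    rw [h3] at h2
    refine Eq.trans h2 ?_
    rcases hk with rfl | rfl | rfl | rfl <;>
      simp [Function.update_of_ne]

theorem xin_mem (n : Fin 4 → ℕ) : xin inp n ∈ h.act.range :=
  mul_mem (mul_mem (mul_mem (pow_mem (inp.mem 0) _) (pow_mem (inp.mem 1) _)) (pow_mem (inp.mem 2) _))
    (pow_mem (inp.mem 3) _)

theorem exists_xin {w w' : h.V} (hw : ∀ k, phi inp w k ≠ 0) (hw' : ∀ k, phi inp w' k ≠ 0) :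
    ∃ n : Fin 4 → ℕ, xin inp n w = w' := by
  choose n hn using fun k => trans_R _ _ (hw k) (hw' k)
  refine ⟨fun k => n k, ?_⟩
  apply phi_inj inp
  funext k
  have h1 := (rep_xin inp (fun k => (n k : ℕ))).2 w k
  rw [hn] at h1
  exact h1

theorem b_single (w : h.V) (k : Fin 4) (x : W) : h.b w (psi inp (Pi.single k x)) = om (phi inp w k) x := by
  rw [b_eq inp, Finset.sum_eq_single k]
  · rw [phi_psi, Pi.single_eq_same]
  · intro j _ hj
    rw [phi_psi, Pi.single_eq_of_ne hj, om_zero]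
  · intro hk
    exact absurd (Finset.mem_univ k) hk

theorem q_single (k : Fin 4) (x : W) : h.q (psi inp (Pi.single k x)) = qW x := by
  rw [q_eq inp, Finset.sum_eq_single k]
  · rw [phi_psi, Pi.single_eq_same]
  · intro j _ hj
    rw [phi_psi, Pi.single_eq_of_ne hj]
    rfl
  · intro hk
    exact absurd (Finset.mem_univ k) hk

theorem Rep.single {inp : Input h} {f : h.V ≃ₗ[ZMod 2] h.V} {π : Equiv.Perm (Fin 4)}
    {g : Fin 4 → Equiv.Perm W} (H : Rep inp f π g) (k : Fin 4) (x : W) :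
    f (psi inp (Pi.single k x)) = psi inp (Pi.single (π k) (g k x)) := by
  apply phi_inj inp
  rw [phi_psi]
  funext l
  obtain ⟨j, rfl⟩ := π.surjective l
  rw [H.2, phi_psi]
  by_cases hj : j = k
  · subst hj
    rw [Pi.single_eq_same, Pi.single_eq_same]
  · rw [Pi.single_eq_of_ne hj, Pi.single_eq_of_ne (fun h' => hj (π.injective h')), (H.1 j).zero]

/-! ### change of basis -/

theorem xi_single_same (k : Fin 4) (x : W) :
    inp.ξ k (psi inp (Pi.single k x)) = psi inp (Pi.single k (R x)) := by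
  apply phi_inj inp
  rw [phi_xi, phi_psi, phi_psi]
  funext l
  by_cases hl : l = k
  · subst hl
    rw [Function.update_self, Pi.single_eq_same, Pi.single_eq_same]
  · rw [Function.update_of_ne hl, Pi.single_eq_of_ne hl, Pi.single_eq_of_ne hl]

theorem xi_single_ne {k l : Fin 4} (hkl : k ≠ l) (x : W) :
    inp.ξ k (psi inp (Pi.single l x)) = psi inp (Pi.single l x) := by
  apply phi_inj inp
  rw [phi_xi, phi_psi]
  funext j
  by_cases hj : j = k
  · subst hj
    rw [Function.update_self, Pi.single_eq_of_ne hkl]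
    rfl
  · rw [Function.update_of_ne hj]

theorem xi_inv_single_same (k : Fin 4) (x : W) :
    (inp.ξ k)⁻¹ (psi inp (Pi.single k x)) = psi inp (Pi.single k (R (R x))) := by
  have e : ∀ w, (inp.ξ k)⁻¹ (inp.ξ k w) = w := (inp.ξ k).symm_apply_apply
  have h1 : inp.ξ k (psi inp (Pi.single k (R (R x)))) = psi inp (Pi.single k x) := by
    rw [xi_single_same]
    congr 2
    revert x
    decide
  rw [← h1, e]

theorem xi_inv_single_ne {k l : Fin 4} (hkl : k ≠ l) (x : W) :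
    (inp.ξ k)⁻¹ (psi inp (Pi.single l x)) = psi inp (Pi.single l x) := by
  have e : ∀ w, (inp.ξ k)⁻¹ (inp.ξ k w) = w := (inp.ξ k).symm_apply_apply
  conv_lhs => rw [← xi_single_ne inp hkl x]
  rw [e]

theorem beta_cases : ∀ x y : W, om x y = 1 → y = R x ∨ (y ≠ R x ∧ y = R (R x)) := by decide

theorem om_ne : ∀ x y : W, om x y = 1 → x ≠ 0 ∧ y ≠ 0 := by decide

theorem om_zero' : ∀ x : W, om 0 x = 0 := by decide

/-- new basis: `u k` has component `α k`, `v k` has component `β k` -/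
noncomputable def rebase (α β : Fin 4 → W) (hβ : ∀ k, om (α k) (β k) = 1) : Input h where
  u k := psi inp (Pi.single k (α k))
  v k := psi inp (Pi.single k (β k))
  ξ k := if β k = R (α k) then inp.ξ k else (inp.ξ k)⁻¹
  card := inp.card
  q_u k := by rw [q_single, qW_eq, if_neg (om_ne _ _ (hβ k)).1]
  q_v k := by rw [q_single, qW_eq, if_neg (om_ne _ _ (hβ k)).2]
  b_uv k := by rw [b_single, phi_psi, Pi.single_eq_same, hβ]
  b_uu k l hkl := by rw [b_single, phi_psi, Pi.single_eq_of_ne (Ne.symm hkl), om_zero']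
  b_uv' k l hkl := by rw [b_single, phi_psi, Pi.single_eq_of_ne (Ne.symm hkl), om_zero']
  b_vv k l hkl := by rw [b_single, phi_psi, Pi.single_eq_of_ne (Ne.symm hkl), om_zero']
  ξ_u k := by
    rcases beta_cases _ _ (hβ k) with h1 | ⟨h1, h2⟩
    · rw [if_pos h1, xi_single_same, ← h1]
    · rw [if_neg h1, xi_inv_single_same, ← h2]
  ξ_v k := by
    have key : ∀ x : W, R (R x) = x + R x := by decide
    have key2 : ∀ x : W, R (R (R (R x))) = x + R (R x) := by decide
    rcases beta_cases _ _ (hβ k) with h1 | ⟨h1, h2⟩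
    · rw [if_pos h1, xi_single_same, ← psi_add, ← Pi.single_add, h1, key]
    · rw [if_neg h1, xi_inv_single_same, ← psi_add, ← Pi.single_add, h2, key2]
  ξ_u' k l hkl := by
    by_cases h1 : β k = R (α k)
    · rw [if_pos h1, xi_single_ne inp hkl]
    · rw [if_neg h1, xi_inv_single_ne inp hkl]
  ξ_v' k l hkl := by
    by_cases h1 : β k = R (α k)
    · rw [if_pos h1, xi_single_ne inp hkl]
    · rw [if_neg h1, xi_inv_single_ne inp hkl]
  mem k := by
    by_cases h1 : β k = R (α k)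
    · rw [if_pos h1]; exact inp.mem k
    · rw [if_neg h1]; exact inv_mem (inp.mem k)
  norm f hf k := by
    obtain ⟨l, hl⟩ := inp.norm f hf k
    have hl' : f * (inp.ξ k)⁻¹ * f⁻¹ = (inp.ξ l)⁻¹ ∨ f * (inp.ξ k)⁻¹ * f⁻¹ = inp.ξ l := by
      have e : f * (inp.ξ k)⁻¹ * f⁻¹ = (f * inp.ξ k * f⁻¹)⁻¹ := by group
      rw [e]
      rcases hl with h1 | h1
      · left; rw [h1]
      · right; rw [h1, inv_inv]
    refine ⟨l, ?_⟩
    by_cases h1 : β k = R (α k) <;> by_cases h2 : β l = R (α l)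
    · rw [if_pos h1, if_pos h2]; exact hl
    · rw [if_pos h1, if_neg h2, inv_inv]; exact hl.symm
    · rw [if_neg h1, if_pos h2]; exact hl'.symm
    · rw [if_neg h1, if_neg h2, inv_inv]; exact hl'

theorem rebase_xi (α β : Fin 4 → W) (hβ : ∀ k, om (α k) (β k) = 1) (k : Fin 4) :
    (rebase inp α β hβ).ξ k = inp.ξ k ∨ (rebase inp α β hβ).ξ k = (inp.ξ k)⁻¹ := by
  show (if β k = R (α k) then inp.ξ k else (inp.ξ k)⁻¹) = _ ∨
    (if β k = R (α k) then inp.ξ k else (inp.ξ k)⁻¹) = _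
  by_cases h1 : β k = R (α k)
  · left; rw [if_pos h1]
  · right; rw [if_neg h1]

theorem sum_rebase_u (α β : Fin 4 → W) (hβ : ∀ k, om (α k) (β k) = 1) :
    ∑ k, (rebase inp α β hβ).u k = psi inp α := by
  have h1 := psi_sum_single inp (psi inp α)
  rw [h1, phi_psi]
  rfl

theorem sum_rebase_v (α β : Fin 4 → W) (hβ : ∀ k, om (α k) (β k) = 1) :
    ∑ k, (rebase inp α β hβ).v k = psi inp β := by
  have h1 := psi_sum_single inp (psi inp β)
  rw [h1, phi_psi]
  rfl

end Cfsg.Agent.TypeD4Three.Coords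

private theorem dce_42c29a2fbbca : _root_.True := by
  try have : _root_.True := by simp only [_root_.Cfsg.Agent.TypeD4Three.Coords.psi.eq_1]
  exact _root_.True.intro
end

-- part: TypeD4Three/Local
section
prune_inst 0x430004510556200000000001002000004280000020040000040200a000a4802000002000100000410000284000000000002000010400000000a000000000000000002120000640000000000000000000000000000000000000000000000000000000000000
set_option linter.all false
open scoped Cfsg.Agent.FastGrp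

/-!
# S1763, case [P] : local analysis (helper951)

* `full_of_pair` : `ã` has full support
* `orient` : one of the `ξ k` can be inverted so that `D̃ = I₀ + ⟨∑ v k⟩`
* `X_iff` : the group `p.X` in coordinates
-/

set_option autoImplicit false

namespace Cfsg.Agent.TypeD4Three.Local

open Cfsg.Agent.Co2Type.Quad Cfsg.Agent.TypeD4Three.Coords Cfsg.Agent.LargeExtra.Base

variable {G : Type*} [Group G] {Q A : Subgroup G} {z a : G} (p : Pair Q z A a)

theorem sign_cases (g : Equiv.Perm W) : Equiv.Perm.sign g = 1 ∨ Equiv.Perm.sign g = -1 :=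
  Int.units_eq_one_or _

variable {f f' : p.lz.V ≃ₗ[ZMod 2] p.lz.V} {π π' : Equiv.Perm (Fin 4)} {g g' : Fin 4 → Equiv.Perm W}

/-- `f` fixes `ã` -/
theorem rep_va {inp : Input p.lz} (hf : f ∈ p.X) (H : _root_.Cfsg.Agent.TypeD4Three.Coords.Rep inp f π g) (k : Fin 4) :
    phi inp p.va (π k) = g k (phi inp p.va k) := by
  have h1 := H.2 p.va k
  rwa [p.X_va hf] at h1

theorem sign_eq {inp : Input p.lz} (hf : f ∈ p.X) (H : _root_.Cfsg.Agent.TypeD4Three.Coords.Rep inp f 1 g) {i j : Fin 4} (hij : i ≠ j)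
    (hi : phi inp p.va i ≠ 0) (hj : phi inp p.va j ≠ 0) :
    Equiv.Perm.sign (g i) = Equiv.Perm.sign (g j) := by
  have hgi : g i (phi inp p.va i) = phi inp p.va i := (rep_va p hf H i).symm
  have hgj : g j (phi inp p.va j) = phi inp p.va j := (rep_va p hf H j).symm
  set α := phi inp p.va with hα
  have hperp : p.lz.b p.va (psi inp (Pi.single i (R (α i))) + psi inp (Pi.single j (R (α j)))) = 0 := by
    rw [map_add, b_single, b_single, ← hα, om_R _ hi, om_R _ hj]; decide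
  have h1 := p.X_perp hf hperp
  rw [map_add, H.single, H.single] at h1
  have h2 : psi inp (Pi.single ((1 : Equiv.Perm (Fin 4)) i) (g i (R (α i)))) +
      psi inp (Pi.single ((1 : Equiv.Perm (Fin 4)) j) (g j (R (α j)))) +
      (psi inp (Pi.single i (R (α i))) + psi inp (Pi.single j (R (α j)))) =
      psi inp (Pi.single i (g i (R (α i)) + R (α i))) + psi inp (Pi.single j (g j (R (α j)) + R (α j))) := by
    rw [Pi.single_add, Pi.single_add, psi_add, psi_add]
    show psi inp (Pi.single i (g i (R (α i)))) + psi inp (Pi.single j (g j (R (α j)))) + _ = _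
    abel
  rw [h2] at h1
  have h3 := p.q_D h1
  rw [p.lz.q_add', q_single, q_single, b_single, phi_psi, Pi.single_eq_of_ne (Ne.symm hij)] at h3
  have h4 : ∀ x : W, om 0 x = 0 := by decide
  rw [h4, add_zero] at h3
  have key : ∀ (g : Equiv.Perm W) (x : W), Lin g → g x = x → x ≠ 0 →
      qW (g (R x) + R x) = if Equiv.Perm.sign g = 1 then 0 else 1 := by decide +kernel
  rw [key _ _ (H.1 i) hgi hi, key _ _ (H.1 j) hgj hj] at h3
  rcases sign_cases (g i) with h5 | h5 <;> rcases sign_cases (g j) with h6 | h6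
  · rw [h5, h6]
  · rw [h5, h6] at h3; exact absurd h3 (by decide)
  · rw [h5, h6] at h3; exact absurd h3 (by decide)
  · rw [h5, h6]

theorem zero_comp {inp : Input p.lz} (hf : f ∈ p.X) (H : _root_.Cfsg.Agent.TypeD4Three.Coords.Rep inp f π g) {m : Fin 4}
    (hm : phi inp p.va m = 0) : π m = m ∧ g m = 1 := by
  have hxH : inp.ξ m ∈ p.H := inp.mem m
  have hxa : inp.ξ m p.va = p.va := by
    by_contra hne
    exact (ne_iff inp m p.va).1 hne hm
  have hE : inp.ξ m * f * (inp.ξ m)⁻¹ * f⁻¹ ∈ p.X := mul_mem (p.X_normal hxH hxa hf) (inv_mem hf)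
  set E := inp.ξ m * f * (inp.ξ m)⁻¹ * f⁻¹ with hEd
  have hEE : ∀ w, E (E w) = w := fun w => by
    have := p.X_sq hE
    exact congrArg (fun F : p.lz.V ≃ₗ[ZMod 2] p.lz.V => F w) this
  have hff : ∀ w, f (f w) = w := fun w => by
    have := p.X_sq hf
    exact congrArg (fun F : p.lz.V ≃ₗ[ZMod 2] p.lz.V => F w) this
  have hEw : ∀ w, E w = inp.ξ m (f ((inp.ξ m)⁻¹ (f⁻¹ w))) := fun w => rfl
  have hfi : ∀ w, f (f⁻¹ w) = w := f.apply_symm_apply
  have hπ : π m = m := by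
    by_contra hne
    obtain ⟨j, hj⟩ := π.surjective m
    have hjm : j ≠ m := by
      rintro rfl
      exact hne hj
    have h1 : ∀ w, phi inp (E w) m = R (phi inp w m) := by
      intro w
      rw [hEw, phi_xi, Function.update_self]
      congr 1
      have h3 := H.2 ((inp.ξ m)⁻¹ (f⁻¹ w)) j
      rw [hj, phi_xi_inv, Function.update_of_ne hjm, ← H.2, hfi, hj] at h3
      exact h3
    have h2 := congrArg (fun w => phi inp w m) (hEE (psi inp (Pi.single m (1, 0))))
    simp only [h1, phi_psi, Pi.single_eq_same] at h2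
    exact absurd h2 (by decide)
  refine ⟨hπ, ?_⟩
  have h1 : ∀ w, phi inp (E w) m = (RP * g m * RP⁻¹ * (g m)⁻¹) (phi inp w m) := by
    intro w
    rw [hEw, phi_xi, Function.update_self]
    show _ = RP (g m (RP⁻¹ ((g m)⁻¹ (phi inp w m))))
    show RP _ = _
    congr 1
    have h3 := H.2 ((inp.ξ m)⁻¹ (f⁻¹ w)) m
    rw [hπ, phi_xi_inv, Function.update_self] at h3
    rw [h3]
    congr 2
    have h2 := H.2 (f⁻¹ w) m
    rw [hfi, hπ] at h2
    rw [h2]
    exact ((g m).symm_apply_apply _).symm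
  apply w6 (g m) (H.1 m)
  · ext x : 1
    have h2 := congrArg (fun w => phi inp w m) (hff (psi inp (Pi.single m x)))
    simp only [phi_psi, Pi.single_eq_same] at h2
    have h3 := H.2 (f (psi inp (Pi.single m x))) m
    rw [hπ, h2] at h3
    have h4 := H.2 (psi inp (Pi.single m x)) m
    rw [hπ, phi_psi, Pi.single_eq_same] at h4
    rw [h4] at h3
    exact h3.symm
  · ext x : 1
    have h2 := congrArg (fun w => phi inp w m) (hEE (psi inp (Pi.single m x)))
    simp only [h1, phi_psi, Pi.single_eq_same] at h2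
    exact h2

theorem eq_one_of_rep {inp : Input p.lz} (hf : f ∈ p.X) (H : _root_.Cfsg.Agent.TypeD4Three.Coords.Rep inp f 1 g) {i0 : Fin 4}
    (h0 : phi inp p.va i0 ≠ 0) (hs : Equiv.Perm.sign (g i0) = 1) : f = 1 := by
  have hg : g = 1 := by
    funext k
    by_cases hk : phi inp p.va k = 0
    · exact (zero_comp p hf H hk).2
    · have h1 : Equiv.Perm.sign (g k) = 1 := by
        by_cases hk0 : k = i0
        · rw [hk0]; exact hs
        · rw [sign_eq p hf H hk0 hk h0, hs]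
      exact w3 (g k) (H.1 k) h1 _ hk (rep_va p hf H k).symm
  rw [hg] at H
  exact H.ext rep_one

theorem eq_of_rep {inp : Input p.lz} (hf : f ∈ p.X) (hf' : f' ∈ p.X) (H : _root_.Cfsg.Agent.TypeD4Three.Coords.Rep inp f π g)
    (H' : _root_.Cfsg.Agent.TypeD4Three.Coords.Rep inp f' π g') {i0 : Fin 4} (h0 : phi inp p.va i0 ≠ 0)
    (hs : Equiv.Perm.sign (g i0) = Equiv.Perm.sign (g' i0)) : f = f' := by
  have h1 := H.inv.mul H'
  rw [inv_mul_cancel] at h1
  have h2 : f⁻¹ * f' = 1 := by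
    apply eq_one_of_rep p (mul_mem (inv_mem hf) hf') h1 h0
    have e : π⁻¹ (π i0) = i0 := π.symm_apply_apply i0
    show Equiv.Perm.sign ((g (π⁻¹ (π i0)))⁻¹ * g' i0) = 1
    rw [e, Equiv.Perm.sign_mul, Equiv.Perm.sign_inv, hs]
    exact Int.units_mul_self _
  exact (inv_mul_eq_one.1 h2)

theorem card_X_le [Finite G] {inp : Input p.lz} {S : Finset (Equiv.Perm (Fin 4))} {i0 : Fin 4}
    (h0 : phi inp p.va i0 ≠ 0)
    (hS : ∀ f ∈ p.X, ∀ π g, _root_.Cfsg.Agent.TypeD4Three.Coords.Rep inp f π g → π ∈ S) : Nat.card p.X ≤ S.card * 2 := by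
  classical
  have h1 : ∀ f : p.X, ∃ π g, _root_.Cfsg.Agent.TypeD4Three.Coords.Rep inp (f : p.lz.V ≃ₗ[ZMod 2] p.lz.V) π g := fun f =>
    exists_rep inp (p.X_le_H f.2)
  choose P Gm hP using h1
  let F : p.X → S × ℤˣ := fun f => (⟨P f, hS _ f.2 _ _ (hP f)⟩, Equiv.Perm.sign (Gm f i0))
  have hF : Function.Injective F := by
    intro f f' hff
    have e1 : P f = P f' := congrArg (fun t : S × ℤˣ => (t.1 : Equiv.Perm (Fin 4))) hff
    have e2 : Equiv.Perm.sign (Gm f i0) = Equiv.Perm.sign (Gm f' i0) :=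
      congrArg (fun t : S × ℤˣ => t.2) hff
    have h2 := hP f'
    rw [← e1] at h2
    exact Subtype.ext (eq_of_rep p f.2 f'.2 (hP f) h2 h0 e2)
  have h2 := Nat.card_le_card_of_injective F hF
  rw [Nat.card_prod, Nat.card_eq_fintype_card (α := ℤˣ)] at h2
  simpa only [_root_.ge_iff_le, _root_.Nat.card_eq_fintype_card, _root_.Fintype.card_coe, _root_.Fintype.card_units_int] using h2

theorem card_D_le (inp : Input p.lz) [Finite Q] : Nat.card p.D ≤ 16 := by
  have h1 := Cfsg.Agent.LargeExtra.Perp.card_sq_le p.lz p.D (fun v hv w hw => p.b_D hv hw)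
  rw [card_V inp] at h1
  by_contra hcon
  push Not at hcon
  nlinarith

theorem card_X_ge [Finite G] (inp : Input p.lz) : 8 ≤ Nat.card p.X := by
  have h1 := p.card_X
  rw [card_V inp] at h1
  have h2 := card_D_le p inp
  by_contra hcon
  push Not at hcon
  nlinarith

theorem full_phi [Finite G] (inp : Input p.lz) : ∀ k, phi inp p.va k ≠ 0 := by
  by_contra hcon
  push Not at hcon
  obtain ⟨m, hm⟩ := hcon
  have hq := p.q_D p.va_mem_D
  rw [q_eq inp] at hq
  simp only [qW_eq] at hq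
  have key : ∀ (s : Fin 4 → Bool) (m : Fin 4), s m = true →
      (∑ k, (if s k = true then (0 : ZMod 2) else 1)) = 0 → ∃ m', m' ≠ m ∧ s m' = true := by
    decide +kernel
  obtain ⟨m', hne, hm'⟩ := key (fun k => decide (phi inp p.va k = 0)) m (by simpa using hm)
    (by simpa using hq)
  have hm'0 : phi inp p.va m' = 0 := by simpa using hm'
  obtain ⟨i0, h0⟩ : ∃ i0, phi inp p.va i0 ≠ 0 := by
    by_contra hcon
    push Not at hcon
    apply p.va_ne
    apply phi_inj inp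
    rw [phi_zero]
    funext k
    exact hcon k
  have h1 := card_X_le p (inp := inp) (S := Finset.univ.filter fun σ => σ m = m ∧ σ m' = m') h0 (by
    intro f hf π g H
    rw [Finset.mem_filter]
    exact ⟨Finset.mem_univ _, (zero_comp p hf H hm).1, (zero_comp p hf H hm'0).1⟩)
  have h2 : ∀ m m' : Fin 4, m' ≠ m →
      (Finset.univ.filter fun σ : Equiv.Perm (Fin 4) => σ m = m ∧ σ m' = m').card ≤ 2 := by
    decide +kernel
  have h3 := h2 m m' hne
  have h4 := card_X_ge p inp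
  omega

theorem exists_ne_one [Finite G] (inp : Input p.lz) : ∃ f ∈ p.X, ∃ π g, _root_.Cfsg.Agent.TypeD4Three.Coords.Rep inp f π g ∧ π ≠ 1 := by
  by_contra hcon
  push Not at hcon
  have h1 := card_X_le p (inp := inp) (S := {1}) (full_phi p inp 0) (by
    intro f hf π g H
    rw [Finset.mem_singleton]
    exact hcon f hf π g H)
  have h2 := card_X_ge p inp
  rw [Finset.card_singleton] at h1
  omega

/-- the possible permutations -/
def cs (τ : Equiv.Perm (Fin 4)) : Finset (Equiv.Perm (Fin 4)) :=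
  Finset.univ.filter fun σ => σ * σ = 1 ∧ σ * τ = τ * σ

theorem card_cs : ∀ τ : Equiv.Perm (Fin 4), τ ≠ 1 → τ * τ = 1 → (cs τ).card ≤ 6 := by decide +kernel

theorem exists_cs [Finite G] (inp : Input p.lz) : ∃ τ : Equiv.Perm (Fin 4), (cs τ).card ≤ 6 ∧
    ∀ f ∈ p.X, ∀ π g, _root_.Cfsg.Agent.TypeD4Three.Coords.Rep inp f π g → π ∈ cs τ := by
  obtain ⟨f0, hf0, τ, g0, H0, hτ⟩ := exists_ne_one p inp
  have hsq : ∀ f ∈ p.X, ∀ π g, _root_.Cfsg.Agent.TypeD4Three.Coords.Rep inp f π g → π * π = 1 := by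
    intro f hf π g H
    have h1 := H.mul H
    rw [p.X_sq hf] at h1
    exact (h1.unique rep_one).1
  refine ⟨τ, card_cs τ hτ (hsq f0 hf0 τ g0 H0), ?_⟩
  intro f hf π g H
  rw [cs, Finset.mem_filter]
  refine ⟨Finset.mem_univ _, hsq f hf π g H, ?_⟩
  have h1 := H.mul H0
  rw [p.X_comm hf hf0] at h1
  exact (h1.unique (H0.mul H)).1

theorem cards [Finite G] (inp : Input p.lz) : Nat.card p.X = 8 ∧ Nat.card p.D = 16 := by
  obtain ⟨τ, h1, h2⟩ := exists_cs p inp
  have h3 := card_X_le p (inp := inp) (full_phi p inp 0) h2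
  have h4 := card_X_ge p inp
  have h5 := p.card_X
  rw [card_V inp] at h5
  have h6 := card_D_le p inp
  have h7 : Nat.card p.X ≤ 12 := by omega
  generalize Nat.card p.X = x at *
  generalize Nat.card p.D = d at *
  interval_cases x <;> (clear * - h5; omega)

theorem exists_delta [Finite G] (inp : Input p.lz) :
    ∃ f ∈ p.X, ∃ g, _root_.Cfsg.Agent.TypeD4Three.Coords.Rep inp f 1 g ∧ ∀ k, Equiv.Perm.sign (g k) = -1 := by
  classical
  obtain ⟨τ, h1, h2⟩ := exists_cs p inp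
  have h3 : ∀ f : p.X, ∃ π g, _root_.Cfsg.Agent.TypeD4Three.Coords.Rep inp (f : p.lz.V ≃ₗ[ZMod 2] p.lz.V) π g := fun f =>
    exists_rep inp (p.X_le_H f.2)
  choose P Gm hP using h3
  let F : p.X → cs τ := fun f => ⟨P f, h2 _ f.2 _ _ (hP f)⟩
  have hF : ¬ Function.Injective F := by
    intro hinj
    have h4 := Nat.card_le_card_of_injective F hinj
    rw [(cards p inp).1, Nat.card_eq_fintype_card, Fintype.card_coe] at h4
    omega
  rw [Function.Injective] at hF
  push Not at hF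
  obtain ⟨f, f', hff, hne⟩ := hF
  have e1 : P f = P f' := congrArg (fun t : cs τ => (t : Equiv.Perm (Fin 4))) hff
  have h4 := (hP f).inv.mul (hP f')
  rw [← e1, inv_mul_cancel] at h4
  refine ⟨_, mul_mem (inv_mem f.2) f'.2, _, h4, ?_⟩
  intro k
  rcases sign_cases ((Gm f ((P f)⁻¹ (P f k)))⁻¹ * Gm f' k) with h5 | h5
  · exfalso
    apply hne
    have h6 := eq_one_of_rep p (mul_mem (inv_mem f.2) f'.2) h4 (full_phi p inp k) h5
    exact Subtype.ext (inv_mul_eq_one.1 h6)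
  · exact h5

/-- sums of two components of `ã` are in `D̃` -/
theorem pair_mem_D [Finite G] (inp : Input p.lz) (i j : Fin 4) :
    psi inp (Pi.single i (phi inp p.va i)) + psi inp (Pi.single j (phi inp p.va j)) ∈ p.D := by
  obtain ⟨f, hf, g, H, hs⟩ := exists_delta p inp
  have hg : ∀ k, g k (phi inp p.va k) = phi inp p.va k := fun k => (rep_va p hf H k).symm
  have hfull := full_phi p inp
  set α := phi inp p.va with hα
  have hperp : p.lz.b p.va (psi inp (Pi.single i (R (α i))) + psi inp (Pi.single j (R (α j)))) = 0 := by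
    rw [map_add, b_single, b_single, ← hα, om_R _ (hfull i), om_R _ (hfull j)]; decide
  have h1 := p.X_perp hf hperp
  rw [map_add, H.single, H.single, w2 _ (H.1 i) (hs i), w2 _ (H.1 j) (hs j), hg, hg, Pi.single_add,
    Pi.single_add, psi_add, psi_add] at h1
  have h2 : psi inp (Pi.single ((1 : Equiv.Perm (Fin 4)) i) (R (α i))) +
      psi inp (Pi.single ((1 : Equiv.Perm (Fin 4)) i) (α i)) +
      (psi inp (Pi.single ((1 : Equiv.Perm (Fin 4)) j) (R (α j))) +
        psi inp (Pi.single ((1 : Equiv.Perm (Fin 4)) j) (α j))) +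
      (psi inp (Pi.single i (R (α i))) + psi inp (Pi.single j (R (α j)))) =
      psi inp (Pi.single i (α i)) + psi inp (Pi.single j (α j)) := by
    rw [Equiv.Perm.one_apply, Equiv.Perm.one_apply]
    generalize psi inp (Pi.single i (R (α i))) = A1
    generalize psi inp (Pi.single j (R (α j))) = A2
    generalize psi inp (Pi.single i (α i)) = A3
    generalize psi inp (Pi.single j (α j)) = A4
    calc A1 + A3 + (A2 + A4) + (A1 + A2) = (A1 + A1) + (A2 + A2) + (A3 + A4) := by abel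
      _ = A3 + A4 := by rw [p.lz.add_self, p.lz.add_self, zero_add, zero_add]
  rwa [h2] at h1

/-- `inp` is adapted to the pair `p`: `ã = ∑ u k`, `D̃ = I₀ + ⟨∑ v k⟩` -/
structure Adapted (p : Pair Q z A a) (inp : Input p.lz) : Prop where
  va : phi inp p.va = fun _ => (1, 0)
  D : ∀ w, w ∈ p.D ↔ (∀ k, (phi inp w k).2 = (phi inp w 0).2) ∧ ∑ k, (phi inp w k).1 = 0

theorem om_pair [Finite G] (inp : Input p.lz) {w : p.lz.V} (hw : w ∈ p.D) (k : Fin 4) :
    om (phi inp w k) (phi inp p.va k) = om (phi inp w 0) (phi inp p.va 0) := by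
  have h1 := p.b_D hw (pair_mem_D p inp k 0)
  rw [map_add, b_single, b_single] at h1
  have : ∀ x y : ZMod 2, x + y = 0 → x = y := by decide
  exact this _ _ h1

theorem exists_w0 [Finite G] (inp : Input p.lz) :
    ∃ w ∈ p.D, om (phi inp w 0) (phi inp p.va 0) = 1 := by
  by_contra hcon
  push Not at hcon
  have h0 : ∀ w ∈ p.D, ∀ k, phi inp w k = 0 ∨ phi inp w k = phi inp p.va k := by
    intro w hw k
    have h1 := om_pair p inp hw k
    have h2 : om (phi inp w 0) (phi inp p.va 0) = 0 := by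
      have : ∀ x : ZMod 2, x ≠ 1 → x = 0 := by decide
      exact this _ (hcon w hw)
    rw [h2] at h1
    have key : ∀ x y : W, y ≠ 0 → om x y = 0 → x = 0 ∨ x = y := by decide
    exact key _ _ (full_phi p inp k) h1
  let F : p.D → {s : Fin 4 → ZMod 2 // ∑ k, s k = 0} := fun w =>
    ⟨fun k => qW (phi inp w k), by
      have := p.q_D w.2
      rwa [q_eq inp] at this⟩
  have hF : Function.Injective F := by
    intro w w' hww
    apply Subtype.ext
    apply phi_inj inp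
    funext k
    have h1 : qW (phi inp w k) = qW (phi inp w' k) := congrFun (congrArg Subtype.val hww) k
    rw [qW_eq, qW_eq] at h1
    rcases h0 w w.2 k with h2 | h2 <;> rcases h0 w' w'.2 k with h3 | h3
    · rw [h2, h3]
    · rw [if_pos h2, if_neg (h3 ▸ full_phi p inp k)] at h1
      exact absurd h1 (by decide)
    · rw [if_pos h3, if_neg (h2 ▸ full_phi p inp k)] at h1
      exact absurd h1 (by decide)
    · rw [h2, h3]
  have h1 := Nat.card_le_card_of_injective F hF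
  rw [(cards p inp).2, Nat.card_eq_fintype_card] at h1
  have h2 : Fintype.card {s : Fin 4 → ZMod 2 // ∑ k, s k = 0} = 8 := by decide +kernel
  omega

/-- (b) the orientation -/
theorem exists_adapted [Finite G] (inp : Input p.lz) : ∃ inp' : Input p.lz,
    (∀ k, inp'.ξ k = inp.ξ k ∨ inp'.ξ k = (inp.ξ k)⁻¹) ∧ Adapted p inp' := by
  obtain ⟨w0, hw0, h0⟩ := exists_w0 p inp
  have hβ : ∀ k, om (phi inp p.va k) (phi inp w0 k) = 1 := by
    intro k
    rw [om_comm, om_pair p inp hw0 k, h0]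
  refine ⟨rebase inp _ _ hβ, rebase_xi inp _ _ hβ, ?_⟩
  have hu : ∑ k, (rebase inp _ _ hβ).u k = p.va := by rw [sum_rebase_u, psi_phi]
  have hv : ∑ k, (rebase inp _ _ hβ).v k = w0 := by rw [sum_rebase_v, psi_phi]
  have hD : ∀ k l, (rebase inp _ _ hβ).u k + (rebase inp _ _ hβ).u l ∈ p.D := fun k l =>
    pair_mem_D p inp k l
  generalize rebase inp _ _ hβ = inp' at hu hv hD
  refine ⟨?_, fun w => ⟨fun hw => ⟨fun k => ?_, ?_⟩, ?_⟩⟩
  · rw [← hu, phi_sum]
    funext l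
    rw [Finset.sum_apply, Finset.sum_eq_single l]
    · rw [phi_u, Pi.single_eq_same]
    · intro k _ hk
      rw [phi_u, Pi.single_eq_of_ne (Ne.symm hk)]
    · intro hk
      exact absurd (Finset.mem_univ l) hk
  · have h1 := p.b_D hw (hD k 0)
    rw [map_add] at h1
    have : ∀ x y : ZMod 2, x + y = 0 → x = y := by decide
    exact this _ _ h1
  · have h1 := p.b_D hw hw0
    rw [← hv, map_sum] at h1
    exact h1
  · rintro ⟨h1, h2⟩
    have h3 := psi_phi inp' w
    set c := phi inp' w with hc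
    have h4 : (c 0).1 = (c 1).1 + (c 2).1 + (c 3).1 := by
      rw [Fin.sum_univ_four] at h2
      have : ∀ x y z w : ZMod 2, x + y + z + w = 0 → x = y + z + w := by decide
      exact this _ _ _ _ h2
    have h5 : w = (c 1).1 • (inp'.u 1 + inp'.u 0) + (c 2).1 • (inp'.u 2 + inp'.u 0) +
        (c 3).1 • (inp'.u 3 + inp'.u 0) + (c 0).2 • w0 := by
      rw [← h3, psi, ← hv, Fin.sum_univ_four, Fin.sum_univ_four, h1 1, h1 2, h1 3, h4]
      module
    rw [h5]
    exact add_mem (add_mem (add_mem (p.D.smul_mem _ (hD 1 0)) (p.D.smul_mem _ (hD 2 0)))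
      (p.D.smul_mem _ (hD 3 0))) (p.D.smul_mem _ hw0)

theorem phi_comb (inp : Input p.lz) (s : Fin 4 → ZMod 2) (e : ZMod 2) :
    phi inp (∑ k, s k • inp.u k + e • ∑ k, inp.v k) = fun k => (s k, e) := by
  have h1 : ∑ k, s k • inp.u k + e • ∑ k, inp.v k = psi inp (fun k => (s k, e)) := by
    rw [psi, Finset.smul_sum, ← Finset.sum_add_distrib]
  rw [h1, phi_psi]

theorem Adapted.sum_u {inp : Input p.lz} (h : Adapted p inp) : ∑ k, inp.u k = p.va := by
  apply phi_inj inp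
  have h1 := phi_comb p inp (fun _ => 1) 0
  simp only [one_smul, zero_smul, add_zero] at h1
  rw [h1, h.va]

/-- the regular four-group -/
def V4 : Finset (Equiv.Perm (Fin 4)) :=
  {1, Equiv.swap (0 : Fin 4) 1 * Equiv.swap (2 : Fin 4) 3, Equiv.swap (0 : Fin 4) 2 * Equiv.swap (1 : Fin 4) 3, Equiv.swap (0 : Fin 4) 3 * Equiv.swap (1 : Fin 4) 2}

theorem card_V4 : V4.card = 4 := by decide +kernel

/-- the transvection `(x, y) ↦ (x + e y, y)` -/
def TP (e : ZMod 2) : Equiv.Perm W where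
  toFun x := (x.1 + e * x.2, x.2)
  invFun x := (x.1 + e * x.2, x.2)
  left_inv := by revert e; decide
  right_inv := by revert e; decide

theorem lin_TP : ∀ e, Lin (TP e) := by decide +kernel

theorem eq_TP : ∀ (g : Equiv.Perm W) (e : ZMod 2), Lin g → g (1, 0) = (1, 0) → g (0, 1) = (e, 1) → g = TP e := by
  decide +kernel

theorem mem_V4 : ∀ π : Equiv.Perm (Fin 4), (∀ i j : Fin 4, i ≠ j →
    (∀ l, (π l = i ∨ π l = j) ↔ (l = i ∨ l = j)) ∨ (∀ l, (π l = i ∨ π l = j) ↔ ¬ (l = i ∨ l = j))) →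
    π ∈ V4 := by decide +kernel

theorem phi_pair (inp : Input p.lz) {i j : Fin 4} (hij : i ≠ j) (l : Fin 4) :
    phi inp (inp.u i + inp.u j) l = if l = i ∨ l = j then (1, 0) else 0 := by
  rw [phi_add, phi_u, phi_u, Pi.add_apply]
  by_cases h1 : l = i
  · subst h1
    rw [Pi.single_eq_same, Pi.single_eq_of_ne hij, if_pos (Or.inl rfl), add_zero]
  · rw [Pi.single_eq_of_ne h1, zero_add]
    by_cases h2 : l = j
    · subst h2
      rw [Pi.single_eq_same, if_pos (Or.inr rfl)]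
    · rw [Pi.single_eq_of_ne h2, if_neg (by push Not; exact ⟨h1, h2⟩)]

theorem pair_sum : ∀ i j : Fin 4, i ≠ j →
    ∑ k : Fin 4, (if k = i ∨ k = j then ((1, 0) : W) else 0).1 = 0 := by decide +kernel

/-- (c) the elements of `p.X` -/
theorem X_rep {inp : Input p.lz} (hA : Adapted p inp) (hf : f ∈ p.X) (H : _root_.Cfsg.Agent.TypeD4Three.Coords.Rep inp f π g) :
    π ∈ V4 ∧ ∃ e : ZMod 2, g = fun _ => TP e := by
  have hva : ∀ k, phi inp p.va k = (1, 0) := fun k => by rw [hA.va]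
  have h10 : ∀ k, g k (1, 0) = (1, 0) := by
    intro k
    have h1 := rep_va p hf H k
    rw [hva, hva] at h1
    exact h1.symm
  constructor
  · apply mem_V4
    intro i j hij
    have hD : inp.u i + inp.u j ∈ p.D := by
      rw [hA.D]
      constructor
      · intro k
        rw [phi_pair p inp hij, phi_pair p inp hij]
        split_ifs <;> rfl
      · simp only [phi_pair p inp hij]
        exact pair_sum i j hij
    have h1 : ∀ l, phi inp (f (inp.u i + inp.u j)) (π l) = if l = i ∨ l = j then (1, 0) else 0 := by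
      intro l
      rw [H.2, phi_pair p inp hij]
      by_cases h : l = i ∨ l = j
      · rw [if_pos h, h10]
      · rw [if_neg h, (H.1 l).zero]
    rcases p.X_D hf hD with h2 | h2
    · left
      intro l
      have h3 := h1 l
      rw [h2, phi_pair p inp hij] at h3
      by_cases h4 : π l = i ∨ π l = j <;> by_cases h5 : l = i ∨ l = j
      · simp only [h4, h5]
      · rw [if_pos h4, if_neg h5] at h3; exact absurd h3 (by decide)
      · rw [if_neg h4, if_pos h5] at h3; exact absurd h3 (by decide)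
      · simp only [h4, h5]
    · right
      intro l
      have h3 := h1 l
      rw [h2, phi_add, Pi.add_apply, hva, phi_pair p inp hij] at h3
      by_cases h4 : π l = i ∨ π l = j <;> by_cases h5 : l = i ∨ l = j
      · rw [if_pos h4, if_pos h5] at h3; exact absurd h3 (by decide)
      · simp only [h4, h5, not_false_iff]
      · simp only [h4, h5, not_true]
      · rw [if_neg h4, if_neg h5] at h3; exact absurd h3 (by decide)
  · have hj : phi inp (∑ k, inp.v k) = fun _ => (0, 1) := by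
      have h1 := phi_comb p inp (fun _ => 0) 1
      simpa using h1
    have hD : ∑ k, inp.v k ∈ p.D := by
      rw [hA.D, hj]
      exact ⟨fun _ => rfl, by decide⟩
    have h1 : ∀ l, phi inp (f (∑ k, inp.v k)) (π l) = g l (0, 1) := by
      intro l
      rw [H.2, hj]
    rcases p.X_D hf hD with h2 | h2
    · refine ⟨0, funext fun k => eq_TP _ _ (H.1 k) (h10 k) ?_⟩
      rw [← h1, h2, hj]
    · refine ⟨1, funext fun k => eq_TP _ _ (H.1 k) (h10 k) ?_⟩
      rw [← h1, h2, phi_add, Pi.add_apply, hj, hva]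
      rfl

/-- (c) all of them occur -/
theorem exists_X_rep [Finite G] {inp : Input p.lz} (hA : Adapted p inp) {π : Equiv.Perm (Fin 4)}
    (hπ : π ∈ V4) (e : ZMod 2) : ∃ f ∈ p.X, _root_.Cfsg.Agent.TypeD4Three.Coords.Rep inp f π (fun _ => TP e) := by
  classical
  have h1 : ∀ f : p.X, ∃ (x : V4 × ZMod 2), _root_.Cfsg.Agent.TypeD4Three.Coords.Rep inp (f : p.lz.V ≃ₗ[ZMod 2] p.lz.V) x.1 (fun _ => TP x.2) := by
    intro f
    obtain ⟨π, g, H⟩ := exists_rep inp (p.X_le_H f.2)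
    obtain ⟨h2, e, h3⟩ := X_rep p hA f.2 H
    rw [h3] at H
    exact ⟨(⟨π, h2⟩, e), H⟩
  choose F hF using h1
  have hinj : Function.Injective F := by
    intro f f' hff
    have h2 := hF f'
    rw [← hff] at h2
    exact Subtype.ext ((hF f).ext h2)
  have hsurj : Function.Surjective F := by
    have hb : Function.Bijective F := by
      rw [Nat.bijective_iff_injective_and_card]
      refine ⟨hinj, ?_⟩
      rw [(cards p inp).1, Nat.card_prod, Nat.card_eq_fintype_card, Nat.card_eq_fintype_card,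
        Fintype.card_coe, card_V4]
      rfl
    exact hb.2
  obtain ⟨f, hf⟩ := hsurj (⟨π, hπ⟩, e)
  have h2 := hF f
  rw [hf] at h2
  exact ⟨f, f.2, h2⟩

theorem X_iff_rep [Finite G] {inp : Input p.lz} (hA : Adapted p inp) (f : p.lz.V ≃ₗ[ZMod 2] p.lz.V) :
    f ∈ p.X ↔ ∃ π ∈ V4, ∃ e : ZMod 2, _root_.Cfsg.Agent.TypeD4Three.Coords.Rep inp f π (fun _ => TP e) := by
  constructor
  · intro hf
    obtain ⟨π, g, H⟩ := exists_rep inp (p.X_le_H hf)
    obtain ⟨h2, e, h3⟩ := X_rep p hA hf H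
    rw [h3] at H
    exact ⟨π, h2, e, H⟩
  · rintro ⟨π, hπ, e, H⟩
    obtain ⟨f', hf', H'⟩ := exists_X_rep p hA hπ e
    rw [H.ext H']
    exact hf'

/-- (c) in the form of helper754 -/
theorem X_iff [Finite G] {inp : Input p.lz} (hA : Adapted p inp) (f : p.lz.V ≃ₗ[ZMod 2] p.lz.V) :
    f ∈ p.X ↔ ∃ π ∈ V4, ∃ e : ZMod 2, ∀ k, f (inp.u k) = inp.u (π k) ∧
      f (inp.v k) = inp.v (π k) + e • inp.u (π k) := by
  rw [X_iff_rep p hA]
  have hu : ∀ k, inp.u k = psi inp (Pi.single k (1, 0)) := fun k => by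
    apply phi_inj inp
    rw [phi_u, phi_psi]
  have hv : ∀ k, inp.v k = psi inp (Pi.single k (0, 1)) := fun k => by
    apply phi_inj inp
    rw [phi_v, phi_psi]
  have hc : ∀ (e : ZMod 2) k, inp.v k + e • inp.u k = psi inp (Pi.single k (TP e (0, 1))) := by
    intro e k
    apply phi_inj inp
    rw [phi_add, phi_smul, phi_u, phi_v, phi_psi, ← Pi.single_smul, ← Pi.single_add]
    have key : ∀ e : ZMod 2, ((0, 1) : W) + e • (1, 0) = TP e (0, 1) := by decide
    rw [key]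
  constructor
  · rintro ⟨π, hπ, e, H⟩
    refine ⟨π, hπ, e, fun k => ⟨?_, ?_⟩⟩
    · have key : ∀ e : ZMod 2, TP e (1, 0) = (1, 0) := by decide
      rw [hu, hu, H.single, key]
    · rw [hc, hv, H.single]
  · rintro ⟨π, hπ, e, H⟩
    refine ⟨π, hπ, e, fun _ => lin_TP e, fun w k => ?_⟩
    conv_lhs => rw [← psi_phi inp w, psi, map_sum, phi_sum, Finset.sum_apply]
    rw [Finset.sum_eq_single k]
    · rw [map_add, map_smul, map_smul, (H k).1, (H k).2, phi_add, phi_smul, phi_smul, phi_add, phi_smul,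
        phi_u, phi_v]
      simp only [Pi.add_apply, Pi.smul_apply, Pi.single_eq_same]
      have key : ∀ (x : W) (e : ZMod 2), x.1 • ((1, 0) : W) + x.2 • (((0, 1) : W) + e • (1, 0)) =
        TP e x := by decide
      exact key _ _
    · intro j _ hj
      have hne : π k ≠ π j := fun h' => hj (π.injective h').symm
      rw [map_add, map_smul, map_smul, (H j).1, (H j).2, phi_add, phi_smul, phi_smul, phi_add, phi_smul,
        phi_u, phi_v]
      simp only [Pi.add_apply, Pi.smul_apply, Pi.single_eq_of_ne hne, smul_zero, add_zero]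
    · intro hk
      exact absurd (Finset.mem_univ k) hk

/-! ### conjugacy of the elements of full support -/

theorem conj_full {h : Large Q z} (inp : Input h) {x y : G} (hx : x ∈ Q) (hy : y ∈ Q)
    (hfx : ∀ k, phi inp (h.pr ⟨x, hx⟩) k ≠ 0) (hfy : ∀ k, phi inp (h.pr ⟨y, hy⟩) k ≠ 0) :
    ∃ c : Subgroup.centralizer ({z} : Set G), (∃ n, h.act c = xin inp n) ∧
      (c : G) * x * (c : G)⁻¹ = y := by
  obtain ⟨n, hn⟩ := exists_xin inp hfx hfy
  obtain ⟨c, hc⟩ := xin_mem inp n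
  rw [← hc, h.act_pr, h.pr_eq_pr, h.conjQ_coe] at hn
  rcases hn with h1 | h1
  · exact ⟨c, ⟨n, hc⟩, h1⟩
  · have hy0 : h.pr ⟨y, hy⟩ ≠ 0 := by
      intro h2
      apply hfy 0
      rw [h2, phi_zero]
      rfl
    have hy1 : y ≠ 1 := fun h2 => hy0 (h.pr_eq_zero.2 (Or.inl h2))
    have hyz : y ≠ z := fun h2 => hy0 (h.pr_eq_zero.2 (Or.inr h2))
    obtain ⟨r, hr, hry⟩ := exists_not_comm h hy hy1 hyz
    have hrC : r ∈ Subgroup.centralizer ({z} : Set G) :=
      Subgroup.mem_centralizer_singleton_iff.2 (h.comm_z r hr)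
    refine ⟨⟨r, hrC⟩ * c, ⟨n, ?_⟩, ?_⟩
    · rw [map_mul, h.act_mem _ hr, one_mul, hc]
    · show r * (c : G) * x * (r * (c : G))⁻¹ = y
      have e1 : r * (c : G) * x * (r * (c : G))⁻¹ = r * ((c : G) * x * (c : G)⁻¹) * r⁻¹ := by group
      have hzr : z * r = r * z := (h.comm_z r hr).symm
      rw [e1, h1]
      show r * (y * z) * r⁻¹ = y
      calc r * (y * z) * r⁻¹ = (r * y) * z * r⁻¹ := by group
        _ = y * r * (z * z) * r⁻¹ := by rw [hry]; group
        _ = y := by rw [h.z_sq]; group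

/-- elements of full support are conjugate to `z` -/
theorem conj_of_full [Finite G] (inp : Input p.lz) {x : G} (hx : x ∈ Q)
    (hfx : ∀ k, phi inp (p.lz.pr ⟨x, hx⟩) k ≠ 0) : ∃ g : G, g * z * g⁻¹ = x := by
  obtain ⟨c, -, hc⟩ := conj_full inp p.a_mem hx (full_phi p inp) hfx
  obtain ⟨g, hg, -⟩ := p.isConj
  refine ⟨c * g, ?_⟩
  rw [← hc, ← hg]
  group

/-- a fused element of `Q` other than `z` gives a pair -/
theorem exists_pair {h : Large Q z} {g x : G} (hx : x ∈ Q) (hg : g * z * g⁻¹ = x) (hne : x ≠ z) :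
    Pair Q z (Q.map (MulAut.conj g).toMonoidHom) x := by
  subst hg
  exact pair_of_conj h hx hne

/-- fused elements of `Q` other than `z` have full support -/
theorem full_of_conj [Finite G] {h : Large Q z} (inp : Input h) {g x : G} (hx : x ∈ Q)
    (hg : g * z * g⁻¹ = x) (hne : x ≠ z) (k : Fin 4) : phi inp (h.pr ⟨x, hx⟩) k ≠ 0 :=
  full_phi (exists_pair (h := h) hx hg hne) inp k

end Cfsg.Agent.TypeD4Three.Local

private theorem dce_7c10d3f20ca3 : _root_.True := by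
  try have : _root_.True := by simp only [_root_.Cfsg.Agent.TypeD4Three.Local.cs.eq_1]
  exact _root_.True.intro
end

-- part: TypeD4Three/LocalStar
section
prune_inst 0x20000410402200000000000202001c468e000192004b000000200a4006c80e0060050621b4600410001284540030000002000010406000000a008a0041180080040212020040a000000000000804000000000000000000000000000000000000000000000
set_option linter.all false
open scoped Cfsg.Agent.FastGrp

/-!
# S1763, case [P] : the input of helper948's (*) (helper951)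

`frame hA : StarFrame.Frame p.lz` and `hyp hA : StarEdge.Hyp (frame hA)`; `inner_invol` : an involution of
`C1 - Q` is in `z^G` or its product with `z` is.
-/

set_option autoImplicit false

namespace Cfsg.Agent.TypeD4Three.LocalStar

open Cfsg.Agent.Co2Type.Quad Cfsg.Agent.TypeD4Three.Coords Cfsg.Agent.LargeExtra.Base
open Cfsg.Agent.TypeD4Three.Local Cfsg.Agent.LargeExtra.KillNine

variable {G : Type*} [Group G] {Q A : Subgroup G} {z a : G} (p : Pair Q z A a)
variable {f f' : p.lz.V ≃ₗ[ZMod 2] p.lz.V} {π π' : Equiv.Perm (Fin 4)} {g g' : Fin 4 → Equiv.Perm W}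

theorem phi_sum_v (inp : Input p.lz) : phi inp (∑ k, inp.v k) = fun _ => (0, 1) := by
  have h1 := phi_comb p inp (fun _ => 0) 1
  simpa using h1

theorem sum_v_mem {inp : Input p.lz} (hA : Adapted p inp) : ∑ k, inp.v k ∈ p.D := by
  rw [hA.D, phi_sum_v p inp]
  exact ⟨fun _ => rfl, by decide⟩

theorem sign_RP_pow (n : ℕ) : Equiv.Perm.sign (RP ^ n) = 1 := by
  rw [map_pow, sign_RP, one_pow]

theorem sign_of : ∀ g : Equiv.Perm W, Lin g → g (1, 0) = (1, 0) →
    Equiv.Perm.sign g = if (g (0, 1)).1 = 0 then 1 else -1 := by decide +kernel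

theorem prod_of : ∀ x : Fin 4 → ZMod 2, ∑ k, x k = 0 → ∏ k, (if x k = 0 then (1 : ℤˣ) else -1) = 1 := by
  decide +kernel

/-- the orientation is preserved -/
theorem even_rep {inp : Input p.lz} (hA : Adapted p inp) (hf : f ∈ p.H) (H : Rep inp f π g) :
    ∏ k, Equiv.Perm.sign (g k) = 1 := by
  have hva : ∀ k, phi inp p.va k = (1, 0) := fun k => by rw [hA.va]
  have hfull : ∀ k, phi inp (f p.va) k ≠ 0 := by
    intro k
    obtain ⟨j, rfl⟩ := π.surjective k
    rw [H.2, hva]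
    exact (H.1 j).ne (by decide)
  obtain ⟨n, hn⟩ := exists_xin inp hfull (fun k => by rw [hva]; decide : ∀ k, phi inp p.va k ≠ 0)
  have heH : xin inp n * f ∈ p.H := mul_mem (xin_mem inp n) hf
  have hev : (xin inp n * f) p.va = p.va := hn
  have hD := p.D_inv heH hev (sum_v_mem p hA)
  have hR := (rep_xin inp n).mul H
  rw [hA.D] at hD
  have h10 : ∀ k, (RP ^ n (π k) * g k) (1, 0) = (1, 0) := by
    intro k
    have h1 := hR.2 p.va k
    rw [hev, hva, hva] at h1
    exact h1.symm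
  have h01 : ∀ k, phi inp ((xin inp n * f) (∑ k, inp.v k)) (π k) = (RP ^ n (π k) * g k) (0, 1) := by
    intro k
    have h1 := hR.2 (∑ k, inp.v k) k
    rw [phi_sum_v p inp] at h1
    exact h1
  have h2 : ∑ k, ((RP ^ n (π k) * g k) (0, 1)).1 = 0 := by
    have h5 := hD.2
    rw [← Equiv.sum_comp π] at h5
    refine Eq.trans ?_ h5
    exact Finset.sum_congr rfl fun k _ => by rw [h01]
  have h3 : ∀ k, Equiv.Perm.sign (g k) = if ((RP ^ n (π k) * g k) (0, 1)).1 = 0 then 1 else -1 := by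
    intro k
    have h4 := sign_of (RP ^ n (π k) * g k) (hR.1 k) (h10 k)
    rw [Equiv.Perm.sign_mul, sign_RP_pow, one_mul] at h4
    exact h4
  rw [Finset.prod_congr rfl fun k _ => h3 k]
  exact prod_of _ h2

theorem exists_rep_act (inp : Input p.lz) (c : Subgroup.centralizer ({z} : Set G)) :
    ∃ π g, Rep inp (p.lz.act c) π g := exists_rep inp ⟨c, rfl⟩

/-- the frame of helper948 -/
noncomputable def frame {inp : Input p.lz} (hA : Adapted p inp) : StarFrame.Frame p.lz where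
  φ := phiE inp
  hb := b_eq inp
  π c := (exists_rep_act p inp c).choose
  g c := (exists_rep_act p inp c).choose_spec.choose
  gadd c := (exists_rep_act p inp c).choose_spec.choose_spec.1
  hact c := (exists_rep_act p inp c).choose_spec.choose_spec.2
  even c := even_rep p hA ⟨c, rfl⟩ (exists_rep_act p inp c).choose_spec.choose_spec

theorem rep_frame {inp : Input p.lz} (hA : Adapted p inp) (c : Subgroup.centralizer ({z} : Set G)) :
    Rep inp (p.lz.act c) ((frame p hA).π c) ((frame p hA).g c) :=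
  (exists_rep_act p inp c).choose_spec.choose_spec

theorem V4_iff : ∀ π : Equiv.Perm (Fin 4), π ∈ V4 ↔ StarModel.isV π := by decide +kernel

theorem eq_TP_of : ∀ g : Equiv.Perm W, Lin g → g (1, 0) = (1, 0) →
    g = if Equiv.Perm.sign g = 1 then TP 0 else TP 1 := by decide +kernel

/-- the elements of `X` -/
theorem mem_X_iff' [Finite G] {inp : Input p.lz} (hA : Adapted p inp) (f : p.lz.V ≃ₗ[ZMod 2] p.lz.V) :
    f ∈ p.X ↔ ∃ π g, Rep inp f π g ∧ StarModel.isV π ∧
      (∀ k l, Equiv.Perm.sign (g k) = Equiv.Perm.sign (g l)) ∧ f p.va = p.va := by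
  rw [X_iff_rep p hA]
  constructor
  · rintro ⟨π, hπ, e, H⟩
    refine ⟨π, _, H, (V4_iff π).1 hπ, fun _ _ => rfl, ?_⟩
    apply phi_inj inp
    funext k
    obtain ⟨j, rfl⟩ := π.surjective k
    rw [H.2, hA.va]
    have key : ∀ e, TP e (1, 0) = (1, 0) := by decide
    exact key e
  · rintro ⟨π, g, H, hπ, hs, hv⟩
    have h10 : ∀ k, g k (1, 0) = (1, 0) := by
      intro k
      have h1 := H.2 p.va k
      rw [hv, hA.va] at h1
      exact h1.symm
    refine ⟨π, (V4_iff π).2 hπ, if Equiv.Perm.sign (g 0) = 1 then 0 else 1, ?_⟩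
    have hg : g = fun _ => TP (if Equiv.Perm.sign (g 0) = 1 then 0 else 1) := by
      funext k
      rw [eq_TP_of (g k) (H.1 k) (h10 k), hs k 0]
      split_ifs <;> rfl
    rwa [← hg]

/-- the elements of `X` for any pair -/
theorem mem_X_iff [Finite G] {inp : Input p.lz} (hA : Adapted p inp) {A' : Subgroup G} {a' : G}
    (p' : Pair Q z A' a') (f : p.lz.V ≃ₗ[ZMod 2] p.lz.V) :
    f ∈ p'.X ↔ ∃ π g, Rep inp f π g ∧ StarModel.isV π ∧
      (∀ k l, Equiv.Perm.sign (g k) = Equiv.Perm.sign (g l)) ∧ f p'.va = p'.va := by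
  obtain ⟨n, hn⟩ := exists_xin inp (full_phi p inp) (full_phi p' inp)
  have hx : f ∈ p'.X ↔ (xin inp n)⁻¹ * f * xin inp n ∈ p.X := by
    constructor
    · intro hf
      have h1 := PairConj.mem_X_of_orbit p' p (inv_mem (xin_mem inp n)) (by
        rw [← hn]; exact ((xin inp n).symm_apply_apply _).symm) hf
      rwa [inv_inv] at h1
    · intro hf
      have h1 := PairConj.mem_X_of_orbit p p' (xin_mem inp n) hn.symm hf
      have e : xin inp n * ((xin inp n)⁻¹ * f * xin inp n) * (xin inp n)⁻¹ = f := by group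
      rwa [e] at h1
  rw [hx, mem_X_iff' p hA]
  have hR := rep_xin inp n
  have hsg : ∀ (π : Equiv.Perm (Fin 4)) (g : Fin 4 → Equiv.Perm W), (∀ k l,
      Equiv.Perm.sign (g k) = Equiv.Perm.sign (g l)) → ∀ (m m' : Fin 4 → ℕ) (k l : Fin 4),
      Equiv.Perm.sign ((RP ^ m k)⁻¹ * g k * RP ^ m' k) = Equiv.Perm.sign ((RP ^ m l)⁻¹ * g l * RP ^ m' l) := by
    intro π g hg m m' k l
    rw [Equiv.Perm.sign_mul, Equiv.Perm.sign_mul, Equiv.Perm.sign_mul, Equiv.Perm.sign_mul,
      Equiv.Perm.sign_inv, Equiv.Perm.sign_inv, sign_RP_pow, sign_RP_pow, sign_RP_pow, sign_RP_pow, hg k l]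
  constructor
  · rintro ⟨π, g, H, hπ, hs, hv⟩
    have h1 := (hR.mul H).mul hR.inv
    have e : xin inp n * ((xin inp n)⁻¹ * f * xin inp n) * (xin inp n)⁻¹ = f := by group
    rw [e] at h1
    refine ⟨_, _, h1, ?_, ?_, ?_⟩
    · have e2 : 1 * π * (1 : Equiv.Perm (Fin 4))⁻¹ = π := by group
      rw [e2]; exact hπ
    · intro k l
      show Equiv.Perm.sign (RP ^ n (π k) * g k * (RP ^ n k)⁻¹) =
        Equiv.Perm.sign (RP ^ n (π l) * g l * (RP ^ n l)⁻¹)
      rw [Equiv.Perm.sign_mul, Equiv.Perm.sign_mul, Equiv.Perm.sign_mul, Equiv.Perm.sign_mul,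
        Equiv.Perm.sign_inv, Equiv.Perm.sign_inv, sign_RP_pow, sign_RP_pow, sign_RP_pow, sign_RP_pow, hs k l]
    · have h2 : xin inp n (((xin inp n)⁻¹ * f * xin inp n) p.va) = xin inp n p.va := by rw [hv]
      rw [hn] at h2
      have h3 : xin inp n (((xin inp n)⁻¹ * f * xin inp n) p.va) = f (xin inp n p.va) :=
        (xin inp n).apply_symm_apply _
      rw [h3, hn] at h2
      exact h2
  · rintro ⟨π, g, H, hπ, hs, hv⟩
    have h1 := (hR.inv.mul H).mul hR
    refine ⟨_, _, h1, ?_, ?_, ?_⟩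
    · have e2 : (1 : Equiv.Perm (Fin 4))⁻¹ * π * 1 = π := by group
      rw [e2]; exact hπ
    · intro k l
      show Equiv.Perm.sign ((RP ^ n (π k))⁻¹ * g k * RP ^ n k) =
        Equiv.Perm.sign ((RP ^ n (π l))⁻¹ * g l * RP ^ n l)
      rw [Equiv.Perm.sign_mul, Equiv.Perm.sign_mul, Equiv.Perm.sign_mul, Equiv.Perm.sign_mul,
        Equiv.Perm.sign_inv, Equiv.Perm.sign_inv, sign_RP_pow, sign_RP_pow, sign_RP_pow, sign_RP_pow, hs k l]
    · show (xin inp n)⁻¹ (f (xin inp n p.va)) = p.va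
      rw [hn, hv, ← hn]
      exact (xin inp n).symm_apply_apply _

/-- `C1` in terms of representations -/
theorem mem_C1_iff {inp : Input p.lz} (hA : Adapted p inp) {u : G} (hu : u ∈ Subgroup.centralizer ({z} : Set G)) :
    u ∈ (frame p hA).C1 ↔ ∃ π g, Rep inp (p.lz.act ⟨u, hu⟩) π g ∧ StarModel.isV π ∧
      (∀ k l, Equiv.Perm.sign (g k) = Equiv.Perm.sign (g l)) := by
  rw [StarFrame.Frame.mem_C1]
  constructor
  · rintro ⟨h, h1, h2⟩
    exact ⟨_, _, rep_frame p hA ⟨u, h⟩, h1, h2⟩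
  · rintro ⟨π, g, H, h1, h2⟩
    obtain ⟨e1, e2⟩ := (rep_frame p hA ⟨u, hu⟩).unique H
    refine ⟨hu, ?_, ?_⟩
    · rw [e1]; exact h1
    · intro k l
      show Equiv.Perm.sign ((frame p hA).g ⟨u, hu⟩ k) = Equiv.Perm.sign ((frame p hA).g ⟨u, hu⟩ l)
      rw [e2]
      exact h2 k l

/-- (F2) -/
theorem edge [Finite G] {inp : Input p.lz} (hA : Adapted p inp) {A' : Subgroup G} {a' : G}
    (p' : Pair Q z A' a') {u : G} (huz : u * z = z * u) (hua : u * a' = a' * u) :
    u ∈ (frame p hA).C1 ↔ ∃ x ∈ A', ∃ y ∈ Q, x * z = z * x ∧ y * a' = a' * y ∧ u = x * y := by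
  have huC : u ∈ Subgroup.centralizer ({z} : Set G) := Subgroup.mem_centralizer_singleton_iff.2 huz
  have hva : p.lz.act ⟨u, huC⟩ p'.va = p'.va := by
    show p.lz.act ⟨u, huC⟩ (p.lz.pr ⟨a', p'.a_mem⟩) = p.lz.pr ⟨a', p'.a_mem⟩
    rw [p.lz.act_pr]
    congr 1
    apply Subtype.ext
    show u * a' * u⁻¹ = a'
    rw [hua, mul_inv_cancel_right]
  rw [mem_C1_iff p hA huC]
  constructor
  · rintro ⟨π, g, H, h1, h2⟩
    have hX : p.lz.act ⟨u, huC⟩ ∈ p'.X := (mem_X_iff p hA p' _).2 ⟨π, g, H, h1, h2, hva⟩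
    obtain ⟨x, hx, hxu⟩ := p'.mem_X.1 hX
    have h3 : (x⁻¹ * ⟨u, huC⟩ : Subgroup.centralizer ({z} : Set G)) ∈ p.lz.act.ker := by
      rw [MonoidHom.mem_ker, map_mul, map_inv]
      have hxu' : p.lz.act x = p.lz.act ⟨u, huC⟩ := hxu
      rw [hxu', inv_mul_cancel]
    have h4 : (x : G)⁻¹ * u ∈ Q := p.lz.mem_of_act _ h3
    refine ⟨x, hx, _, h4, Subgroup.mem_centralizer_singleton_iff.1 x.2, ?_, ?_⟩
    · have hxa : (x : G)⁻¹ * a' = a' * (x : G)⁻¹ := (p'.la.commz hx).inv_left.eq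
      rw [mul_assoc, hua, ← mul_assoc, hxa, mul_assoc]
    · group
  · rintro ⟨x, hx, y, hy, hxz, -, rfl⟩
    have hxC : x ∈ Subgroup.centralizer ({z} : Set G) := Subgroup.mem_centralizer_singleton_iff.2 hxz
    have hyC : y ∈ Subgroup.centralizer ({z} : Set G) :=
      Subgroup.mem_centralizer_singleton_iff.2 (p.lz.comm_z y hy)
    have e : (⟨x * y, huC⟩ : Subgroup.centralizer ({z} : Set G)) = ⟨x, hxC⟩ * ⟨y, hyC⟩ := rfl
    have h1 : p.lz.act ⟨x * y, huC⟩ = p.lz.act ⟨x, hxC⟩ := by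
      rw [e, map_mul, p.lz.act_mem ⟨y, hyC⟩ hy, mul_one]
    rw [h1]
    have hX : p.lz.act ⟨x, hxC⟩ ∈ p'.X := p'.mem_X.2 ⟨⟨x, hxC⟩, hx, rfl⟩
    obtain ⟨π, g, H, h2, h3, -⟩ := (mem_X_iff p hA p' _).1 hX
    exact ⟨π, g, H, h2, h3⟩

/-- an involution of `N` fixes a vector of full support -/
theorem exists_fixed {inp : Input p.lz} (H : Rep inp f π g) (hπ : StarModel.isV π)
    (hs : ∀ k l, Equiv.Perm.sign (g k) = Equiv.Perm.sign (g l)) (hff : f * f = 1) (hf1 : f ≠ 1) :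
    ∃ w, f w = w ∧ ∀ k, phi inp w k ≠ 0 := by
  have h2 := (H.mul H)
  rw [hff] at h2
  obtain ⟨e1, e2⟩ := h2.unique rep_one
  have hgg : ∀ k, g (π k) * g k = 1 := fun k => congrFun e2 k
  have hpp : ∀ k, π (π k) = k := fun k => congrFun (congrArg DFunLike.coe e1) k
  obtain ⟨c, hc, hgc⟩ : ∃ c : Fin 4 → W, (∀ k, c k ≠ 0) ∧ ∀ k, g k (c k) = c (π k) := by
    by_cases hp : π = 1
    · subst hp
      rcases sign_cases (g 0) with h0 | h0
      · exfalso
        apply hf1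
        have hg : g = 1 := by
          funext k
          exact w5 _ (H.1 k) (by rw [hs k 0, h0]) (hgg k)
        rw [hg] at H
        exact H.ext rep_one
      · choose c hc hc' using fun k => w4 (g k) (H.1 k) (by rw [hs k 0, h0])
        exact ⟨c, hc, hc'⟩
    · have hfp : ∀ k, π k ≠ k := by
        rcases hπ.2 with h3 | h3
        · exact absurd h3 hp
        · exact h3
      refine ⟨fun k => if k < π k then (1, 0) else g (π k) (1, 0), fun k => ?_, fun k => ?_⟩
      · show (if k < π k then ((1, 0) : W) else g (π k) (1, 0)) ≠ 0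
        split_ifs
        · decide
        · exact (H.1 _).ne (by decide)
      · show g k (if k < π k then ((1, 0) : W) else g (π k) (1, 0)) =
          if π k < π (π k) then ((1, 0) : W) else g (π (π k)) (1, 0)
        rw [hpp]
        by_cases hk : k < π k
        · rw [if_pos hk, if_neg (not_lt.2 hk.le)]
        · have hk' : π k < k := lt_of_le_of_ne (not_lt.1 hk) (hfp k)
          rw [if_neg hk, if_pos hk']
          have h4 := hgg (π k)
          rw [hpp] at h4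
          exact congrFun (congrArg DFunLike.coe h4) (1, 0)
  refine ⟨psi inp c, ?_, fun k => by rw [phi_psi]; exact hc k⟩
  apply phi_inj inp
  funext k
  obtain ⟨j, rfl⟩ := π.surjective k
  rw [H.2, phi_psi, hgc]

/-- `V` is free under every nontrivial element of `X` -/
theorem free {inp : Input p.lz} {e : ZMod 2} (H : Rep inp f π (fun _ => TP e)) (hπ : StarModel.isV π)
    (hf1 : f ≠ 1) {w : p.lz.V} (hw : f w = w) : ∃ r, w = f r + r := by
  have hpp : ∀ k, π (π k) = k := fun k => congrFun (congrArg DFunLike.coe hπ.1) k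
  have hfix : ∀ k, TP e (phi inp w k) = phi inp w (π k) := by
    intro k
    rw [← H.2 w k, hw]
  by_cases hp : π = 1
  · subst hp
    have he : e = 1 := by
      by_contra he
      have h0 : e = 0 := by
        have : ∀ x : ZMod 2, x ≠ 1 → x = 0 := by decide
        exact this e he
      subst h0
      apply hf1
      have : (fun _ => TP 0 : Fin 4 → Equiv.Perm W) = 1 := by
        funext k
        show TP 0 = 1
        decide
      rw [this] at H
      exact H.ext rep_one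
    subst he
    refine ⟨psi inp (fun k => (0, (phi inp w k).1)), ?_⟩
    apply phi_inj inp
    funext k
    have h1 := H.2 (psi inp (fun k => (0, (phi inp w k).1))) k
    rw [phi_add, Pi.add_apply]
    rw [phi_psi] at h1
    have h2 : phi inp (f (psi inp fun k => (0, (phi inp w k).1))) k = TP 1 (0, (phi inp w k).1) := h1
    rw [h2, phi_psi]
    have h3 : TP 1 (phi inp w k) = phi inp w k := hfix k
    have key : ∀ x : W, TP 1 x = x → x = TP 1 (0, x.1) + (0, x.1) := by decide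
    exact key _ h3
  · have hfp : ∀ k, π k ≠ k := by
      rcases hπ.2 with h3 | h3
      · exact absurd h3 hp
      · exact h3
    refine ⟨psi inp (fun k => if k < π k then phi inp w k else 0), ?_⟩
    apply phi_inj inp
    funext k
    rw [phi_add, Pi.add_apply, phi_psi]
    have h1 := H.2 (psi inp (fun k => if k < π k then phi inp w k else 0)) (π k)
    rw [hpp, phi_psi] at h1
    rw [h1]
    show phi inp w k = TP e (if π k < π (π k) then phi inp w (π k) else 0) +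
      if k < π k then phi inp w k else 0
    rw [hpp]
    by_cases hk : k < π k
    · rw [if_neg (not_lt.2 hk.le), if_pos hk]
      have : TP e 0 = 0 := (lin_TP e).zero
      rw [this, zero_add]
    · have hk' : π k < k := lt_of_le_of_ne (not_lt.1 hk) (hfp k)
      rw [if_pos hk', if_neg hk, add_zero, hfix, hpp]

/-- a nontrivial element of `X` moves an element of `D̃` -/
theorem exists_moved {inp : Input p.lz} (hA : Adapted p inp) {e : ZMod 2}
    (H : Rep inp f π (fun _ => TP e)) (hf1 : f ≠ 1) : ∃ d ∈ p.D, f d ≠ d := by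
  by_contra hcon
  push Not at hcon
  apply hf1
  have he : e = 0 := by
    have h1 := H.2 (∑ k, inp.v k) 0
    rw [hcon _ (sum_v_mem p hA), phi_sum_v p inp] at h1
    have key : ∀ e : ZMod 2, ((0, 1) : W) = TP e (0, 1) → e = 0 := by decide
    exact key e h1
  have hp : π = 1 := by
    have h10' : ∀ e, TP e (1, 0) = (1, 0) := by decide
    have h10 := h10' e
    have hD : ∀ i j : Fin 4, i ≠ j → ∀ l, (π l = i ∨ π l = j) ↔ (l = i ∨ l = j) := by
      intro i j hij l
      have hm : inp.u i + inp.u j ∈ p.D := by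
        rw [hA.D]
        constructor
        · intro k
          rw [phi_pair p inp hij, phi_pair p inp hij]
          split_ifs <;> rfl
        · simp only [phi_pair p inp hij]
          exact pair_sum i j hij
      have h1 := H.2 (inp.u i + inp.u j) l
      rw [hcon _ hm, phi_pair p inp hij, phi_pair p inp hij] at h1
      by_cases h4 : π l = i ∨ π l = j <;> by_cases h5 : l = i ∨ l = j
      · simp only [h4, h5]
      · rw [if_pos h4, if_neg h5, (lin_TP e).zero] at h1; exact absurd h1 (by decide)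
      · rw [if_neg h4, if_pos h5, h10] at h1; exact absurd h1 (by decide)
      · simp only [h4, h5]
    have key : ∀ π : Equiv.Perm (Fin 4),
        (∀ i j : Fin 4, i ≠ j → ∀ l, (π l = i ∨ π l = j) ↔ (l = i ∨ l = j)) → π = 1 := by
      decide +kernel
    exact key π hD
  subst hp he
  have : (fun _ => TP 0 : Fin 4 → Equiv.Perm W) = 1 := by
    funext k
    show TP 0 = 1
    decide
  rw [this] at H
  exact H.ext rep_one

/-- the Q-part: `w = x q` with `x ∈ A'`, `w² = 1`, is conjugate under `Q` into `A'` -/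
theorem conj_into [Finite G] (inp : Input p.lz) {w x : G} (hxA : x ∈ A) (hxz : x * z = z * x)
    (hq : x⁻¹ * w ∈ Q) (hww : w * w = 1) (hx1 : x ∉ Q) :
    ∃ r ∈ Q, r⁻¹ * w * r ∈ A := by
  have hxC : x ∈ Subgroup.centralizer ({z} : Set G) := Subgroup.mem_centralizer_singleton_iff.2 hxz
  set f := p.lz.act ⟨x, hxC⟩ with hf
  have hfX : f ∈ p.X := p.mem_X.2 ⟨⟨x, hxC⟩, hxA, rfl⟩
  have hf1 : f ≠ 1 := fun h => hx1 (p.lz.mem_of_act ⟨x, hxC⟩ h)
  obtain ⟨inp', -, hA⟩ := exists_adapted p inp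
  obtain ⟨π, hπ, e, H⟩ := (X_iff_rep p hA f).1 hfX
  rw [V4_iff] at hπ
  set q := x⁻¹ * w with hqd
  have hw : w = x * q := by rw [hqd]; group
  have hff : ∀ v, f (f v) = v := fun v => by
    have := p.X_sq hfX
    exact congrArg (fun F : p.lz.V ≃ₗ[ZMod 2] p.lz.V => F v) this
  have hact : ∀ (y : Q) (hy : x * y * x⁻¹ ∈ Q), f (p.lz.pr y) = p.lz.pr ⟨x * y * x⁻¹, hy⟩ := by
    intro y hy
    rw [hf, p.lz.act_pr]
    rfl
  have hconj : ∀ y : G, y ∈ Q → x * y * x⁻¹ ∈ Q := fun y hy => p.lz.conj_mem x hxz y hy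
  -- the square
  have hxx : x * x ∈ Q ∧ (x * x = 1 ∨ x * x = a) := by
    rcases p.la.sq x hxA with h1 | h1
    · exact ⟨by rw [h1]; exact Q.one_mem, Or.inl h1⟩
    · exact ⟨by rw [h1]; exact p.a_mem, Or.inr h1⟩
  have hfq : f (p.lz.pr ⟨q, hq⟩) = p.lz.pr ⟨q, hq⟩ ∨ f (p.lz.pr ⟨q, hq⟩) = p.lz.pr ⟨q, hq⟩ + p.va := by
    have h1 : p.lz.pr (⟨x * q * x⁻¹, hconj q hq⟩ * ⟨x * x, hxx.1⟩ * ⟨q, hq⟩) = 0 := by
      rw [p.lz.pr_eq_zero]
      left
      show x * q * x⁻¹ * (x * x) * q = 1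
      rw [← hww, hw]; group
    rw [p.lz.pr_mul, p.lz.pr_mul, ← hact ⟨q, hq⟩] at h1
    have h2 : p.lz.pr ⟨x * x, hxx.1⟩ = 0 ∨ p.lz.pr ⟨x * x, hxx.1⟩ = p.va := by
      rcases hxx.2 with h3 | h3
      · left; exact p.lz.pr_eq_zero.2 (Or.inl h3)
      · right
        show p.lz.pr ⟨x * x, hxx.1⟩ = p.lz.pr ⟨a, p.a_mem⟩
        congr 1
        exact Subtype.ext h3
    rcases h2 with h3 | h3
    · left
      rw [h3, add_zero] at h1
      exact eq_of_sub_eq_zero (by rw [sub_eq_add_neg, p.lz.neg_eq]; exact h1)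
    · right
      rw [h3] at h1
      have h4 : f (p.lz.pr ⟨q, hq⟩) + (p.lz.pr ⟨q, hq⟩ + p.va) = 0 := by
        rw [← h1]; abel
      exact eq_of_sub_eq_zero (by rw [sub_eq_add_neg, p.lz.neg_eq]; exact h4)
  -- correct by an element of `D`
  obtain ⟨d, hdD, hd⟩ : ∃ d ∈ p.D, f (p.lz.pr ⟨q, hq⟩ + d) = p.lz.pr ⟨q, hq⟩ + d := by
    rcases hfq with h1 | h1
    · exact ⟨0, p.D.zero_mem, by rw [add_zero, h1]⟩
    · obtain ⟨d, hd, hdm⟩ := exists_moved p hA H hf1
      refine ⟨d, hd, ?_⟩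
      have h2 : f d = d + p.va := by
        rcases p.X_D hfX hd with h3 | h3
        · exact absurd h3 hdm
        · exact h3
      rw [map_add, h1, h2]
      have := p.lz.add_self p.va
      calc p.lz.pr ⟨q, hq⟩ + p.va + (d + p.va) = p.lz.pr ⟨q, hq⟩ + d + (p.va + p.va) := by abel
        _ = _ := by rw [this, add_zero]
  obtain ⟨r', hr'⟩ := free p H hπ hf1 hd
  obtain ⟨r, rfl⟩ := p.lz.pr_surjective r'
  obtain ⟨d', hd'A, rfl⟩ := hdD
  -- compute
  have hxr : x⁻¹ * r * x ∈ Q := by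
    have h1 := p.lz.conj_mem x⁻¹ ((Commute.inv_left (show Commute x z from hxz)).eq) r r.2
    rwa [inv_inv] at h1
  have hfi : p.lz.pr ⟨x⁻¹ * r * x, hxr⟩ = f (p.lz.pr r) := by
    apply f.injective
    rw [hff, hact ⟨x⁻¹ * r * x, hxr⟩ (by
      show x * (x⁻¹ * r * x) * x⁻¹ ∈ Q
      have : x * (x⁻¹ * r * x) * x⁻¹ = r := by group
      rw [this]; exact r.2)]
    congr 1
    apply Subtype.ext
    show x * (x⁻¹ * r * x) * x⁻¹ = r
    group
  have h1 : p.lz.pr (⟨x⁻¹ * r * x, hxr⟩ * d' * r⁻¹) = p.lz.pr ⟨q, hq⟩ := by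
    rw [p.lz.pr_mul, p.lz.pr_mul, p.lz.pr_inv, p.lz.neg_eq, hfi]
    have h2 : f (p.lz.pr r) + p.lz.pr d' + p.lz.pr r = (f (p.lz.pr r) + p.lz.pr r) + p.lz.pr d' := by abel
    rw [h2, ← hr', add_assoc, p.lz.add_self, add_zero]
  refine ⟨r, r.2, ?_⟩
  have hrz : (r : G) * z = z * r := p.lz.comm_z r r.2
  rcases p.lz.pr_eq_pr.1 h1 with h2 | h2
  · have h3 : x⁻¹ * r * x * d' * (r : G)⁻¹ = q := h2
    have h4 : (r : G)⁻¹ * w * r = x * d' := by
      rw [hw, ← h3]; group
    rw [h4]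
    exact A.mul_mem hxA hd'A
  · have h3 : x⁻¹ * r * x * d' * (r : G)⁻¹ = q * z := h2
    have h3' : q = x⁻¹ * r * x * d' * (r : G)⁻¹ * z := by rw [h3, mul_assoc, p.lz.z_sq, mul_one]
    have h4 : (r : G)⁻¹ * w * r = x * d' * z := by
      rw [hw, h3']
      calc (r : G)⁻¹ * (x * (x⁻¹ * r * x * d' * (r : G)⁻¹ * z)) * r
          = x * d' * (r : G)⁻¹ * (z * r) := by group
        _ = x * d' * (r : G)⁻¹ * (r * z) := by rw [hrz]
        _ = _ := by group
    rw [h4]
    exact A.mul_mem (A.mul_mem hxA hd'A) p.z_mem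

/-- (F3) -/
theorem invol [Finite G] {inp : Input p.lz} (hA : Adapted p inp) {w : G} (hw : w ∈ (frame p hA).C1)
    (hww : w * w = 1) (hwQ : w ∉ Q) : ∃ (A' : Subgroup G) (a' : G), Pair Q z A' a' ∧ w ∈ A' := by
  have hwz := (frame p hA).C1_comm hw
  have hwC : w ∈ Subgroup.centralizer ({z} : Set G) := Subgroup.mem_centralizer_singleton_iff.2 hwz
  obtain ⟨π, g, H, h1, h2⟩ := (mem_C1_iff p hA hwC).1 hw
  have hff : p.lz.act ⟨w, hwC⟩ * p.lz.act ⟨w, hwC⟩ = 1 := by
    rw [← map_mul]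
    have : (⟨w, hwC⟩ * ⟨w, hwC⟩ : Subgroup.centralizer ({z} : Set G)) = 1 := Subtype.ext hww
    rw [this, map_one]
  have hf1 : p.lz.act ⟨w, hwC⟩ ≠ 1 := fun h => hwQ (p.lz.mem_of_act ⟨w, hwC⟩ h)
  obtain ⟨v, hv, hfull⟩ := exists_fixed p H h1 h2 hff hf1
  obtain ⟨x0, rfl⟩ := p.lz.pr_surjective v
  obtain ⟨g0, hg0⟩ := conj_of_full p inp x0.2 hfull
  have hx0z : (x0 : G) ≠ z := by
    intro h
    apply hfull 0
    rw [p.lz.pr_eq_zero.2 (Or.inr h), phi_zero]
    rfl
  have p' := exists_pair (h := p.lz) x0.2 hg0 hx0z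
  have hX : p.lz.act ⟨w, hwC⟩ ∈ p'.X := (mem_X_iff p hA p' _).2 ⟨π, g, H, h1, h2, hv⟩
  obtain ⟨x, hxA, hxw⟩ := p'.mem_X.1 hX
  have hxw' : p.lz.act x = p.lz.act ⟨w, hwC⟩ := hxw
  have h3 : (x⁻¹ * ⟨w, hwC⟩ : Subgroup.centralizer ({z} : Set G)) ∈ p.lz.act.ker := by
    rw [MonoidHom.mem_ker, map_mul, map_inv, hxw', inv_mul_cancel]
  have h4 : (x : G)⁻¹ * w ∈ Q := p.lz.mem_of_act _ h3
  have hxQ : (x : G) ∉ Q := by
    intro h
    apply hwQ
    have := Q.mul_mem h h4
    rwa [mul_inv_cancel_left] at this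
  obtain ⟨r, hr, hrw⟩ := conj_into p' inp hxA (Subgroup.mem_centralizer_singleton_iff.1 x.2) h4 hww hxQ
  have hrC : r ∈ Subgroup.centralizer ({z} : Set G) :=
    Subgroup.mem_centralizer_singleton_iff.2 (p.lz.comm_z r hr)
  exact ⟨_, _, PairConj.conj p' ⟨r, hrC⟩, PairConj.mem_map_conj.2 hrw⟩

/-- **The hypotheses of (*)**. -/
theorem hyp [Finite G] {inp : Input p.lz} (hA : Adapted p inp) : StarEdge.Hyp (frame p hA) where
  conj_of_wt4 x hx := by
    obtain ⟨g, hg⟩ := conj_of_full p inp x.2 hx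
    exact isConj_iff.2 ⟨g, hg⟩
  edge p' _ h1 h2 := edge p hA p' h1 h2
  invol h1 h2 h3 := invol p hA h1 h2 h3

end Cfsg.Agent.TypeD4Three.LocalStar
end

-- part: TypeD4Three/LocInst
section
set_option linter.all false
open scoped Cfsg.Agent.FastGrp

/-!
# S1763, case [P] : the instance of helper948's `Loc` (helper951)
-/

set_option autoImplicit false

namespace Cfsg.Agent.TypeD4Three.LocInst

open Cfsg.Agent.Co2Type.Quad Cfsg.Agent.TypeD4Three.Coords Cfsg.Agent.LargeExtra.Base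
open Cfsg.Agent.TypeD4Three.Local Cfsg.Agent.TypeD4Three.LocalStar

variable {G : Type*} [Group G] {Q A : Subgroup G} {z a : G} (p : Pair Q z A a)

/-- the support does not depend on the orientation -/
theorem supp_eq {h : Large Q z} {inp inp' : Input h}
    (hξ : ∀ k, inp'.ξ k = inp.ξ k ∨ inp'.ξ k = (inp.ξ k)⁻¹) (w : h.V) (k : Fin 4) :
    phi inp' w k = 0 ↔ phi inp w k = 0 := by
  rw [← not_iff_not, ← Ne, ← Ne, ← ne_iff, ← ne_iff]
  rcases hξ k with h | h
  · rw [h]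
  · rw [h]
    constructor
    · intro h1 h2
      apply h1
      have : (inp.ξ k)⁻¹ w = w := by
        conv_lhs => rw [← h2]
        exact (inp.ξ k).symm_apply_apply w
      exact this
    · intro h1 h2
      apply h1
      have h3 : (inp.ξ k)⁻¹ w = w := h2
      conv_lhs => rw [← h3]
      exact (inp.ξ k).apply_symm_apply w

/-- the chart of a pair -/
theorem chart [Finite G] {inp : Input p.lz} (hA : Adapted p inp) {A' : Subgroup G} {a' : G}
    (p' : Pair Q z A' a') : Nonempty (LocIface.Chart (frame p hA) p') := by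
  obtain ⟨inp', hξ, hA'⟩ := exists_adapted p' inp
  refine ⟨⟨phiE inp', b_eq inp', fun v k => supp_eq hξ v k, fun k => ?_, fun v => ?_, fun f hf => ?_⟩⟩
  · exact congrFun hA'.va k
  · rw [hA'.D]
    constructor
    · rintro ⟨h1, h2⟩
      exact ⟨fun k => (phi inp' v k).1, (phi inp' v 0).2, h2, fun k => Prod.ext rfl (h1 k)⟩
    · rintro ⟨s, e, h1, h2⟩
      have h3 : phi inp' v = fun k => (s k, e) := funext h2
      rw [h3]
      exact ⟨fun _ => rfl, h1⟩
  · obtain ⟨π, hπ, e, H⟩ := (X_iff_rep p' hA' f).1 hf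
    exact ⟨π, e, (V4_iff π).1 hπ, fun v k => H.2 v k⟩

/-- **The local facts.** -/
theorem loc [Finite G] {inp : Input p.lz} (hA : Adapted p inp) : LocIface.Loc (frame p hA) where
  q_wt v := by
    rw [q_eq inp]
    exact Finset.sum_congr rfl fun k _ => qW_eq _
  full p' k := full_phi p' inp k
  chart p' := chart p hA p'
  trans x y hx hy := by
    obtain ⟨c, -, hc⟩ := conj_full inp x.2 y.2 hx hy
    exact ⟨c, Subgroup.mem_centralizer_singleton_iff.1 c.2, hc⟩

/-- everything, from an `Input` and a pair -/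
theorem exists_all [Finite G] (inp : Input p.lz) : ∃ F : StarFrame.Frame p.lz,
    StarEdge.Hyp F ∧ LocIface.Loc F := by
  obtain ⟨inp', -, hA⟩ := exists_adapted p inp
  exact ⟨frame p hA, hyp p hA, loc p hA⟩

end Cfsg.Agent.TypeD4Three.LocInst
end

-- part: TypeD4Three/Lift
section
set_option linter.all false
open scoped Cfsg.Agent.FastGrp

/-!
# Lifting commuting elements of order three over a normal 2-subgroup (helper754)
-/

set_option autoImplicit false

namespace Cfsg.Agent.TypeD4Three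

theorem closure_comm {L ι : Type*} [Group L] {ξ : ι → L} (hcomm : ∀ k l, ξ k * ξ l = ξ l * ξ k) {a b : L}
    (ha : a ∈ Subgroup.closure (Set.range ξ)) (hb : b ∈ Subgroup.closure (Set.range ξ)) : a * b = b * a := by
  have h1 : ∀ c ∈ Subgroup.closure (Set.range ξ), ∀ k, c * ξ k = ξ k * c := by
    intro c hc k
    have : Subgroup.closure (Set.range ξ) ≤ Subgroup.centralizer {ξ k} := by
      rw [Subgroup.closure_le]
      rintro _ ⟨l, rfl⟩
      exact Subgroup.mem_centralizer_singleton_iff.2 (hcomm l k)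
    exact Subgroup.mem_centralizer_singleton_iff.1 (this hc)
  have : Subgroup.closure (Set.range ξ) ≤ Subgroup.centralizer {a} := by
    rw [Subgroup.closure_le]
    rintro _ ⟨l, rfl⟩
    exact Subgroup.mem_centralizer_singleton_iff.2 (h1 a ha l).symm
  exact (Subgroup.mem_centralizer_singleton_iff.1 (this hb)).symm

theorem closure_cube {L ι : Type*} [Group L] {ξ : ι → L} (hcomm : ∀ k l, ξ k * ξ l = ξ l * ξ k)
    (hcube : ∀ k, ξ k ^ 3 = 1) {a : L} (ha : a ∈ Subgroup.closure (Set.range ξ)) : a ^ 3 = 1 := by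
  induction ha using Subgroup.closure_induction with
  | mem x hx => obtain ⟨k, rfl⟩ := hx; exact hcube k
  | one => simp
  | mul x y hx hy h1 h2 =>
    have hc : Commute x y := closure_comm hcomm hx hy
    rw [hc.mul_pow, h1, h2, mul_one]
  | inv x _ h1 => rw [inv_pow, h1, inv_one]

theorem lift_commuting {C L ι : Type*} [Group C] [Finite C] [Group L] (f : C →* L) (hker : IsPGroup 2 f.ker)
    (ξ : ι → L) (hmem : ∀ k, ξ k ∈ f.range) (hcube : ∀ k, ξ k ^ 3 = 1) (hcomm : ∀ k l, ξ k * ξ l = ξ l * ξ k) :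
    ∃ x : ι → C, (∀ k, f (x k) = ξ k) ∧ (∀ k, x k ^ 3 = 1) ∧ ∀ k l, x k * x l = x l * x k := by
  classical
  set T := Subgroup.closure (Set.range ξ) with hT
  set P : Subgroup C := T.comap f with hP
  set g : P →* L := f.comp P.subtype with hg
  have hgr : ∀ t ∈ g.range, t ^ 3 = 1 := by
    rintro _ ⟨p, rfl⟩
    exact closure_cube hcomm hcube p.2
  have hran : IsPGroup 3 g.range := by
    intro t
    refine ⟨1, ?_⟩
    apply Subtype.ext
    have := hgr t t.2
    simpa using this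
  have hk2 : IsPGroup 2 g.ker := by
    intro p
    have hp : ((p : P) : C) ∈ f.ker := p.2
    obtain ⟨n, hn⟩ := hker ⟨_, hp⟩
    refine ⟨n, ?_⟩
    apply Subtype.ext
    apply Subtype.ext
    have := congrArg Subtype.val hn
    simpa using this
  have hfin : Finite g.range := Set.finite_range g
  obtain ⟨n, hn⟩ := IsPGroup.iff_card.1 hk2
  have h3 : Fact (Nat.Prime 3) := ⟨Nat.prime_three⟩
  obtain ⟨m, hm⟩ := IsPGroup.iff_card.1 hran
  have hcop : Nat.Coprime (Nat.card g.ker) g.ker.index := by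
    rw [Subgroup.index_ker, hn, hm]
    exact Nat.Coprime.pow _ _ (by norm_num)
  obtain ⟨H, hH⟩ := Subgroup.exists_right_complement'_of_coprime hcop
  have hdis : ∀ p : P, p ∈ H → g p = 1 → p = 1 := by
    intro p h1 h2
    have := hH.disjoint
    exact Subgroup.disjoint_def.1 this (MonoidHom.mem_ker.2 h2) h1
  have hex : ∀ k, ∃ p : P, p ∈ H ∧ g p = ξ k := by
    intro k
    obtain ⟨c, hc⟩ := hmem k
    have hcP : c ∈ P := by
      show f c ∈ T
      rw [hc]
      exact Subgroup.subset_closure ⟨k, rfl⟩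
    have htop := hH.sup_eq_top
    have : (⟨c, hcP⟩ : P) ∈ g.ker ⊔ H := by rw [htop]; trivial
    obtain ⟨a, ha, b, hb, hab⟩ := Subgroup.mem_sup_of_normal_left.1 this
    refine ⟨b, hb, ?_⟩
    have h1 : g (a * b) = ξ k := by rw [hab]; exact hc
    rw [map_mul, MonoidHom.mem_ker.1 ha, one_mul] at h1
    exact h1
  choose p hp hpξ using hex
  refine ⟨fun k => p k, hpξ, ?_, ?_⟩
  · intro k
    have := hdis (p k ^ 3) (H.pow_mem (hp k) 3) (by rw [map_pow, hpξ, hcube])
    exact congrArg (Subtype.val) this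
  · intro k l
    have h1 := hdis (p k * p l * (p l * p k)⁻¹) (H.mul_mem (H.mul_mem (hp k) (hp l)) (H.inv_mem (H.mul_mem (hp l) (hp k))))
      (by rw [map_mul, map_mul, map_inv, map_mul, hpξ, hpξ, hcomm]; group)
    have h2 : p k * p l = p l * p k := by rw [← mul_inv_eq_one]; exact h1
    exact congrArg (Subtype.val) h2

end Cfsg.Agent.TypeD4Three
end

-- part: TypeD4Three/ChevA2
section
set_option linter.all false
open scoped Cfsg.Agent.FastGrp

/-!
Elements of order three satisfying the relations of the root elements of `SL₃(3)`: the signs in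
the relations are forced, and the Weyl elements `x x'⁻¹ x` have order dividing four for all roots.
-/

set_option autoImplicit false

open scoped commutatorElement

namespace Cfsg.Agent.TypeD4Three.ChevA2

variable {G : Type*} [Group G]

/-- `g⁻¹ h⁻¹ g h = k` with `k` commuting with `g` and `h`. -/
structure Co (g h k : G) : Prop where
  eq : g⁻¹ * h⁻¹ * g * h = k
  left : Commute k g
  right : Commute k h

theorem Co.swap {g h k : G} (c : Co g h k) : Co h g k⁻¹ where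
  eq := by rw [← c.eq]; group
  left := c.right.inv_left
  right := c.left.inv_left

/-- `g h = h g k` -/
theorem Co.mul {g h k : G} (c : Co g h k) : g * h = h * g * k := by
  rw [← c.eq]; group

theorem Co.of_mul {g h k : G} (e : g * h = h * g * k) (h1 : Commute k g) (h2 : Commute k h) :
    Co g h k :=
  ⟨by rw [mul_assoc, e]; group, h1, h2⟩

theorem Co.pow_left {g h k : G} (c : Co g h k) (i : ℕ) : Co (g ^ i) h (k ^ i) := by
  refine Co.of_mul ?_ ((c.left.pow_left i).pow_right i) (c.right.pow_left i)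
  induction i with
  | zero => simp
  | succ i ih =>
    have h1 : k ^ i * g = g * k ^ i := (c.left.pow_left i).eq
    calc g ^ (i + 1) * h = g ^ i * (g * h) := by rw [pow_succ, mul_assoc]
      _ = g ^ i * (h * g * k) := by rw [c.mul]
      _ = (g ^ i * h) * g * k := by group
      _ = h * g ^ i * (k ^ i * g) * k := by rw [ih]; group
      _ = h * g ^ (i + 1) * k ^ (i + 1) := by rw [h1, pow_succ, pow_succ]; group

theorem Co.pow_right {g h k : G} (c : Co g h k) (i : ℕ) : Co g (h ^ i) (k ^ i) := by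
  have := (c.swap.pow_left i).swap
  simpa using this

theorem Co.pow {g h k : G} (c : Co g h k) (i j : ℕ) : Co (g ^ i) (h ^ j) (k ^ (i * j)) := by
  rw [pow_mul]
  exact (c.pow_left i).pow_right j

theorem Co.inv_left {g h k : G} (c : Co g h k) : Co g⁻¹ h k⁻¹ := by
  refine Co.of_mul ?_ c.left.inv_inv c.right.inv_left
  have h1 := c.mul
  have h2 : g * h * k⁻¹ = h * g := by rw [h1]; group
  have h3 : k⁻¹ * g = g * k⁻¹ := c.left.inv_left.eq
  have h4 : h * k⁻¹ = k⁻¹ * h := (c.right.inv_left.eq).symm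
  calc g⁻¹ * h = g⁻¹ * (h * g) * g⁻¹ := by group
    _ = g⁻¹ * (g * h * k⁻¹) * g⁻¹ := by rw [h2]
    _ = h * (k⁻¹ * g⁻¹) := by group
    _ = h * (g⁻¹ * k⁻¹) := by rw [c.left.inv_inv.eq]
    _ = h * g⁻¹ * k⁻¹ := by group

theorem Co.inv_right {g h k : G} (c : Co g h k) : Co g h⁻¹ k⁻¹ := by
  have := c.swap.inv_left.swap
  simpa using this

/-! ### Forced signs -/

/-- action on `b ^ i k ^ j` of `a` with `a b a⁻¹ = k b`, `a k = k a`, `b k = k b`. -/
theorem conj_up {a b k : G} (h1 : a * b * a⁻¹ = k * b) (h2 : Commute a k) (h3 : Commute b k)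
    (i j : ℤ) : a * (b ^ i * k ^ j) * a⁻¹ = b ^ i * k ^ (i + j) := by
  have e1 : a * b ^ i * a⁻¹ = b ^ i * k ^ i := by
    rw [← conj_zpow, h1, (h3.symm).mul_zpow, (h3.zpow_zpow i i).symm.eq]
  have e2 : a * k ^ j * a⁻¹ = k ^ j := by
    rw [(h2.zpow_right j).eq, mul_inv_cancel_right]
  calc a * (b ^ i * k ^ j) * a⁻¹ = (a * b ^ i * a⁻¹) * (a * k ^ j * a⁻¹) := by group
    _ = b ^ i * k ^ (i + j) := by rw [e1, e2, zpow_add, mul_assoc]

/-- action on `b ^ i k ^ j` of `a'` with `a' k a'⁻¹ = b ^ e k`, `a' b = b a'`. -/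
theorem conj_down {a b k : G} {e : ℤ} (h1 : a * k * a⁻¹ = b ^ e * k) (h2 : Commute a b)
    (h3 : Commute b k) (i j : ℤ) : a * (b ^ i * k ^ j) * a⁻¹ = b ^ (i + e * j) * k ^ j := by
  have e1 : a * b ^ i * a⁻¹ = b ^ i := by
    rw [(h2.zpow_right i).eq, mul_inv_cancel_right]
  have e2 : a * k ^ j * a⁻¹ = b ^ (e * j) * k ^ j := by
    rw [← conj_zpow, h1, (h3.zpow_left e).mul_zpow, zpow_mul]
  calc a * (b ^ i * k ^ j) * a⁻¹ = (a * b ^ i * a⁻¹) * (a * k ^ j * a⁻¹) := by group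
    _ = b ^ (i + e * j) * k ^ j := by rw [e1, e2, zpow_add]; group

theorem conj_inv_of {a x y : G} (h : a * x * a⁻¹ = y) : a⁻¹ * y * a⁻¹⁻¹ = x := by
  rw [← h]; group

/-- inverse of `conj_down` -/
theorem conj_down_inv {a b k : G} {e : ℤ} (h1 : a * k * a⁻¹ = b ^ e * k) (h2 : Commute a b)
    (h3 : Commute b k) (i j : ℤ) : a⁻¹ * (b ^ i * k ^ j) * a⁻¹⁻¹ = b ^ (i - e * j) * k ^ j := by
  apply conj_inv_of
  rw [conj_down h1 h2 h3]
  congr 2
  ring

/-- inverse of `conj_up` -/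
theorem conj_up_inv {a b k : G} (h1 : a * b * a⁻¹ = k * b) (h2 : Commute a k) (h3 : Commute b k)
    (i j : ℤ) : a⁻¹ * (b ^ i * k ^ j) * a⁻¹⁻¹ = b ^ i * k ^ (j - i) := by
  apply conj_inv_of
  rw [conj_up h1 h2 h3]
  congr 2
  ring

theorem conj_mul3 (a a' x y z w : G) (h1 : a * x * a⁻¹ = y) (h2 : a'⁻¹ * y * a'⁻¹⁻¹ = z)
    (h3 : a * z * a⁻¹ = w) : (a * a'⁻¹ * a) * x * (a * a'⁻¹ * a)⁻¹ = w := by
  rw [← h3, ← h2, ← h1]; group

/-- `n = a a'⁻¹ a` on `b ^ i k ^ j`, where `a` is "up" and `a'` is "down". -/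
theorem n_up {a a' b k : G} {e : ℤ} (u1 : a * b * a⁻¹ = k * b) (u2 : Commute a k)
    (d1 : a' * k * a'⁻¹ = b ^ e * k) (d2 : Commute a' b) (h3 : Commute b k) (i j : ℤ) :
    (a * a'⁻¹ * a) * (b ^ i * k ^ j) * (a * a'⁻¹ * a)⁻¹ =
      b ^ (i - e * (i + j)) * k ^ (i - e * (i + j) + (i + j)) :=
  conj_mul3 a a' _ _ _ _ (conj_up u1 u2 h3 i j) (conj_down_inv d1 d2 h3 i (i + j))
    (conj_up u1 u2 h3 _ _)

/-- `n = a a'⁻¹ a` on `b ^ i k ^ j`, where `a` is "down" and `a'` is "up". -/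
theorem n_down {a a' b k : G} {e : ℤ} (u1 : a' * b * a'⁻¹ = k * b) (u2 : Commute a' k)
    (d1 : a * k * a⁻¹ = b ^ e * k) (d2 : Commute a b) (h3 : Commute b k) (i j : ℤ) :
    (a * a'⁻¹ * a) * (b ^ i * k ^ j) * (a * a'⁻¹ * a)⁻¹ =
      b ^ (i + e * j + e * (j - (i + e * j))) * k ^ (j - (i + e * j)) :=
  conj_mul3 a a' _ _ _ _ (conj_down d1 d2 h3 i j) (conj_up_inv u1 u2 h3 _ _)
    (conj_down d1 d2 h3 _ _)

theorem zpow_eq_of_mod {b : G} (hb : b ^ 3 = 1) {m n : ℤ} (h : m % 3 = n % 3) : b ^ m = b ^ n := by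
  have hb' : b ^ (3 : ℤ) = 1 := by exact_mod_cast hb
  have key : ∀ m : ℤ, b ^ m = b ^ (m % 3) := by
    intro m
    conv_lhs => rw [← Int.emod_add_mul_ediv m 3, zpow_add, zpow_mul, hb', one_zpow, mul_one]
  rw [key m, key n, h]

/-- `a` of order three normalising `⟨b⟩` -/
theorem one_of_conj_sq {a b : G} (ha : a ^ 3 = 1) (hb : b ^ 3 = 1) (h : a * b * a⁻¹ = b ^ (2 : ℤ)) :
    b = 1 := by
  have h1 : ∀ m : ℤ, a * b ^ m * a⁻¹ = b ^ (2 * m) := by
    intro m; rw [← conj_zpow, h, ← zpow_mul]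
  have h2 : a ^ 3 * b * (a ^ 3)⁻¹ = b ^ (8 : ℤ) := by
    have e : a ^ 3 * b * (a ^ 3)⁻¹ = a * (a * (a * b * a⁻¹) * a⁻¹) * a⁻¹ := by
      rw [pow_succ, pow_succ, pow_one]; group
    rw [e, h, h1, h1]; norm_num
  rw [ha, one_mul, inv_one, mul_one] at h2
  have h3 : b ^ (8 : ℤ) = b ^ (2 : ℤ) := zpow_eq_of_mod hb (by norm_num)
  rw [h3] at h2
  have h4 : b ^ (2 : ℤ) = b * b := zpow_two b
  rw [h4] at h2
  exact (mul_eq_left.1 h2.symm)

theorem one_of_eq_inv {b : G} (hb : b ^ 3 = 1) (h : b = b⁻¹) : b = 1 := by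
  have h1 : b * b = 1 := by
    nth_rw 2 [h]; exact mul_inv_cancel b
  have h2 : b ^ 3 = b * b * b := by rw [pow_succ, pow_two]
  rw [h2, h1, one_mul] at hb
  exact hb

/-- The sign, "up" case. -/
theorem sign_up {a a' b k : G} {e : ℤ} (ha : a ^ 3 = 1) (hb : b ^ 3 = 1) (hk : k ^ 3 = 1)
    (u1 : a * b * a⁻¹ = k * b) (u2 : Commute a k)
    (d1 : a' * k * a'⁻¹ = b ^ e * k) (d2 : Commute a' b) (h3 : Commute b k)
    (hn : (a * a'⁻¹ * a) ^ 2 * b * ((a * a'⁻¹ * a) ^ 2)⁻¹ = b⁻¹) : b ^ e = b := by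
  have hn2 : ∀ e' : ℤ, (a' * k * a'⁻¹ = b ^ e' * k) →
      b ^ ((1 - e') - e' * ((1 - e') + (2 - e'))) *
        k ^ ((1 - e') - e' * ((1 - e') + (2 - e')) + ((1 - e') + (2 - e'))) = b⁻¹ := by
    intro e' d1'
    have s1 := n_up u1 u2 d1' d2 h3 1 0
    have s2 := n_up u1 u2 d1' d2 h3 (1 - e') (2 - e')
    rw [← hn]
    rw [zpow_one, zpow_zero, mul_one] at s1
    have e1 : (1 : ℤ) - e' * (1 + 0) = 1 - e' := by ring
    have e3 : (1 : ℤ) - e' + (1 + 0) = 2 - e' := by ring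
    rw [e1, e3] at s1
    rw [← s2, ← s1, pow_two]
    group
  have hmod : b ^ e = b ^ (e % 3) := zpow_eq_of_mod hb (by rw [Int.emod_emod])
  have hlt : e % 3 = 0 ∨ e % 3 = 1 ∨ e % 3 = 2 := by omega
  rw [hmod] at d1 ⊢
  rcases hlt with h | h | h <;> rw [h] at d1 ⊢
  · -- `e = 0`
    have h1 : b ^ (1 : ℤ) * k ^ (4 : ℤ) = b⁻¹ := hn2 0 d1
    have hk4 : k ^ (4 : ℤ) = k := by
      rw [zpow_eq_of_mod hk (show (4 : ℤ) % 3 = 1 % 3 by norm_num), zpow_one]
    rw [hk4, zpow_one] at h1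
    have hkb : k = b := by
      have h2 : k = b⁻¹ * b⁻¹ := by
        calc k = b⁻¹ * (b * k) := by group
          _ = b⁻¹ * b⁻¹ := by rw [h1]
      have h3 : b⁻¹ * b⁻¹ = b := by
        have h4 : b * b * b = 1 := by rw [← hb, pow_succ, pow_two]
        calc b⁻¹ * b⁻¹ = b⁻¹ * b⁻¹ * (b * b * b) := by rw [h4, mul_one]
          _ = b := by group
      rw [h2, h3]
    rw [hkb, ← zpow_two] at u1
    rw [one_of_conj_sq ha hb u1, one_zpow]
  · rw [zpow_one]
  · have h1 : b ^ (1 : ℤ) * k ^ (0 : ℤ) = b⁻¹ := hn2 2 d1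
    rw [zpow_one, zpow_zero, mul_one] at h1
    rw [one_of_eq_inv hb h1, one_zpow]

/-- The sign, "down" case. -/
theorem sign_down {a a' b k : G} {e : ℤ} (ha : a' ^ 3 = 1) (hb : b ^ 3 = 1) (hk : k ^ 3 = 1)
    (u1 : a' * b * a'⁻¹ = k * b) (u2 : Commute a' k)
    (d1 : a * k * a⁻¹ = b ^ e * k) (d2 : Commute a b) (h3 : Commute b k)
    (hn : (a * a'⁻¹ * a) ^ 2 * b * ((a * a'⁻¹ * a) ^ 2)⁻¹ = b⁻¹) : b ^ e = b := by
  have hn2 : ∀ e' : ℤ, (a * k * a⁻¹ = b ^ e' * k) →
      b ^ ((1 - e') + e' * (-1) + e' * (-1 - ((1 - e') + e' * (-1)))) *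
        k ^ (-1 - ((1 - e') + e' * (-1))) = b⁻¹ := by
    intro e' d1'
    have s1 := n_down u1 u2 d1' d2 h3 1 0
    have s2 := n_down u1 u2 d1' d2 h3 (1 - e') (-1)
    rw [← hn]
    rw [zpow_one, zpow_zero, mul_one] at s1
    have e1 : (1 : ℤ) + e' * 0 + e' * (0 - (1 + e' * 0)) = 1 - e' := by ring
    have e3 : (0 : ℤ) - (1 + e' * 0) = -1 := by ring
    rw [e1, e3] at s1
    rw [← s2, ← s1, pow_two]
    group
  have hmod : b ^ e = b ^ (e % 3) := zpow_eq_of_mod hb (by rw [Int.emod_emod])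
  have hlt : e % 3 = 0 ∨ e % 3 = 1 ∨ e % 3 = 2 := by omega
  have hb3 : b * b * b = 1 := by rw [← hb, pow_succ, pow_two]
  rw [hmod] at d1 ⊢
  rcases hlt with h | h | h <;> rw [h] at d1 ⊢
  · -- `e = 0`
    have h1 : b ^ (1 : ℤ) * k ^ (-2 : ℤ) = b⁻¹ := hn2 0 d1
    have hk4 : k ^ (-2 : ℤ) = k := by
      rw [zpow_eq_of_mod hk (show (-2 : ℤ) % 3 = 1 % 3 by norm_num), zpow_one]
    rw [hk4, zpow_one] at h1
    have hkb : k = b := by
      have h2 : k = b⁻¹ * b⁻¹ := by
        calc k = b⁻¹ * (b * k) := by group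
          _ = b⁻¹ * b⁻¹ := by rw [h1]
      have h3 : b⁻¹ * b⁻¹ = b := by
        calc b⁻¹ * b⁻¹ = b⁻¹ * b⁻¹ * (b * b * b) := by rw [hb3, mul_one]
          _ = b := by group
      rw [h2, h3]
    rw [hkb, ← zpow_two] at u1
    rw [one_of_conj_sq ha hb u1, one_zpow]
  · rw [zpow_one]
  · have h1 : b ^ (1 : ℤ) * k ^ (2 : ℤ) = b⁻¹ := hn2 2 d1
    -- `k = b ^ 2`
    have hk2 : k ^ (2 : ℤ) = k⁻¹ := by
      rw [zpow_eq_of_mod hk (show (2 : ℤ) % 3 = (-1) % 3 by norm_num), zpow_neg_one]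
    rw [hk2, zpow_one] at h1
    have hkb : k * b = 1 := by
      have h2 : k = b * b := by
        calc k = (b⁻¹ * (b * k⁻¹))⁻¹ := by group
          _ = (b⁻¹ * b⁻¹)⁻¹ := by rw [h1]
          _ = b * b := by rw [mul_inv_rev, inv_inv]
      rw [h2]; exact hb3
    rw [hkb] at u1
    have : b = 1 := by
      have h2 : a' * b * a'⁻¹ = 1 := u1
      calc b = a'⁻¹ * (a' * b * a'⁻¹) * a' := by group
        _ = 1 := by rw [h2]; group
    rw [this, one_zpow]

/-! ### The relations of type `A₂` -/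

/-- The relations between the generators at `1` of the root subgroups of `SL₃(3)`:
`a, a'` for the roots `±α`, `b, b'` for `±β`, `c, c'` for `±(α+β)`. -/
structure A2Sys (a a' b b' c c' : G) : Prop where
  ba : Co b a c
  ab' : Co a' b' c'
  ca' : Co c a' b
  cb' : Co c b' a⁻¹
  c'a : Co c' a b'⁻¹
  c'b : Co c' b a'
  cab' : Commute a b'
  cba' : Commute a' b

/-- The relations from which everything is derived. -/
structure A2Rel (a a' b b' : G) : Prop where
  ab' : Commute a b'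
  a'b : Commute a' b
  ka : Commute ⁅a, b⁆ a
  kb : Commute ⁅a, b⁆ b
  k3 : ⁅a, b⁆ ^ 3 = 1
  ka' : Commute ⁅a', b'⁆ a'
  kb' : Commute ⁅a', b'⁆ b'
  k'3 : ⁅a', b'⁆ ^ 3 = 1
  r1 : ∃ n : ℕ, ⁅a', ⁅a, b⁆⁆ = b ^ n
  r2 : ∃ n : ℕ, ⁅b', ⁅a, b⁆⁆ = a ^ n
  r3 : ∃ n : ℕ, ⁅a, ⁅a', b'⁆⁆ = b' ^ n
  r4 : ∃ n : ℕ, ⁅b, ⁅a', b'⁆⁆ = a' ^ n

theorem conj_of_comm {x y : G} : x * y * x⁻¹ = ⁅x, y⁆ * y := by
  rw [commutatorElement_def]; group

theorem comm_of_conj {x k : G} {b : G} {n : ℕ} (h : ⁅x, k⁆ = b ^ n) :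
    x * k * x⁻¹ = b ^ (n : ℤ) * k := by
  rw [conj_of_comm, h, zpow_natCast]

theorem comm_swap {a b : G} : ⁅b, a⁆ = ⁅a, b⁆⁻¹ := (commutatorElement_inv a b).symm

/-- `a' k a'⁻¹ = b k`, the forced form of `r1`. -/
theorem A2Rel.s1 {a a' b b' : G} (h : A2Rel a a' b b') (ha : a ^ 3 = 1) (hb : b ^ 3 = 1)
    (hn : (a * a'⁻¹ * a) ^ 2 * b * ((a * a'⁻¹ * a) ^ 2)⁻¹ = b⁻¹) :
    a' * ⁅a, b⁆ * a'⁻¹ = b * ⁅a, b⁆ := by
  obtain ⟨n, hn'⟩ := h.r1
  have d1 := comm_of_conj hn'
  rw [d1, sign_up ha hb h.k3 conj_of_comm h.ka.symm d1 h.a'b h.kb.symm hn]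

/-- `b' k b'⁻¹ = a⁻¹ k`, the forced form of `r2`. -/
theorem A2Rel.s2 {a a' b b' : G} (h : A2Rel a a' b b') (ha : a ^ 3 = 1) (hb : b ^ 3 = 1)
    (hm : (b * b'⁻¹ * b) ^ 2 * a * ((b * b'⁻¹ * b) ^ 2)⁻¹ = a⁻¹) :
    b' * ⁅a, b⁆ * b'⁻¹ = a⁻¹ * ⁅a, b⁆ := by
  obtain ⟨n, hn'⟩ := h.r2
  have d1 := comm_of_conj hn'
  have hak : Commute a ⁅a, b⁆ := h.ka.symm
  have d2 : b' * ⁅b, a⁆ * b'⁻¹ = a ^ (-(n : ℤ)) * ⁅b, a⁆ := by
    rw [comm_swap, ← conj_inv, d1, mul_inv_rev, zpow_neg]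
    exact ((hak.zpow_left (n : ℤ)).inv_inv.eq).symm
  have h3 : ⁅b, a⁆ ^ 3 = 1 := by rw [comm_swap, inv_pow, h.k3, inv_one]
  have hkb : Commute b ⁅b, a⁆ := by rw [comm_swap]; exact h.kb.symm.inv_right
  have hka : Commute a ⁅b, a⁆ := by rw [comm_swap]; exact h.ka.symm.inv_right
  have key := sign_up hb ha h3 conj_of_comm hkb d2 h.ab'.symm hka hm
  rw [d1]
  congr 1
  rw [zpow_neg] at key
  rw [← inv_inj, key, inv_inv]

/-- `a k' a⁻¹ = b' k'`, the forced form of `r3`. -/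
theorem A2Rel.s3 {a a' b b' : G} (h : A2Rel a a' b b') (ha : a' ^ 3 = 1) (hb : b' ^ 3 = 1)
    (hn : (a * a'⁻¹ * a) ^ 2 * b' * ((a * a'⁻¹ * a) ^ 2)⁻¹ = b'⁻¹) :
    a * ⁅a', b'⁆ * a⁻¹ = b' * ⁅a', b'⁆ := by
  obtain ⟨n, hn'⟩ := h.r3
  have d1 := comm_of_conj hn'
  rw [d1, sign_down ha hb h.k'3 conj_of_comm h.ka'.symm d1 h.ab' h.kb'.symm hn]

/-- `b k' b⁻¹ = a'⁻¹ k'`, the forced form of `r4`. -/
theorem A2Rel.s4 {a a' b b' : G} (h : A2Rel a a' b b') (ha : a' ^ 3 = 1) (hb : b' ^ 3 = 1)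
    (hm : (b * b'⁻¹ * b) ^ 2 * a' * ((b * b'⁻¹ * b) ^ 2)⁻¹ = a'⁻¹) :
    b * ⁅a', b'⁆ * b⁻¹ = a'⁻¹ * ⁅a', b'⁆ := by
  obtain ⟨n, hn'⟩ := h.r4
  have d1 := comm_of_conj hn'
  have hak : Commute a' ⁅a', b'⁆ := h.ka'.symm
  have d2 : b * ⁅b', a'⁆ * b⁻¹ = a' ^ (-(n : ℤ)) * ⁅b', a'⁆ := by
    rw [comm_swap, ← conj_inv, d1, mul_inv_rev, zpow_neg]
    exact ((hak.zpow_left (n : ℤ)).inv_inv.eq).symm
  have h3 : ⁅b', a'⁆ ^ 3 = 1 := by rw [comm_swap, inv_pow, h.k'3, inv_one]
  have hkb : Commute b' ⁅b', a'⁆ := by rw [comm_swap]; exact h.kb'.symm.inv_right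
  have hka : Commute a' ⁅b', a'⁆ := by rw [comm_swap]; exact h.ka'.symm.inv_right
  have key := sign_down hb ha h3 conj_of_comm hkb d2 h.a'b.symm hka hm
  rw [d1]
  congr 1
  rw [zpow_neg] at key
  rw [← inv_inj, key, inv_inv]

/-- `x k x⁻¹ = y k` with `y` commuting with `x` and `k`. -/
theorem Co.of_conj {x k y : G} (h : x * k * x⁻¹ = y * k) (h1 : Commute y x) (h2 : Commute y k) :
    Co k x y⁻¹ := by
  refine Co.of_mul ?_ h2.inv_left h1.inv_left
  have h3 : x * k = y * k * x := by rw [← h]; group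
  rw [h3]
  calc k * x = y * (y⁻¹ * (k * x)) := by group
    _ = y * ((k * x) * y⁻¹) := by rw [((h2.mul_right h1).inv_left).eq]
    _ = y * k * x * y⁻¹ := by group

theorem A2Rel.sys {a a' b b' : G} (h : A2Rel a a' b b') (ha : a ^ 3 = 1) (ha' : a' ^ 3 = 1)
    (hb : b ^ 3 = 1) (hb' : b' ^ 3 = 1)
    (n1 : (a * a'⁻¹ * a) ^ 2 * b * ((a * a'⁻¹ * a) ^ 2)⁻¹ = b⁻¹)
    (n2 : (a * a'⁻¹ * a) ^ 2 * b' * ((a * a'⁻¹ * a) ^ 2)⁻¹ = b'⁻¹)
    (m1 : (b * b'⁻¹ * b) ^ 2 * a * ((b * b'⁻¹ * b) ^ 2)⁻¹ = a⁻¹)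
    (m2 : (b * b'⁻¹ * b) ^ 2 * a' * ((b * b'⁻¹ * b) ^ 2)⁻¹ = a'⁻¹) :
    A2Sys a a' b b' (⁅a, b⁆⁻¹) ⁅a', b'⁆ where
  ba := by
    refine Co.of_mul ?_ h.kb.inv_left h.ka.inv_left
    have : a * b = ⁅a, b⁆ * (b * a) := by rw [commutatorElement_def]; group
    rw [this, (h.kb.mul_right h.ka).eq]
    group
  ab' := by
    refine Co.of_mul ?_ h.ka' h.kb'
    have : a' * b' = ⁅a', b'⁆ * (b' * a') := by rw [commutatorElement_def]; group
    rw [this, (h.kb'.mul_right h.ka').eq]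
  ca' := by
    have := (Co.of_conj (h.s1 ha hb n1) h.a'b.symm h.kb.symm).inv_left
    rwa [inv_inv] at this
  cb' := by
    have := (Co.of_conj (h.s2 ha hb m1) h.ab'.inv_left h.ka.symm.inv_left).inv_left
    rwa [inv_inv] at this
  c'a := Co.of_conj (h.s3 ha' hb' n2) h.ab'.symm h.kb'.symm
  c'b := by
    have := Co.of_conj (h.s4 ha' hb' m2) h.a'b.inv_left h.ka'.symm.inv_left
    rwa [inv_inv] at this
  cab' := h.ab'
  cba' := h.a'b

/-! ### Weyl elements -/

section weyl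

variable {a a' b b' c c' : G}

/-- `n_α = a a'⁻¹ a` maps `b ↦ c⁻¹`. -/
theorem A2Sys.n_b (h : A2Sys a a' b b' c c') :
    (a * a'⁻¹ * a) * b * (a * a'⁻¹ * a)⁻¹ = c⁻¹ := by
  have e1 : a * b * a⁻¹ = c⁻¹ * b := by
    have := h.ba.swap.mul
    rw [this]
    have h1 : b * a * c⁻¹ = c⁻¹ * (b * a) :=
      ((h.ba.left.mul_right h.ba.right).inv_left.eq).symm
    rw [h1]; group
  have e2 : a' * c * a'⁻¹ = b⁻¹ * c := by
    have h1 := h.ca'.mul
    -- c * a' = a' * c * b
    have h2 : a' * c = c * a' * b⁻¹ := by rw [h1]; group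
    rw [h2, ← (h.ca'.left.mul_right h.ca'.right).inv_left.eq]; group
  have e3 : a' * b * a'⁻¹ = b := by rw [h.cba'.eq]; group
  have e4 : a * c * a⁻¹ = c := by rw [h.ba.right.symm.eq]; group
  have hcb : Commute c b := h.ba.left
  apply conj_mul3 a a' b (c⁻¹ * b) c⁻¹ c⁻¹ e1
  · -- a'⁻¹ (c⁻¹ b) a' = c⁻¹
    apply conj_inv_of
    rw [← conj_inv, e2, mul_inv_rev, inv_inv]
  · rw [← conj_inv, e4]

/-- `n_α : b' ↦ c'⁻¹`. -/
theorem A2Sys.n_b' (h : A2Sys a a' b b' c c') :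
    (a * a'⁻¹ * a) * b' * (a * a'⁻¹ * a)⁻¹ = c'⁻¹ := by
  have e1 : a * b' * a⁻¹ = b' := by rw [h.cab'.eq]; group
  have hc'b' : Commute c' b' := h.ab'.right
  have e2 : a' * b' * a'⁻¹ = c' * b' := by
    have := h.ab'.mul
    rw [this, ← (h.ab'.right.mul_right h.ab'.left).eq]; group
  have e3 : a' * c' * a'⁻¹ = c' := by rw [h.ab'.left.symm.eq]; group
  have e4 : a * c' * a⁻¹ = b' * c' := by
    have h1 := h.c'a.mul
    -- c' a = a c' b'⁻¹
    have h2 : a * c' = c' * a * b' := by rw [h1]; group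
    have h3 : Commute b' (c' * a) := (hc'b'.symm).mul_right h.cab'.symm
    rw [h2, ← h3.eq]; group
  apply conj_mul3 a a' b' b' (c'⁻¹ * b') c'⁻¹ e1
  · apply conj_inv_of
    have : a' * (c'⁻¹ * b') * a'⁻¹ = (a' * c' * a'⁻¹)⁻¹ * (a' * b' * a'⁻¹) := by group
    rw [this, e3, e2]; group
  · have : a * (c'⁻¹ * b') * a⁻¹ = (a * c' * a⁻¹)⁻¹ * (a * b' * a⁻¹) := by group
    rw [this, e4, e1]; group

/-- `n_α : c ↦ b`. -/
theorem A2Sys.n_c (h : A2Sys a a' b b' c c') :
    (a * a'⁻¹ * a) * c * (a * a'⁻¹ * a)⁻¹ = b := by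
  have e1 : a * b * a⁻¹ = c⁻¹ * b := by
    have := h.ba.swap.mul
    rw [this]
    have h1 : b * a * c⁻¹ = c⁻¹ * (b * a) :=
      ((h.ba.left.mul_right h.ba.right).inv_left.eq).symm
    rw [h1]; group
  have e2 : a' * c * a'⁻¹ = b⁻¹ * c := by
    have h1 := h.ca'.mul
    have h2 : a' * c = c * a' * b⁻¹ := by rw [h1]; group
    rw [h2, ← (h.ca'.left.mul_right h.ca'.right).inv_left.eq]; group
  have e3 : a' * b * a'⁻¹ = b := by rw [h.cba'.eq]; group
  have e4 : a * c * a⁻¹ = c := by rw [h.ba.right.symm.eq]; group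
  have hcb : Commute c b := h.ba.left
  apply conj_mul3 a a' c c (b * c) b e4
  · apply conj_inv_of
    have : a' * (b * c) * a'⁻¹ = (a' * b * a'⁻¹) * (a' * c * a'⁻¹) := by group
    rw [this, e3, e2]; group
  · have : a * (b * c) * a⁻¹ = (a * b * a⁻¹) * (a * c * a⁻¹) := by group
    rw [this, e1, e4, mul_assoc, ← hcb.eq]; group

/-- `n_α : c' ↦ b'`. -/
theorem A2Sys.n_c' (h : A2Sys a a' b b' c c') :
    (a * a'⁻¹ * a) * c' * (a * a'⁻¹ * a)⁻¹ = b' := by
  have e1 : a * b' * a⁻¹ = b' := by rw [h.cab'.eq]; group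
  have hc'b' : Commute c' b' := h.ab'.right
  have e2 : a' * b' * a'⁻¹ = c' * b' := by
    have := h.ab'.mul
    rw [this, ← (h.ab'.right.mul_right h.ab'.left).eq]; group
  have e4 : a * c' * a⁻¹ = b' * c' := by
    have h1 := h.c'a.mul
    have h2 : a * c' = c' * a * b' := by rw [h1]; group
    have h3 : Commute b' (c' * a) := (hc'b'.symm).mul_right h.cab'.symm
    rw [h2, ← h3.eq]; group
  apply conj_mul3 a a' c' (b' * c') b' b' e4
  · apply conj_inv_of
    rw [e2, hc'b'.eq]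
  · exact e1

/-- `n_α : a ↦ a'⁻¹`. -/
theorem A2Sys.n_a (h : A2Sys a a' b b' c c') :
    (a * a'⁻¹ * a) * a * (a * a'⁻¹ * a)⁻¹ = a'⁻¹ := by
  have key : ∀ n : G, n * c * n⁻¹ = b → n * b' * n⁻¹ = c'⁻¹ → n * a * n⁻¹ = a'⁻¹ := by
    intro n h1 h2
    have e : a⁻¹ = c⁻¹ * b'⁻¹ * c * b' := h.cb'.eq.symm
    have e2 : n * a⁻¹ * n⁻¹ = (n * c * n⁻¹)⁻¹ * (n * b' * n⁻¹)⁻¹ * (n * c * n⁻¹) *
        (n * b' * n⁻¹) := by rw [e]; group
    rw [h1, h2] at e2
    have e3 : b⁻¹ * c'⁻¹⁻¹ * b * c'⁻¹ = a' := by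
      have h3 := h.c'b.mul
      -- c' * b = b * c' * a'
      have h4 : c' * a' = a' * c' := h.ab'.left.eq
      calc b⁻¹ * c'⁻¹⁻¹ * b * c'⁻¹ = b⁻¹ * (c' * b) * c'⁻¹ := by group
        _ = c' * a' * c'⁻¹ := by rw [h3]; group
        _ = a' := by rw [h4]; group
    rw [e3] at e2
    rw [← e2]; group
  exact key _ h.n_c h.n_b'

/-- `n_α : a' ↦ a⁻¹`. -/
theorem A2Sys.n_a' (h : A2Sys a a' b b' c c') :
    (a * a'⁻¹ * a) * a' * (a * a'⁻¹ * a)⁻¹ = a⁻¹ := by
  have key : ∀ n : G, n * c' * n⁻¹ = b' → n * b * n⁻¹ = c⁻¹ → n * a' * n⁻¹ = a⁻¹ := by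
    intro n h1 h2
    have e : a' = c'⁻¹ * b⁻¹ * c' * b := h.c'b.eq.symm
    have e2 : n * a' * n⁻¹ = (n * c' * n⁻¹)⁻¹ * (n * b * n⁻¹)⁻¹ * (n * c' * n⁻¹) *
        (n * b * n⁻¹) := by rw [e]; group
    rw [h1, h2] at e2
    rw [e2]
    have h3 := h.cb'.mul
    -- c * b' = b' * c * a⁻¹
    have h4 : c * a⁻¹ = a⁻¹ * c := h.ba.right.inv_right.eq
    calc b'⁻¹ * c⁻¹⁻¹ * b' * c⁻¹ = b'⁻¹ * (c * b') * c⁻¹ := by group
      _ = c * a⁻¹ * c⁻¹ := by rw [h3]; group
      _ = a⁻¹ := by rw [h4]; group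
  exact key _ h.n_c' h.n_b

theorem A2Sys.swap (h : A2Sys a a' b b' c c') : A2Sys b b' a a' c⁻¹ c'⁻¹ where
  ba := h.ba.swap
  ab' := h.ab'.swap
  ca' := by have := h.cb'.inv_left; rwa [inv_inv] at this
  cb' := h.ca'.inv_left
  c'a := h.c'b.inv_left
  c'b := by have := h.c'a.inv_left; rwa [inv_inv] at this
  cab' := h.cba'.symm
  cba' := h.cab'.symm

theorem pow_four_conj {n x : G} (hx : x ^ 4 = 1) : (n * x * n⁻¹) ^ 4 = 1 := by
  rw [conj_pow, hx, mul_one, mul_inv_cancel]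

theorem pow_four_inv {x : G} (hx : x ^ 4 = 1) : x⁻¹ ^ 4 = 1 := by rw [inv_pow, hx, inv_one]

/-- `n_{-α}^4 = 1`. -/
theorem A2Sys.four_neg (h : A2Sys a a' b b' c c') (h4 : (a * a'⁻¹ * a) ^ 4 = 1) :
    (a' * a⁻¹ * a') ^ 4 = 1 := by
  have e : a' * a⁻¹ * a' = (a * a'⁻¹ * a)⁻¹ := by
    have h1 : (a * a'⁻¹ * a) * (a⁻¹ * a' * a⁻¹) * (a * a'⁻¹ * a)⁻¹ = a' * a⁻¹ * a' := by
      have : (a * a'⁻¹ * a) * (a⁻¹ * a' * a⁻¹) * (a * a'⁻¹ * a)⁻¹ =
          ((a * a'⁻¹ * a) * a * (a * a'⁻¹ * a)⁻¹)⁻¹ * ((a * a'⁻¹ * a) * a' * (a * a'⁻¹ * a)⁻¹) *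
          ((a * a'⁻¹ * a) * a * (a * a'⁻¹ * a)⁻¹)⁻¹ := by group
      rw [this, h.n_a, h.n_a', inv_inv]
    rw [← h1]; group
  rw [e]
  exact pow_four_inv h4

/-- `n_{α+β}^4 = 1`. -/
theorem A2Sys.four_sum (h : A2Sys a a' b b' c c') (h4 : (b * b'⁻¹ * b) ^ 4 = 1) :
    (c * c'⁻¹ * c) ^ 4 = 1 := by
  have e : (a * a'⁻¹ * a) * (b * b'⁻¹ * b) * (a * a'⁻¹ * a)⁻¹ = (c * c'⁻¹ * c)⁻¹ := by
    have : (a * a'⁻¹ * a) * (b * b'⁻¹ * b) * (a * a'⁻¹ * a)⁻¹ =
        ((a * a'⁻¹ * a) * b * (a * a'⁻¹ * a)⁻¹) * ((a * a'⁻¹ * a) * b' * (a * a'⁻¹ * a)⁻¹)⁻¹ *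
        ((a * a'⁻¹ * a) * b * (a * a'⁻¹ * a)⁻¹) := by group
    rw [this, h.n_b, h.n_b', inv_inv]; group
  have h5 := pow_four_conj (n := a * a'⁻¹ * a) h4
  rw [e] at h5
  have := pow_four_inv h5
  rwa [inv_inv] at this

/-- `n_{-α-β}^4 = 1`. -/
theorem A2Sys.four_neg_sum (h : A2Sys a a' b b' c c') (h4 : (b * b'⁻¹ * b) ^ 4 = 1) :
    (c' * c⁻¹ * c') ^ 4 = 1 := by
  have h4' : (b' * b⁻¹ * b') ^ 4 = 1 := h.swap.four_neg h4
  have e : (a * a'⁻¹ * a) * (b' * b⁻¹ * b') * (a * a'⁻¹ * a)⁻¹ = (c' * c⁻¹ * c')⁻¹ := by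
    have : (a * a'⁻¹ * a) * (b' * b⁻¹ * b') * (a * a'⁻¹ * a)⁻¹ =
        ((a * a'⁻¹ * a) * b' * (a * a'⁻¹ * a)⁻¹) * ((a * a'⁻¹ * a) * b * (a * a'⁻¹ * a)⁻¹)⁻¹ *
        ((a * a'⁻¹ * a) * b' * (a * a'⁻¹ * a)⁻¹) := by group
    rw [this, h.n_b, h.n_b', inv_inv]; group
  have h5 := pow_four_conj (n := a * a'⁻¹ * a) h4'
  rw [e] at h5
  have := pow_four_inv h5
  rwa [inv_inv] at this

end weyl

end Cfsg.Agent.TypeD4Three.ChevA2
end

-- part: TypeD4Three/Closing
section
prune_inst 0x420000410614000000000059201003c66ce000190006b000140200b4207890f01e0028721bee0361011180264003a0040020000d9405000000a00020041180080002a30c00000a00021000000d805180c00000000000000000000000000000004000000000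
set_option linter.all false
open scoped Cfsg.Agent.FastGrp

/-!
# S1763, case [P]: the abstract closing argument `M = G` (helper948, after helper754's #4412)

`z` is an involution with centralizer of odd index, `C_G(z) ≤ M` and `z ^ g ∈ M` only for `g ∈ M`.
`In s w` ("`w` is inner at `s`"), `W s w` ("`w` has weight two at `s`") and `S s w v` ("`w, v, w v` have weight two
with the same support at `s`") are predicates invariant under conjugation, with the properties listed in `Data`.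
-/

set_option autoImplicit false

namespace Cfsg.Agent.TypeD4Three.Closing

variable {G : Type*} [Group G]

/-- conjugation, `cj g x = g x g⁻¹` -/
def cj (g x : G) : G := g * x * g⁻¹

theorem cj_mul (g x y : G) : cj g x * cj g y = cj g (x * y) := by
  unfold cj; group

theorem cj_one (g : G) : cj g 1 = 1 := by unfold cj; group

theorem cj_inj (g : G) {x y : G} : cj g x = cj g y ↔ x = y := by
  unfold cj
  constructor
  · intro h
    exact mul_left_cancel (mul_right_cancel h)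
  · rintro rfl; rfl

theorem cj_eq_one (g : G) {x : G} : cj g x = 1 ↔ x = 1 := by
  constructor
  · intro h
    exact (cj_inj g).1 (h.trans (cj_one g).symm)
  · rintro rfl
    exact cj_one g

theorem cj_surj (g x : G) : ∃ y, cj g y = x := ⟨g⁻¹ * x * g, by unfold cj; group⟩

theorem cj_cj (g h x : G) : cj g (cj h x) = cj (g * h) x := by unfold cj; group

theorem commute_cj (g : G) {x y : G} : Commute (cj g x) (cj g y) ↔ Commute x y := by
  unfold Commute SemiconjBy
  rw [cj_mul, cj_mul, cj_inj]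

theorem isConj_cj (g : G) {z x : G} : IsConj z (cj g x) ↔ IsConj z x := by
  constructor
  · rintro h
    exact h.trans (isConj_iff.2 ⟨g⁻¹, by unfold cj; group⟩)
  · intro h
    exact h.trans (isConj_iff.2 ⟨g, rfl⟩)

/-- the hypotheses of the closing argument -/
structure Data (z : G) (In W : G → G → Prop) (S : G → G → G → Prop) : Prop where
  z_ne : z ≠ 1
  z_sq : z * z = 1
  odd : Odd (Subgroup.centralizer ({z} : Set G)).index
  In_conj : ∀ g s w, In s w → In (g * s * g⁻¹) (g * w * g⁻¹)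
  W_conj : ∀ g s w, W s w → W (g * s * g⁻¹) (g * w * g⁻¹)
  S_conj : ∀ g s w v, S s w v → S (g * s * g⁻¹) (g * w * g⁻¹) (g * v * g⁻¹)
  In_mul : ∀ w w', In z w → In z w' → In z (w * w')
  star : ∀ t, IsConj z t → Commute z t → In z t
  con : ∀ s, IsConj z s → ∀ w, w * w = 1 → Commute z w → Commute s w → In z w → In s w
  exW : ∃ w, W z w
  W_ne : ∀ w, W z w → w ≠ 1
  W_sq : ∀ w, W z w → w * w = 1
  W_comm : ∀ w, W z w → Commute z w
  W_not : ∀ w, W z w → ¬ IsConj z w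
  W_not' : ∀ w, W z w → ¬ IsConj z (z * w)
  W_in : ∀ w, W z w → In z w
  inv : ∀ w, In z w → w * w = 1 → w ≠ 1 →
    IsConj z w ∨ W z w ∨ (IsConj z (z * w) ∧ ∃ a, IsConj z a ∧ Commute a z ∧ W a w)
  beta : ∀ w, W z w → ∃ y, IsConj z y ∧ Commute y z ∧ Commute y w ∧ IsConj z (y * w)
  c1 : ∀ w, W z w → ∀ x, IsConj z x → Commute z x → Commute w x → x ≠ z → ¬ IsConj z (x * w) →
    IsConj z (z * x) ∨ IsConj z (z * x * w)
  c2 : ∀ w, W z w → ∀ y, IsConj z y → Commute z y → Commute w y → IsConj z (y * w) →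
    ¬ IsConj z (z * y) → ¬ IsConj z (z * y * w) → ∃ x, IsConj z x ∧ Commute x z ∧ S x w (z * y)
  S_comm : ∀ w v, S z w v → Commute z w ∧ Commute z v ∧ Commute w v
  S_sq : ∀ w v, S z w v → w * w = 1 ∧ v * v = 1
  S_not : ∀ w v, S z w v → ¬ IsConj z (z * w) ∧ ¬ IsConj z (z * v) ∧ ¬ IsConj z (z * (w * v))
  S_c : ∀ w v, S z w v → ∀ x, IsConj z x → Commute z x → Commute w x → Commute v x → x ≠ z →
    IsConj z (z * x) ∨ IsConj z (z * x * w) ∨ IsConj z (z * x * v) ∨ IsConj z (z * x * (w * v))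

variable {z : G} {In W : G → G → Prop} {S : G → G → G → Prop}

namespace Data

variable (D : Data z In W S)

include D

theorem In_cj (g : G) {s w : G} : In (cj g s) (cj g w) ↔ In s w := by
  constructor
  · intro h
    have := D.In_conj g⁻¹ _ _ h
    have e : ∀ x : G, g⁻¹ * cj g x * g⁻¹⁻¹ = x := by intro x; unfold cj; group
    rwa [e, e] at this
  · exact D.In_conj g s w

theorem W_cj (g : G) {s w : G} : W (cj g s) (cj g w) ↔ W s w := by
  constructor
  · intro h
    have := D.W_conj g⁻¹ _ _ h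
    have e : ∀ x : G, g⁻¹ * cj g x * g⁻¹⁻¹ = x := by intro x; unfold cj; group
    rwa [e, e] at this
  · exact D.W_conj g s w

theorem S_cj (g : G) {s w v : G} : S (cj g s) (cj g w) (cj g v) ↔ S s w v := by
  constructor
  · intro h
    have := D.S_conj g⁻¹ _ _ _ h
    have e : ∀ x : G, g⁻¹ * cj g x * g⁻¹⁻¹ = x := by intro x; unfold cj; group
    rwa [e, e, e] at this
  · exact D.S_conj g s w v

/-! ### the hypotheses at an arbitrary conjugate of `z` -/

theorem sq {s : G} (hs : IsConj z s) : s * s = 1 := by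
  obtain ⟨g, hg⟩ := isConj_iff.1 hs
  rw [← hg]
  calc g * z * g⁻¹ * (g * z * g⁻¹) = g * (z * z) * g⁻¹ := by group
    _ = 1 := by rw [D.z_sq]; group

theorem ne {s : G} (hs : IsConj z s) : s ≠ 1 := by
  rintro rfl
  exact D.z_ne (isConj_one_left.1 hs)

theorem star' {s t : G} (hs : IsConj z s) (ht : IsConj z t) (h : Commute s t) : In s t := by
  obtain ⟨g, hg⟩ := isConj_iff.1 hs
  obtain rfl : cj g z = s := hg
  obtain ⟨t, rfl⟩ := cj_surj g t
  rw [isConj_cj] at ht
  rw [commute_cj] at h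
  rw [D.In_cj]
  exact D.star t ht h

theorem In_mul' {s w w' : G} (hs : IsConj z s) (h : In s w) (h' : In s w') : In s (w * w') := by
  obtain ⟨g, hg⟩ := isConj_iff.1 hs
  obtain rfl : cj g z = s := hg
  obtain ⟨w, rfl⟩ := cj_surj g w
  obtain ⟨w', rfl⟩ := cj_surj g w'
  rw [D.In_cj] at h h'
  rw [cj_mul, D.In_cj]
  exact D.In_mul _ _ h h'

theorem con' {s s' w : G} (hs : IsConj z s) (hs' : IsConj z s') (hw : w * w = 1) (h : Commute s w)
    (h' : Commute s' w) (hin : In s w) : In s' w := by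
  obtain ⟨g, hg⟩ := isConj_iff.1 hs
  obtain rfl : cj g z = s := hg
  obtain ⟨w, rfl⟩ := cj_surj g w
  obtain ⟨s', rfl⟩ := cj_surj g s'
  rw [commute_cj] at h h'
  rw [isConj_cj] at hs'
  rw [cj_mul, cj_eq_one] at hw
  rw [D.In_cj] at hin
  rw [D.In_cj]
  exact D.con _ hs' _ hw h h' hin

theorem W_all {s w : G} (hs : IsConj z s) (h : W s w) : w ≠ 1 ∧ w * w = 1 ∧ Commute s w ∧
    ¬ IsConj z w ∧ ¬ IsConj z (s * w) ∧ In s w := by
  obtain ⟨g, hg⟩ := isConj_iff.1 hs
  obtain rfl : cj g z = s := hg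
  obtain ⟨w, rfl⟩ := cj_surj g w
  rw [D.W_cj] at h
  rw [cj_mul, cj_mul, isConj_cj, isConj_cj, commute_cj, D.In_cj, cj_eq_one, Ne, cj_eq_one]
  exact ⟨D.W_ne _ h, D.W_sq _ h, D.W_comm _ h, D.W_not _ h, D.W_not' _ h, D.W_in _ h⟩

theorem inv' {s w : G} (hs : IsConj z s) (h : In s w) (hw : w * w = 1) (hw1 : w ≠ 1) :
    IsConj z w ∨ W s w ∨ (IsConj z (s * w) ∧ ∃ a, IsConj z a ∧ Commute a s ∧ W a w) := by
  obtain ⟨g, hg⟩ := isConj_iff.1 hs
  obtain rfl : cj g z = s := hg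
  obtain ⟨w, rfl⟩ := cj_surj g w
  rw [D.In_cj] at h
  rw [cj_mul, cj_eq_one] at hw
  rw [Ne, cj_eq_one] at hw1
  rw [D.W_cj, cj_mul, isConj_cj, isConj_cj]
  rcases D.inv w h hw hw1 with h1 | h1 | ⟨h1, a, h2, h3, h4⟩
  · exact Or.inl h1
  · exact Or.inr (Or.inl h1)
  · exact Or.inr (Or.inr ⟨h1, cj g a, (isConj_cj g).2 h2, (commute_cj g).2 h3, (D.W_cj g).2 h4⟩)

theorem beta' {s w : G} (hs : IsConj z s) (h : W s w) :
    ∃ y, IsConj z y ∧ Commute y s ∧ Commute y w ∧ IsConj z (y * w) := by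
  obtain ⟨g, hg⟩ := isConj_iff.1 hs
  obtain rfl : cj g z = s := hg
  obtain ⟨w, rfl⟩ := cj_surj g w
  rw [D.W_cj] at h
  obtain ⟨y, h1, h2, h3, h4⟩ := D.beta w h
  exact ⟨cj g y, (isConj_cj g).2 h1, (commute_cj g).2 h2, (commute_cj g).2 h3,
    by rw [cj_mul, isConj_cj]; exact h4⟩

theorem c1' {s w : G} (hs : IsConj z s) (h : W s w) {x : G} (hx : IsConj z x) (h1 : Commute s x)
    (h2 : Commute w x) (h3 : x ≠ s) (h4 : ¬ IsConj z (x * w)) :
    IsConj z (s * x) ∨ IsConj z (s * x * w) := by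
  obtain ⟨g, hg⟩ := isConj_iff.1 hs
  obtain rfl : cj g z = s := hg
  obtain ⟨w, rfl⟩ := cj_surj g w
  obtain ⟨x, rfl⟩ := cj_surj g x
  rw [D.W_cj] at h
  rw [commute_cj] at h1 h2
  rw [isConj_cj] at hx
  rw [Ne, cj_inj] at h3
  rw [cj_mul, isConj_cj] at h4
  rw [cj_mul, cj_mul, isConj_cj, isConj_cj]
  exact D.c1 w h x hx h1 h2 h3 h4

theorem c2' {s w : G} (hs : IsConj z s) (h : W s w) {y : G} (hy : IsConj z y) (h1 : Commute s y)
    (h2 : Commute w y) (h3 : IsConj z (y * w)) (h4 : ¬ IsConj z (s * y))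
    (h5 : ¬ IsConj z (s * y * w)) : ∃ x, IsConj z x ∧ Commute x s ∧ S x w (s * y) := by
  obtain ⟨g, hg⟩ := isConj_iff.1 hs
  obtain rfl : cj g z = s := hg
  obtain ⟨w, rfl⟩ := cj_surj g w
  obtain ⟨y, rfl⟩ := cj_surj g y
  rw [D.W_cj] at h
  rw [commute_cj] at h1 h2
  rw [isConj_cj] at hy
  rw [cj_mul, isConj_cj] at h3 h4
  rw [cj_mul, cj_mul, isConj_cj] at h5
  obtain ⟨x, x1, x2, x3⟩ := D.c2 w h y hy h1 h2 h3 h4 h5
  exact ⟨cj g x, (isConj_cj g).2 x1, (commute_cj g).2 x2, by rw [cj_mul, D.S_cj]; exact x3⟩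

theorem S_all {s w v : G} (hs : IsConj z s) (h : S s w v) : Commute s w ∧ Commute s v ∧ Commute w v ∧
    w * w = 1 ∧ v * v = 1 ∧ ¬ IsConj z (s * w) ∧ ¬ IsConj z (s * v) ∧ ¬ IsConj z (s * (w * v)) := by
  obtain ⟨g, hg⟩ := isConj_iff.1 hs
  obtain rfl : cj g z = s := hg
  obtain ⟨w, rfl⟩ := cj_surj g w
  obtain ⟨v, rfl⟩ := cj_surj g v
  rw [D.S_cj] at h
  obtain ⟨a1, a2, a3⟩ := D.S_comm _ _ h
  obtain ⟨b1, b2⟩ := D.S_sq _ _ h
  obtain ⟨c1, c2, c3⟩ := D.S_not _ _ h
  simp only [cj_mul, isConj_cj, commute_cj, cj_eq_one]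
  exact ⟨a1, a2, a3, b1, b2, c1, c2, c3⟩

theorem S_c' {s w v : G} (hs : IsConj z s) (h : S s w v) {x : G} (hx : IsConj z x)
    (h1 : Commute s x) (h2 : Commute w x) (h3 : Commute v x) (h4 : x ≠ s) :
    IsConj z (s * x) ∨ IsConj z (s * x * w) ∨ IsConj z (s * x * v) ∨ IsConj z (s * x * (w * v)) := by
  obtain ⟨g, hg⟩ := isConj_iff.1 hs
  obtain rfl : cj g z = s := hg
  obtain ⟨w, rfl⟩ := cj_surj g w
  obtain ⟨v, rfl⟩ := cj_surj g v
  obtain ⟨x, rfl⟩ := cj_surj g x
  rw [D.S_cj] at h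
  rw [isConj_cj] at hx
  rw [commute_cj] at h1 h2 h3
  rw [Ne, cj_inj] at h4
  simp only [cj_mul, isConj_cj]
  exact D.S_c w v h x hx h1 h2 h3 h4

end Data

/-! ### dihedral groups -/

section dihedral

variable {x y : G}

theorem pow_mul_self (hx : x * x = 1) (hy : y * y = 1) (l : ℕ) :
    (x * y) ^ l * x = x * ((x * y) ^ l)⁻¹ := by
  have hx' : x⁻¹ = x := inv_eq_of_mul_eq_one_left hx
  have hy' : y⁻¹ = y := inv_eq_of_mul_eq_one_left hy
  induction l with
  | zero => simp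
  | succ l ih =>
    calc (x * y) ^ (l + 1) * x = x * y * ((x * y) ^ l * x) := by rw [pow_succ', mul_assoc]
      _ = x * y * (x * ((x * y) ^ l)⁻¹) := by rw [ih]
      _ = x * ((x * y)⁻¹ * ((x * y) ^ l)⁻¹) := by
        rw [mul_inv_rev, hx', hy']; simp only [mul_assoc]
      _ = x * ((x * y) ^ (l + 1))⁻¹ := by rw [← mul_inv_rev, ← pow_succ]

theorem conj_pow (hx : x * x = 1) (hy : y * y = 1) (l : ℕ) :
    x * (x * y) ^ l * x = ((x * y) ^ l)⁻¹ := by
  rw [mul_assoc, pow_mul_self hx hy, ← mul_assoc, hx, one_mul]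

theorem conj_pow' (hx : x * x = 1) (hy : y * y = 1) (l : ℕ) :
    y * (x * y) ^ l * y = ((x * y) ^ l)⁻¹ := by
  have h : ∀ l : ℕ, (x * y) ^ l * y = y * ((x * y) ^ l)⁻¹ := by
    have hx' : x⁻¹ = x := inv_eq_of_mul_eq_one_left hx
    have hy' : y⁻¹ = y := inv_eq_of_mul_eq_one_left hy
    intro l
    induction l with
    | zero => simp
    | succ l ih =>
      calc (x * y) ^ (l + 1) * y = x * y * ((x * y) ^ l * y) := by rw [pow_succ', mul_assoc]
        _ = x * y * (y * ((x * y) ^ l)⁻¹) := by rw [ih]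
        _ = y * (y * x * (y * y) * ((x * y) ^ l)⁻¹) := by
          rw [show x * y * (y * ((x * y) ^ l)⁻¹) = x * (y * y) * ((x * y) ^ l)⁻¹ by
            simp only [mul_assoc], hy, mul_one,
            show y * (y * x * 1 * ((x * y) ^ l)⁻¹) = y * y * (x * ((x * y) ^ l)⁻¹) by
            simp only [mul_assoc, mul_one], hy, one_mul]
        _ = y * ((x * y)⁻¹ * ((x * y) ^ l)⁻¹) := by
          rw [hy, mul_one, mul_inv_rev, hx', hy']
        _ = y * ((x * y) ^ (l + 1))⁻¹ := by rw [← mul_inv_rev, ← pow_succ]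
  rw [mul_assoc, h, ← mul_assoc, hy, one_mul]

/-- commuting with everything that commutes with `x` and `y` -/
def Bi (x y k : G) : Prop := ∀ g, Commute g x → Commute g y → Commute g k

theorem bi_pow (l : ℕ) : Bi x y ((x * y) ^ l) := fun _ h h' => (h.mul_right h').pow_right l

/-- `x r^j` is conjugate to `x` or `y`. -/
theorem mul_pow (hx : x * x = 1) (hy : y * y = 1) (j : ℕ) :
    (Even j ∧ ∃ k, Bi x y k ∧ x * (x * y) ^ j = k⁻¹ * x * k) ∨
      (Odd j ∧ ∃ k, Bi x y k ∧ x * (x * y) ^ j = k⁻¹ * y * k) := by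
  rcases Nat.even_or_odd j with h | h
  · left
    refine ⟨h, ?_⟩
    obtain ⟨l, rfl⟩ := h
    refine ⟨(x * y) ^ l, bi_pow l, ?_⟩
    rw [pow_add, ← mul_assoc]
    congr 1
    have := conj_pow hx hy l
    calc x * (x * y) ^ l = x * (x * y) ^ l * (x * x) := by rw [hx, mul_one]
      _ = ((x * y) ^ l)⁻¹ * x := by rw [← mul_assoc, this]
  · right
    refine ⟨h, ?_⟩
    obtain ⟨l, rfl⟩ := h
    refine ⟨(x * y) ^ l, bi_pow l, ?_⟩
    have e : x * (x * y) ^ (2 * l + 1) = y * (x * y) ^ l * (x * y) ^ l := by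
      rw [pow_succ', two_mul, pow_add]
      calc x * (x * y * ((x * y) ^ l * (x * y) ^ l)) = (x * x) * y * (x * y) ^ l * (x * y) ^ l := by
            simp only [mul_assoc]
        _ = y * (x * y) ^ l * (x * y) ^ l := by rw [hx, one_mul]
    rw [e]
    congr 1
    have := conj_pow' hx hy l
    calc y * (x * y) ^ l = y * (x * y) ^ l * (y * y) := by rw [hy, mul_one]
      _ = ((x * y) ^ l)⁻¹ * y := by rw [← mul_assoc, this]

/-- the dichotomy modulo `F` -/
theorem dichotomy [Finite G] (hx : x * x = 1) (hy : y * y = 1) (F : G → Prop) (h1 : F 1) :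
    (∃ k f, F f ∧ Bi x y k ∧ x * f = k⁻¹ * y * k) ∨
    ∃ u, ¬ F u ∧ F (u * u) ∧ x * u * x = u⁻¹ ∧ y * u * y = u⁻¹ ∧ Bi x y u ∧
      ∃ k, Bi x y k ∧ (x * u = k⁻¹ * x * k ∨ x * u = k⁻¹ * y * k) := by
  classical
  have hex : ∃ n : ℕ, 0 < n ∧ F ((x * y) ^ n) :=
    ⟨orderOf (x * y), orderOf_pos _, by rw [pow_orderOf_eq_one]; exact h1⟩
  obtain ⟨hn, hF⟩ := Nat.find_spec hex
  rcases mul_pow hx hy (Nat.find hex) with ⟨he, -⟩ | ⟨ho, k, hk, hk'⟩
  · right
    obtain ⟨m, hm⟩ := he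
    have hm0 : 0 < m := by omega
    have hmn : m < Nat.find hex := by omega
    refine ⟨(x * y) ^ m, fun h => Nat.find_min hex hmn ⟨hm0, h⟩, ?_, conj_pow hx hy m,
      conj_pow' hx hy m, bi_pow m, ?_⟩
    · rw [← pow_add, ← hm]; exact hF
    · rcases mul_pow hx hy m with ⟨-, k, hk, hk'⟩ | ⟨-, k, hk, hk'⟩
      · exact ⟨k, hk, Or.inl hk'⟩
      · exact ⟨k, hk, Or.inr hk'⟩
  · left
    exact ⟨k, _, hF, hk, hk'⟩

end dihedral

/-! ### homes -/

section homes

variable {M : Subgroup G}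

/-- The subgroup `M` controls the fusion of `z`. -/
structure Ctl (M : Subgroup G) (z : G) : Prop where
  cent : ∀ c, Commute c z → c ∈ M
  fus : ∀ g, g * z * g⁻¹ ∈ M → g ∈ M

namespace Ctl

variable (C : Ctl M z)

include C

theorem fix_iff (g : G) (q : G ⧸ M) : (g * z * g⁻¹) • q = q ↔ q = (g : G ⧸ M) := by
  obtain ⟨h, rfl⟩ := QuotientGroup.mk_surjective q
  constructor
  · intro hh
    have h1 : ((g * z * g⁻¹ * h : G) : G ⧸ M) = (h : G ⧸ M) := hh
    rw [QuotientGroup.eq] at h1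
    have h2 : (h⁻¹ * g) * z * (h⁻¹ * g)⁻¹ ∈ M := by
      have := M.inv_mem h1
      have e : ((g * z * g⁻¹ * h)⁻¹ * h)⁻¹ = (h⁻¹ * g) * z * (h⁻¹ * g)⁻¹ := by group
      rwa [e] at this
    exact QuotientGroup.eq.2 (C.fus _ h2)
  · intro hh
    rw [hh]
    show ((g * z * g⁻¹ * g : G) : G ⧸ M) = (g : G ⧸ M)
    rw [QuotientGroup.eq]
    have h1 : z ∈ M := C.cent z (Commute.refl z)
    have e : (g * z * g⁻¹ * g)⁻¹ * g = z⁻¹ := by group
    rw [e]
    exact M.inv_mem h1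

theorem exists_home {s : G} (hs : IsConj z s) : ∃ q : G ⧸ M, s • q = q := by
  obtain ⟨g, hg⟩ := isConj_iff.1 hs
  exact ⟨g, by rw [← hg]; exact (C.fix_iff g _).2 rfl⟩

theorem unique {s : G} (hs : IsConj z s) {q q' : G ⧸ M} (h : s • q = q) (h' : s • q' = q') :
    q = q' := by
  obtain ⟨g, hg⟩ := isConj_iff.1 hs
  rw [← hg] at h h'
  rw [(C.fix_iff g q).1 h, (C.fix_iff g q').1 h']

theorem fix_of_comm {s g : G} (hs : IsConj z s) (h : Commute g s) {q : G ⧸ M} (hq : s • q = q) :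
    g • q = q := by
  refine C.unique hs ?_ hq
  rw [← mul_smul, ← h.eq, mul_smul, hq]

end Ctl

/-- same home -/
def SH (M : Subgroup G) (x y : G) : Prop := ∀ q : G ⧸ M, x • q = q → y • q = q

theorem SH.trans {x y w : G} (h : SH M x y) (h' : SH M y w) : SH M x w := fun q hq => h' q (h q hq)

theorem SH.symm (C : Ctl M z) {x y : G} (hx : IsConj z x) (hy : IsConj z y) (h : SH M x y) :
    SH M y x := by
  intro q hq
  obtain ⟨q', hq'⟩ := C.exists_home hx
  have := C.unique hy (h q' hq') hq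
  rw [← this]
  exact hq'

theorem sh_of_comm (C : Ctl M z) {x y : G} (hx : IsConj z x) (h : Commute y x) : SH M x y :=
  fun _ hq => C.fix_of_comm hx h hq

theorem sh_link (C : Ctl M z) {x y u : G} (hx : IsConj z x) (hu : IsConj z u) (h : Commute u x)
    (h' : Commute y u) : SH M x y :=
  (sh_of_comm C hx h).trans (sh_of_comm C hu h')

variable [Finite G] (D : Data z In W S) (C : Ctl M z)

include D C

theorem conj_mem_iff {k x : G} : IsConj z (k⁻¹ * x * k) ↔ IsConj z x := by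
  have := isConj_cj (z := z) k⁻¹ (x := x)
  unfold cj at this
  rwa [inv_inv] at this

/-- (4a) -/
theorem four_a {x w v y : G} (hx : IsConj z x) (hS : S x w v) (hy : IsConj z y) (h1 : Commute w y)
    (h2 : Commute v y) (h3 : IsConj z (y * w)) : SH M x y := by
  obtain ⟨a1, a2, a3, b1, b2, c1, c2, c3⟩ := D.S_all hx hS
  have hxx := D.sq hx
  have hyy := D.sq hy
  have hn : ∀ f, (f = 1 ∨ f = w ∨ f = v ∨ f = w * v) → IsConj z (x * f) → f = 1 := by
    rintro f (h | h | h | h) hf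
    · exact h
    · rw [h] at hf; exact absurd hf c1
    · rw [h] at hf; exact absurd hf c2
    · rw [h] at hf; exact absurd hf c3
  rcases dichotomy hxx hyy (fun g => g = 1 ∨ g = w ∨ g = v ∨ g = w * v) (Or.inl rfl) with
    ⟨k, f, hf, hk, hk'⟩ | ⟨u, hu, huu, hux, huy, hbu, k, hk, hk'⟩
  · exfalso
    have h4 : IsConj z (x * f) := by rw [hk', conj_mem_iff D C]; exact hy
    have h5 := hn f hf h4
    rw [h5, mul_one] at hk'
    have hkw : Commute w k := hk w a1.symm h1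
    apply c1
    have e : x * w = k⁻¹ * (y * w) * k := by
      rw [hk']
      calc k⁻¹ * y * k * w = k⁻¹ * y * (k * w) := by group
        _ = k⁻¹ * y * (w * k) := by rw [hkw.eq]
        _ = k⁻¹ * (y * w) * k := by group
    rw [e, conj_mem_iff D C]
    exact h3
  · have h4 : IsConj z (x * u) := by
      rcases hk' with hk' | hk' <;> rw [hk', conj_mem_iff D C]
      · exact hx
      · exact hy
    have h5 : IsConj z (x * (u * u)) := by
      have e : x * (u * u) = (x * u) * x * (x * u)⁻¹ := by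
        have hux' : u⁻¹ = x * u * x := hux.symm
        have hxi : x⁻¹ = x := inv_eq_of_mul_eq_one_left hxx
        have hu2 : x * u⁻¹ * x = u := by
          rw [hux']
          calc x * (x * u * x) * x = (x * x) * u * (x * x) := by group
            _ = u := by rw [hxx]; group
        rw [mul_inv_rev, hxi]
        calc x * (u * u) = x * (u * (x * u⁻¹ * x)) := by rw [hu2]
          _ = x * u * x * (u⁻¹ * x) := by group
      rw [e]
      exact hx.trans (isConj_iff.2 ⟨x * u, rfl⟩)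
    have h6 := hn _ huu h5
    have hui : u⁻¹ = u := inv_eq_of_mul_eq_one_left h6
    have hcx : Commute x u := by
      rw [hui] at hux
      show x * u = u * x
      calc x * u = x * u * (x * x) := by rw [hxx, mul_one]
        _ = x * u * x * x := by group
        _ = u * x := by rw [hux]
    have hcy : Commute y u := by
      rw [hui] at huy
      show y * u = u * y
      calc y * u = y * u * (y * y) := by rw [hyy, mul_one]
        _ = y * u * y * y := by group
        _ = u * y := by rw [huy]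
    have hwu : Commute w u := hbu w a1.symm h1
    have hvu : Commute v u := hbu v a2.symm h2
    have hu1 : u ≠ 1 := fun h => hu (Or.inl h)
    have e0 : x * (x * u) = u := by rw [← mul_assoc, hxx, one_mul]
    have h7 := D.S_c' hx hS h4 ((Commute.refl x).mul_right hcx) (a1.symm.mul_right hwu)
      (a2.symm.mul_right hvu) (fun h => hu1 (mul_eq_left.1 h))
    rw [e0] at h7
    rcases h7 with h7 | h7 | h7 | h7
    · exact sh_link C hx h7 hcx.symm hcy
    · exact sh_link C hx h7 (hcx.symm.mul_left a1.symm) (hcy.mul_right h1.symm)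
    · exact sh_link C hx h7 (hcx.symm.mul_left a2.symm) (hcy.mul_right h2.symm)
    · exact sh_link C hx h7 (hcx.symm.mul_left (a1.symm.mul_left a2.symm))
        (hcy.mul_right (h1.symm.mul_right h2.symm))

/-- (4b) -/
theorem four_b {x w y : G} (hx : IsConj z x) (hW : W x w) (hy : IsConj z y) (h1 : Commute w y)
    (h3 : IsConj z (y * w)) : SH M x y := by
  obtain ⟨w1, w2, a1, -, c1, -⟩ := D.W_all hx hW
  have hxx := D.sq hx
  have hyy := D.sq hy
  have hn : ∀ f, (f = 1 ∨ f = w) → IsConj z (x * f) → f = 1 := by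
    rintro f (h | h) hf
    · exact h
    · rw [h] at hf; exact absurd hf c1
  rcases dichotomy hxx hyy (fun g => g = 1 ∨ g = w) (Or.inl rfl) with
    ⟨k, f, hf, hk, hk'⟩ | ⟨u, hu, huu, hux, huy, hbu, k, hk, hk'⟩
  · exfalso
    have h4 : IsConj z (x * f) := by rw [hk', conj_mem_iff D C]; exact hy
    have h5 := hn f hf h4
    rw [h5, mul_one] at hk'
    have hkw : Commute w k := hk w a1.symm h1
    apply c1
    have e : x * w = k⁻¹ * (y * w) * k := by
      rw [hk']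
      calc k⁻¹ * y * k * w = k⁻¹ * y * (k * w) := by group
        _ = k⁻¹ * y * (w * k) := by rw [hkw.eq]
        _ = k⁻¹ * (y * w) * k := by group
    rw [e, conj_mem_iff D C]
    exact h3
  · have h4 : IsConj z (x * u) := by
      rcases hk' with hk' | hk' <;> rw [hk', conj_mem_iff D C]
      · exact hx
      · exact hy
    have h5 : IsConj z (x * (u * u)) := by
      have e : x * (u * u) = (x * u) * x * (x * u)⁻¹ := by
        have hux' : u⁻¹ = x * u * x := hux.symm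
        have hxi : x⁻¹ = x := inv_eq_of_mul_eq_one_left hxx
        have hu2 : x * u⁻¹ * x = u := by
          rw [hux']
          calc x * (x * u * x) * x = (x * x) * u * (x * x) := by group
            _ = u := by rw [hxx]; group
        rw [mul_inv_rev, hxi]
        calc x * (u * u) = x * (u * (x * u⁻¹ * x)) := by rw [hu2]
          _ = x * u * x * (u⁻¹ * x) := by group
      rw [e]
      exact hx.trans (isConj_iff.2 ⟨x * u, rfl⟩)
    have h6 := hn _ huu h5
    have hui : u⁻¹ = u := inv_eq_of_mul_eq_one_left h6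
    have hcx : Commute x u := by
      rw [hui] at hux
      show x * u = u * x
      calc x * u = x * u * (x * x) := by rw [hxx, mul_one]
        _ = x * u * x * x := by group
        _ = u * x := by rw [hux]
    have hcy : Commute y u := by
      rw [hui] at huy
      show y * u = u * y
      calc y * u = y * u * (y * y) := by rw [hyy, mul_one]
        _ = y * u * y * y := by group
        _ = u * y := by rw [huy]
    have hwu : Commute w u := hbu w a1.symm h1
    have hu1 : u ≠ 1 := fun h => hu (Or.inl h)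
    have e0 : x * (x * u) = u := by rw [← mul_assoc, hxx, one_mul]
    by_cases k1 : IsConj z u
    · exact sh_link C hx k1 hcx.symm hcy
    by_cases k2 : IsConj z (u * w)
    · exact sh_link C hx k2 (hcx.symm.mul_left a1.symm) (hcy.mul_right h1.symm)
    rcases hk' with hk' | hk'
    · exfalso
      have hkw : Commute w k := hk w a1.symm h1
      have h8 : ¬ IsConj z (x * u * w) := by
        have e : x * u * w = k⁻¹ * (x * w) * k := by
          rw [hk']
          calc k⁻¹ * x * k * w = k⁻¹ * x * (k * w) := by group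
            _ = k⁻¹ * x * (w * k) := by rw [hkw.eq]
            _ = k⁻¹ * (x * w) * k := by group
        rw [e, conj_mem_iff D C]
        exact c1
      have h7 := D.c1' hx hW h4 ((Commute.refl x).mul_right hcx) (a1.symm.mul_right hwu)
        (fun h => hu1 (mul_eq_left.1 h)) h8
      rw [e0] at h7
      rcases h7 with h7 | h7
      · exact k1 h7
      · exact k2 h7
    · have hkw : Commute w k := hk w a1.symm h1
      have h8 : IsConj z (x * u * w) := by
        have e : x * u * w = k⁻¹ * (y * w) * k := by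
          rw [hk']
          calc k⁻¹ * y * k * w = k⁻¹ * y * (k * w) := by group
            _ = k⁻¹ * y * (w * k) := by rw [hkw.eq]
            _ = k⁻¹ * (y * w) * k := by group
        rw [e, conj_mem_iff D C]
        exact h3
      obtain ⟨x', x1, x2, x3⟩ := D.c2' hx hW h4 ((Commute.refl x).mul_right hcx)
        (a1.symm.mul_right hwu) h8 (by rw [e0]; exact k1) (by rw [e0]; exact k2)
      rw [e0] at x3
      exact (sh_of_comm C hx x2).trans (four_a D C x1 x3 hy h1 hcy.symm h3)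

/-- inner involutions whose product with `x` is a conjugate of `z`, commuting with a conjugate `y` -/
theorem of_in {x c : G} (hx : IsConj z x) (hxc : IsConj z (x * c)) (hc : Commute x c)
    : In x c := by
  have h1 : In x (x * c) := D.star' hx hxc ((Commute.refl x).mul_right hc)
  have h2 : In x x := D.star' hx hx (Commute.refl x)
  have h3 := D.In_mul' hx h2 h1
  rwa [← mul_assoc, D.sq hx, one_mul] at h3

/-- (4c) -/
theorem four_c {x y : G} (hx : IsConj z x) (hy : IsConj z y) (h : ¬ SH M x y) :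
    Odd (orderOf (x * y)) := by
  by_contra hodd
  rw [Nat.not_odd_iff_even] at hodd
  apply h
  obtain ⟨m, hm⟩ := hodd
  have hxx := D.sq hx
  have hyy := D.sq hy
  have hpos := orderOf_pos (x * y)
  set c := (x * y) ^ m with hc
  have hcc : c * c = 1 := by rw [hc, ← pow_add, ← hm, pow_orderOf_eq_one]
  have hc1 : c ≠ 1 := by
    intro h'
    have := orderOf_dvd_of_pow_eq_one (hc ▸ h' : (x * y) ^ m = 1)
    have := Nat.le_of_dvd (by omega) this
    omega
  have hui : c⁻¹ = c := inv_eq_of_mul_eq_one_left hcc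
  have hcx : Commute x c := by
    have hux := conj_pow hxx hyy m
    rw [← hc, hui] at hux
    show x * c = c * x
    calc x * c = x * c * (x * x) := by rw [hxx, mul_one]
      _ = x * c * x * x := by group
      _ = c * x := by rw [hux]
  have hcy : Commute y c := by
    have huy := conj_pow' hxx hyy m
    rw [← hc, hui] at huy
    show y * c = c * y
    calc y * c = y * c * (y * y) := by rw [hyy, mul_one]
      _ = y * c * y * y := by group
      _ = c * y := by rw [huy]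
  have hxc : IsConj z (x * c) := by
    rcases mul_pow hxx hyy m with ⟨-, k, hk, hk'⟩ | ⟨-, k, hk, hk'⟩ <;>
      rw [hc, hk', conj_mem_iff D C] <;> assumption
  have hyc : IsConj z (y * c) := by
    have e : y * c = x * (x * y) ^ (m + 1) := by
      rw [pow_succ', hc]
      calc y * (x * y) ^ m = (x * x) * y * (x * y) ^ m := by rw [hxx, one_mul]
        _ = _ := by simp only [mul_assoc]
    rw [e]
    rcases mul_pow hxx hyy (m + 1) with ⟨-, k, hk, hk'⟩ | ⟨-, k, hk, hk'⟩ <;>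
      rw [hk', conj_mem_iff D C] <;> assumption
  rcases D.inv' hx (of_in D C hx hxc hcx) hcc hc1 with h1 | h1 | ⟨-, a, ha, hax, haW⟩
  · exact sh_link C hx h1 hcx.symm hcy
  · exact absurd hxc (D.W_all hx h1).2.2.2.2.1
  · exact (sh_of_comm C hx hax).trans (four_b D C ha haW hy hcy.symm hyc)

/-- an involution fixing `q` commutes with a conjugate of `z` fixing `q` -/
theorem exists_comm {w : G} (hw : w * w = 1) {q : G ⧸ M} (hq : w • q = q) :
    ∃ y, IsConj z y ∧ Commute y w ∧ y • q = q := by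
  obtain ⟨g, rfl⟩ := QuotientGroup.mk_surjective q
  have hw' : g⁻¹ * w * g ∈ M := by
    have h1 : ((w * g : G) : G ⧸ M) = (g : G ⧸ M) := hq
    rw [QuotientGroup.eq] at h1
    have := M.inv_mem h1
    have e : ((w * g)⁻¹ * g)⁻¹ = g⁻¹ * w * g := by group
    rwa [e] at this
  have hle : Subgroup.centralizer ({z} : Set G) ≤ M := by
    intro c hc
    exact C.cent c (Subgroup.mem_centralizer_singleton_iff.1 hc)
  have hrel : Odd ((Subgroup.centralizer ({z} : Set G)).subgroupOf M).index := by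
    have h1 := Subgroup.relIndex_mul_index hle
    have h2 := D.odd
    rw [← h1] at h2
    exact (Nat.odd_mul.1 h2).1
  let T := M ⧸ (Subgroup.centralizer ({z} : Set G)).subgroupOf M
  have : Fintype T := Fintype.ofFinite T
  let σ : Equiv.Perm T := MulAction.toPermHom M T ⟨_, hw'⟩
  have hσ : σ ^ 2 ^ 1 = 1 := by
    rw [pow_one, ← map_pow]
    have : (⟨_, hw'⟩ : M) ^ 2 = 1 := by
      apply Subtype.ext
      show (g⁻¹ * w * g) ^ 2 = 1
      rw [pow_two]
      calc g⁻¹ * w * g * (g⁻¹ * w * g) = g⁻¹ * (w * w) * g := by group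
        _ = 1 := by rw [hw]; group
    rw [this, map_one]
  have hcard : ¬ 2 ∣ Fintype.card T := by
    rw [← Nat.card_eq_fintype_card]
    have h1 : Odd (Nat.card T) := hrel
    rwa [← even_iff_two_dvd, Nat.not_even_iff_odd]
  have : Fact (Nat.Prime 2) := ⟨Nat.prime_two⟩
  obtain ⟨t, ht⟩ := Equiv.Perm.exists_fixed_point_of_prime hcard hσ
  obtain ⟨h, rfl⟩ := QuotientGroup.mk_surjective t
  have h1 : (((⟨_, hw'⟩ : M) * h : M) : T) = (h : T) := ht
  rw [QuotientGroup.eq, Subgroup.mem_subgroupOf, Subgroup.mem_centralizer_singleton_iff] at h1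
  have h2 : (((⟨_, hw'⟩ : M) * h)⁻¹ * h : M) = ((h : G)⁻¹ * (g⁻¹ * w * g) * h)⁻¹ := by
    show (g⁻¹ * w * g * h)⁻¹ * (h : G) = _
    group
  rw [h2] at h1
  have h3 : Commute ((h : G)⁻¹ * (g⁻¹ * w * g) * h) z := by
    have : Commute ((h : G)⁻¹ * (g⁻¹ * w * g) * h)⁻¹ z := h1
    have := this.inv_left
    rwa [inv_inv] at this
  refine ⟨g * h * z * (g * h)⁻¹, isConj_iff.2 ⟨g * h, rfl⟩, ?_, ?_⟩
  · have h4 := (commute_cj (g * h)).2 h3.symm
    have e : cj (g * h) ((h : G)⁻¹ * (g⁻¹ * w * g) * h) = w := by unfold cj; group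
    rw [e] at h4
    exact h4
  · rw [C.fix_iff]
    rw [QuotientGroup.eq]
    have : g⁻¹ * (g * h) = (h : G) := by group
    rw [this]
    exact h.2

theorem conj_of_odd {x y : G} (hxx : x * x = 1) (hyy : y * y = 1) (h : Odd (orderOf (x * y))) :
    ∃ k, Bi x y k ∧ x = k⁻¹ * y * k := by
  rcases mul_pow hxx hyy (orderOf (x * y)) with ⟨he, -⟩ | ⟨-, k, hk, hk'⟩
  · exact absurd h (Nat.not_odd_iff_even.2 he)
  · rw [pow_orderOf_eq_one, mul_one] at hk'
    exact ⟨k, hk, hk'⟩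

/-- (4d) -/
theorem four_d {x w : G} (hx : IsConj z x) (hW : W x w) {q : G ⧸ M} (hq : w • q = q) :
    x • q = q := by
  by_contra hne
  obtain ⟨w1, w2, a1, -, c1, -⟩ := D.W_all hx hW
  obtain ⟨y, hy, hyw, hyq⟩ := exists_comm D C w2 hq
  have hxy : ¬ SH M x y := by
    intro h
    exact hne ((SH.symm C hx hy h) q hyq)
  have hxx := D.sq hx
  have hyy := D.sq hy
  obtain ⟨k, hk, hk'⟩ := conj_of_odd D C hxx hyy (four_c D C hx hy hxy)
  have hWy : W y w := by
    have h1 := D.W_conj k _ _ hW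
    have hkw : Commute w k := hk w a1.symm hyw.symm
    have e1 : k * x * k⁻¹ = y := by rw [hk']; group
    have e2 : k * w * k⁻¹ = w := by rw [← hkw.eq]; group
    rwa [e1, e2] at h1
  obtain ⟨x1, b1, b2, b3, b4⟩ := D.beta' hx hW
  have hx1y : ¬ SH M x1 y := fun h => hxy ((sh_of_comm C hx b2).trans h)
  obtain ⟨l, hl, hl'⟩ := conj_of_odd D C (D.sq b1) hyy (four_c D C b1 hy hx1y)
  have hlw : Commute w l := hl w b3.symm hyw.symm
  apply (D.W_all hy hWy).2.2.2.2.1
  rw [← conj_mem_iff D C (k := l)]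
  have e : l⁻¹ * (y * w) * l = x1 * w := by
    rw [hl']
    calc l⁻¹ * (y * w) * l = l⁻¹ * y * (w * l) := by group
      _ = l⁻¹ * y * (l * w) := by rw [hlw.eq]
      _ = l⁻¹ * y * l * w := by group
  rw [e]
  exact b4

/-- **The closing argument.** -/
theorem closing : M = ⊤ := by
  by_contra hne
  obtain ⟨g, hg⟩ : ∃ g, g ∉ M := by
    by_contra hcon
    push Not at hcon
    exact hne (eq_top_iff.2 fun g _ => hcon g)
  obtain ⟨w, hw⟩ := D.exW
  have hz : IsConj z z := IsConj.refl z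
  have hx : IsConj z (g * z * g⁻¹) := isConj_iff.2 ⟨g, rfl⟩
  obtain ⟨w1, w2, a1, n1, c1, -⟩ := D.W_all hz hw
  have hzM : z • ((1 : G) : G ⧸ M) = ((1 : G) : G ⧸ M) := by
    have h1 : (1 : G) * z * 1⁻¹ = z := by group
    have := (C.fix_iff 1 ((1 : G) : G ⧸ M)).2 rfl
    rwa [h1] at this
  have hgM : (g * z * g⁻¹) • (g : G ⧸ M) = (g : G ⧸ M) := (C.fix_iff g _).2 rfl
  have hne' : ((1 : G) : G ⧸ M) ≠ (g : G ⧸ M) := by
    intro h
    rw [QuotientGroup.eq] at h
    apply hg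
    have e : (1 : G)⁻¹ * g = g := by group
    rwa [e] at h
  set x := g * z * g⁻¹ with hxdef
  have hxx := D.sq hx
  rcases Nat.even_or_odd (orderOf (x * w)) with he | ho
  · obtain ⟨m, hm⟩ := he
    have hpos := orderOf_pos (x * w)
    set c := (x * w) ^ m with hc
    have hcc : c * c = 1 := by rw [hc, ← pow_add, ← hm, pow_orderOf_eq_one]
    have hcne : c ≠ 1 := by
      intro h'
      have := orderOf_dvd_of_pow_eq_one (hc ▸ h' : (x * w) ^ m = 1)
      have := Nat.le_of_dvd (by omega) this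
      omega
    have hui : c⁻¹ = c := inv_eq_of_mul_eq_one_left hcc
    have hcx : Commute x c := by
      have hux := conj_pow hxx w2 m
      rw [← hc, hui] at hux
      show x * c = c * x
      calc x * c = x * c * (x * x) := by rw [hxx, mul_one]
        _ = x * c * x * x := by group
        _ = c * x := by rw [hux]
    have hcw : Commute w c := by
      have huy := conj_pow' hxx w2 m
      rw [← hc, hui] at huy
      show w * c = c * w
      calc w * c = w * c * (w * w) := by rw [w2, mul_one]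
        _ = w * c * w * w := by group
        _ = c * w := by rw [huy]
    -- `c` fixes both homes
    have f1 : c • (g : G ⧸ M) = (g : G ⧸ M) := C.fix_of_comm hx hcx.symm hgM
    have f2 : c • ((1 : G) : G ⧸ M) = ((1 : G) : G ⧸ M) := by
      have h1 : w • (c • ((1 : G) : G ⧸ M)) = c • ((1 : G) : G ⧸ M) := by
        rw [← mul_smul, hcw.eq, mul_smul, C.fix_of_comm hz a1.symm hzM]
      have h2 := four_d D C hz hw h1
      exact C.unique hz h2 hzM
    have hin : In x c := by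
      rcases mul_pow hxx w2 m with ⟨-, k, hk, hk'⟩ | ⟨-, k, hk, hk'⟩
      · apply of_in D C hx _ hcx
        rw [hc, hk', conj_mem_iff D C]; exact hx
      · -- `x c` is conjugate to `w`
        rw [← hc] at hk'
        have h1 := D.W_conj k⁻¹ _ _ hw
        rw [inv_inv, ← hk'] at h1
        have h2 : IsConj z (k⁻¹ * z * k) := (conj_mem_iff D C).2 hz
        obtain ⟨d1, d2, d3, d4, d5, d6⟩ := D.W_all h2 h1
        have h3 : In x (x * c) := D.con' h2 hx d2 d3 ((Commute.refl x).mul_right hcx) d6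
        have h4 : In x x := D.star' hx hx (Commute.refl x)
        have h5 := D.In_mul' hx h4 h3
        rwa [← mul_assoc, hxx, one_mul] at h5
    rcases D.inv' hx hin hcc hcne with h1 | h1 | ⟨-, a, ha, hax, haW⟩
    · exact hne' (C.unique h1 f2 f1)
    · exact hne' (C.unique hx (four_d D C hx h1 f2) hgM)
    · exact hne' (C.unique ha (four_d D C ha haW f2) (four_d D C ha haW f1))
  · obtain ⟨k, -, hk'⟩ := conj_of_odd D C hxx w2 ho
    apply n1
    rw [← conj_mem_iff D C (k := k), ← hk']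
    exact hx

end homes

end Cfsg.Agent.TypeD4Three.Closing
end

-- part: TypeD4Three/Inst
section
prune_inst 0x430000510456200000000059201001c46ae000192006b00016020034207c80f01e0068721bce01610011886740038004002000099404800000a008a0041180080040212020040a000210000008804000000000000000000000000000000000004000000000
set_option linter.all false
open scoped Cfsg.Agent.FastGrp

/-!
# S1763, case [P]: `M = G` (helper948)

`eq_top`: a subgroup containing `C_G(z)` and `A` (for one pair) is the whole group.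
-/

set_option autoImplicit false

namespace Cfsg.Agent.TypeD4Three.Inst

open Cfsg.Agent.Co2Type.Quad Cfsg.Agent.LargeExtra.Base Cfsg.Agent.LargeExtra.Local
open Cfsg.Agent.TypeD4Three.StarModel Cfsg.Agent.TypeD4Three.StarFrame Cfsg.Agent.TypeD4Three.StarEdge
open Cfsg.Agent.TypeD4Three.LocIface Cfsg.Agent.TypeD4Three.InstModel Cfsg.Agent.TypeD4Three.Star
open Cfsg.Agent.TypeD4Three.InstBase Cfsg.Agent.TypeD4Three.InstFix Cfsg.Agent.TypeD4Three.InstCon
open Cfsg.Agent.TypeD4Three.InstSwap Cfsg.Agent.TypeD4Three.InstS Cfsg.Agent.TypeD4Three.Closing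

variable {G : Type*} [Group G] {Q : Subgroup G} {z : G} {lz : Large Q z} {F : Frame lz}

theorem exists_W1 (F : Frame lz) : ∃ w, W1 F w := by
  obtain ⟨r, hr⟩ := lz.pr_surjective (F.sg 0 (1, 0) + F.sg 1 (1, 0))
  refine ⟨r, r.2, ?_⟩
  show isTwo (F.φ (lz.pr r))
  rw [hr, map_add, F.φ_sg, F.φ_sg]
  refine ⟨0, 1, by decide, fun j => ?_⟩
  rw [Pi.add_apply]
  fin_cases j <;> decide

/-- the instance of the closing argument -/
theorem data [Finite G] (H : Hyp F) (L : Loc F) : Data z (In F) (Wt F) (St F) where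
  z_ne := lz.z_ne
  z_sq := lz.z_sq
  odd := Cfsg.Agent.LargeExtra.TwoCentral.odd_index lz
  In_conj g s w h := in_conj g h
  W_conj g s w h := Wt_conj g h
  S_conj g s w v h := St_conj g h
  In_mul w w' h h' := in_mul h h'
  star t ht hc := in_z.2 (star H ht hc.eq.symm)
  con s hs w hw hzw hsw hin := con H L hs hw hzw.eq.symm hsw.eq.symm hin
  exW := by
    obtain ⟨w, hw⟩ := exists_W1 F
    exact ⟨w, Wt_z.2 hw⟩
  W_ne w hw := by
    rintro rfl
    exact (Wt_z.1 hw).ne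
  W_sq w hw := (Wt_z.1 hw).sq L
  W_comm w hw := by
    obtain ⟨hwQ, -⟩ := Wt_z.1 hw
    exact (lz.comm_z w hwQ).symm
  W_not w hw := (Wt_z.1 hw).not_isConj L
  W_not' w hw := (Wt_z.1 hw).mul_z.not_isConj L
  W_in w hw := by
    obtain ⟨hwQ, -⟩ := Wt_z.1 hw
    exact in_z.2 (F.Q_le_C1 hwQ)
  inv w hin hww hw1 := by
    rcases inv H L (in_z.1 hin) hww hw1 with h | h | ⟨-, h, a, ha, haz, haw⟩
    · exact Or.inl h
    · exact Or.inr (Or.inl (Wt_z.2 h))
    · exact Or.inr (Or.inr ⟨h, a, ha, haz, haw⟩)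
  beta w hw := by
    obtain ⟨y, h1, h2, h3, h4⟩ := beta H (Wt_z.1 hw)
    exact ⟨y, h1, h2, h3, h4⟩
  c1 w hw x hx hzx hwx hne hxw := c1 H L (Wt_z.1 hw) hx hzx.eq hwx.eq hne hxw
  c2 w hw y hy hzy hwy hyw h1 _ := by
    obtain ⟨a, h1, h2, h3⟩ := c2 H L (Wt_z.1 hw) hy hzy.eq hwy.eq hyw h1
    exact ⟨a, h1, h2, h3⟩
  S_comm w v h := by
    obtain ⟨hwQ, hvQ, hS⟩ := St_z.1 h
    obtain ⟨i1, i2, i3, i4⟩ := isS_all _ _ hS
    refine ⟨(lz.comm_z w hwQ).symm, (lz.comm_z v hvQ).symm, ?_⟩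
    refine (lz.b_pr ⟨w, hwQ⟩ ⟨v, hvQ⟩).1 ?_
    rw [F.hb]; exact i4
  S_sq w v h := by
    obtain ⟨hwQ, hvQ, hS⟩ := St_z.1 h
    obtain ⟨i1, i2, i3, i4⟩ := isS_all _ _ hS
    exact ⟨sq_of_two L (x := ⟨w, hwQ⟩) i1, sq_of_two L (x := ⟨v, hvQ⟩) i2⟩
  S_not w v h := by
    obtain ⟨hwQ, hvQ, hS⟩ := St_z.1 h
    obtain ⟨i1, i2, i3, i4⟩ := isS_all _ _ hS
    refine ⟨?_, ?_, ?_⟩
    · exact (W1.mul_z (F := F) ⟨hwQ, i1⟩).not_isConj L
    · exact (W1.mul_z (F := F) ⟨hvQ, i2⟩).not_isConj L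
    · refine (W1.mul_z (F := F) (w := w * v) ⟨mul_mem hwQ hvQ, ?_⟩).not_isConj L
      have : lz.pr ⟨w * v, mul_mem hwQ hvQ⟩ = lz.pr ⟨w, hwQ⟩ + lz.pr ⟨v, hvQ⟩ :=
        lz.pr_mul ⟨w, hwQ⟩ ⟨v, hvQ⟩
      rw [this, map_add]
      exact i3
  S_c w v h x hx hzx hwx hvx hne := S_c H L (St_z.1 h) hx hzx.eq hwx.eq hvx.eq hne

/-! ### fusion in `M` -/

/-- `t ∈ M` an involution: some `M`-conjugate lies in `C_G(z)` -/
theorem exists_conj_cent [Finite G] (lz : Large Q z) {M : Subgroup G} (hC : ∀ c, c * z = z * c → c ∈ M)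
    {t : G} (htM : t ∈ M) (ht : t * t = 1) : ∃ m ∈ M, (m⁻¹ * t * m) * z = z * (m⁻¹ * t * m) := by
  have hle : Subgroup.centralizer ({z} : Set G) ≤ M := by
    intro c hc
    exact hC c (Subgroup.mem_centralizer_singleton_iff.1 hc)
  have hrel : Odd ((Subgroup.centralizer ({z} : Set G)).subgroupOf M).index := by
    have h1 := Subgroup.relIndex_mul_index hle
    have h2 := Cfsg.Agent.LargeExtra.TwoCentral.odd_index lz
    rw [← h1] at h2
    exact (Nat.odd_mul.1 h2).1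
  have htt : (⟨t, htM⟩ : M) * ⟨t, htM⟩ = 1 := Subtype.ext ht
  obtain ⟨q, hq⟩ := exists_fix (T := M ⧸ (Subgroup.centralizer ({z} : Set G)).subgroupOf M) hrel
    (fun q => (⟨t, htM⟩ : M) • q) (fun q => by
      show (⟨t, htM⟩ : M) • (⟨t, htM⟩ : M) • q = q
      rw [← mul_smul, htt, one_smul])
  obtain ⟨m, rfl⟩ := QuotientGroup.mk_surjective q
  have h1 : (((⟨t, htM⟩ : M) * m : M) : M ⧸ (Subgroup.centralizer ({z} : Set G)).subgroupOf M) =
    (m : M ⧸ (Subgroup.centralizer ({z} : Set G)).subgroupOf M) := hq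
  rw [QuotientGroup.eq, Subgroup.mem_subgroupOf, Subgroup.mem_centralizer_singleton_iff] at h1
  have h2 : (((⟨t, htM⟩ : M) * m)⁻¹ * m : M) = ((m : G)⁻¹ * t * m)⁻¹ := by
    show (t * m)⁻¹ * (m : G) = _
    group
  rw [h2] at h1
  refine ⟨m, m.2, ?_⟩
  have h3 : Commute ((m : G)⁻¹ * t * m)⁻¹ z := h1
  have h4 := h3.inv_left
  rw [inv_inv] at h4
  exact h4.eq

theorem ctl [Finite G] (H : Hyp F) (L : Loc F) {A : Subgroup G} {a : G} (p : Pair Q z A a)
    {M : Subgroup G} (hC : ∀ c, c * z = z * c → c ∈ M) (hA : A ≤ M) : Ctl M z where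
  cent c hc := hC c hc.eq
  fus := by
    have hQM : Q ≤ M := fun x hx => hC x (lz.comm_z x hx)
    -- `a` is conjugate to `z` in `M`
    have h0 : ∃ m ∈ M, a = m * z * m⁻¹ := by
      obtain ⟨y, hy, hyz⟩ := exists_not_comm p.la p.z_mem lz.z_ne p.ne.symm
      obtain ⟨q, hq, hqa⟩ := exists_not_comm lz p.a_mem p.la.z_ne p.ne
      refine ⟨q⁻¹ * y, mul_mem (inv_mem (hQM hq)) (hA hy), ?_⟩
      have hya : y * a = a * y := p.la.comm_z y hy
      have e1 : y * z * y⁻¹ = z * a := by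
        rw [hyz]
        calc z * y * a * y⁻¹ = z * (y * a) * y⁻¹ := by group
          _ = z * a := by rw [hya]; group
      have hqz : q * z = z * q := lz.comm_z q hq
      have e2 : q * a * q⁻¹ = z * a := by
        rw [hqa]
        calc a * q * z * q⁻¹ = a * (q * z) * q⁻¹ := by group
          _ = a * z := by rw [hqz]; group
          _ = z * a := p.comm_za
      calc a = q⁻¹ * (q * a * q⁻¹) * q := by group
        _ = q⁻¹ * (y * z * y⁻¹) * q := by rw [e2, e1]
        _ = q⁻¹ * y * z * (q⁻¹ * y)⁻¹ := by group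
    obtain ⟨m0, hm0, ha⟩ := h0
    -- conjugates in `Q`
    have hQ : ∀ t ∈ Q, IsConj z t → ∃ m ∈ M, t = m * z * m⁻¹ := by
      intro t ht hzt
      by_cases hne : t = z
      · exact ⟨1, M.one_mem, by rw [hne]; group⟩
      · have h1 := full_of_isConj L (x := ⟨t, ht⟩) hzt hne
        obtain ⟨c, hcz, hc⟩ := L.trans ⟨a, p.a_mem⟩ ⟨t, ht⟩ (fun k => L.full p k) h1
        refine ⟨c * m0, mul_mem (hC c hcz) hm0, ?_⟩
        have hc' : c * a * c⁻¹ = t := hc
        rw [← hc', ha]; group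
    -- conjugates in `C(z)`
    have hCz : ∀ t, t * z = z * t → IsConj z t → ∃ m ∈ M, t = m * z * m⁻¹ := by
      intro t htz ht
      by_cases htQ : t ∈ Q
      · exact hQ t htQ ht
      have htC : t ∈ F.C1 := star H ht htz
      obtain ⟨B, b, q, hB⟩ := H.invol htC (sq_of_isConj lz ht) htQ
      obtain ⟨c, hcz, hc⟩ := L.trans ⟨a, p.a_mem⟩ ⟨b, q.a_mem⟩ (fun k => L.full p k)
        (fun k => L.full q k)
      have hc' : c * a * c⁻¹ = b := hc
      have h1 : InQ Q z b t := (inQ_pair q).2 hB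
      have h2 := inQ_conj (c * m0)⁻¹ h1
      have e1 : (c * m0)⁻¹ * b * ((c * m0)⁻¹)⁻¹ = z := by
        rw [← hc', ha]; group
      rw [e1, inQ_z lz] at h2
      have h3 : IsConj z ((c * m0)⁻¹ * t * ((c * m0)⁻¹)⁻¹) :=
        ht.trans (isConj_iff.2 ⟨_, rfl⟩)
      obtain ⟨m, hm, h4⟩ := hQ _ h2 h3
      refine ⟨c * m0 * m, mul_mem (mul_mem (hC c hcz) hm0) hm, ?_⟩
      calc t = (c * m0) * ((c * m0)⁻¹ * t * ((c * m0)⁻¹)⁻¹) * (c * m0)⁻¹ := by group
        _ = (c * m0) * (m * z * m⁻¹) * (c * m0)⁻¹ := by rw [h4]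
        _ = _ := by group
    intro g hg
    have hconj : IsConj z (g * z * g⁻¹) := isConj_iff.2 ⟨g, rfl⟩
    obtain ⟨m, hm, h1⟩ := exists_conj_cent lz hC hg (sq_of_isConj lz hconj)
    obtain ⟨m', hm', h2⟩ := hCz _ h1 ((isConj_conj m).2 hconj)
    have h3 : (m * m')⁻¹ * g ∈ M := by
      apply hC
      calc (m * m')⁻¹ * g * z = m'⁻¹ * (m⁻¹ * (g * z * g⁻¹) * m) * m⁻¹ * g := by group
        _ = m'⁻¹ * (m' * z * m'⁻¹) * m⁻¹ * g := by rw [h2]
        _ = z * ((m * m')⁻¹ * g) := by group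
    have e : g = (m * m') * ((m * m')⁻¹ * g) := by group
    rw [e]
    exact mul_mem (mul_mem hm hm') h3

/-- **The closing theorem.** -/
theorem eq_top [Finite G] (H : Hyp F) (L : Loc F) {A : Subgroup G} {a : G} (p : Pair Q z A a)
    (M : Subgroup G) (hC : ∀ c, c * z = z * c → c ∈ M) (hA : A ≤ M) : M = ⊤ :=
  closing (data H L) (ctl H L p hC hA)

end Cfsg.Agent.TypeD4Three.Inst
end
end
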